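import Cfsg.Agent.Mrg.Omega.NO1.Tens.MoInst
import Cfsg.Agent.Mrg.Omega.NO1.Beta.Apply


/-!
# Type (γ) of the leaf N1: the application (helper914)

`Sy D S Z` : `S ≤ N` a Sylow 2-subgroup, `Z = Ω₁(Z(S)) ≤ V`, characteristic 2, `V ≰ O₂(C(Z))`, `|V : V ∩ O₂(C(Z))| ≥ 4`.
Then, after moving the coordinates, `S` fixes `D.R0`, `Z ≤ D.R0` and `Cx D` holds (`Sy.main`).
-/

set_option autoImplicit false
set_option linter.unusedSectionVars false
set_option linter.unusedVariables false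

namespace Cfsg.Agent.Omega.NO1.PlusQ

open Subgroup Cfsg Matrix
open Cfsg.Agent.Omega.NO1.Tens
open Cfsg.Agent.Omega.NO1.BetaPlus (Mv QQ)
open Cfsg.Agent.Omega.NO1.Beta.Meet (cj mem_cj cj_mul)
open Cfsg.Agent.Omega.NO1.Beta.Inst (exists_conj_mem le_sylow cj_one)
open Cfsg.Agent.ZN (o2)
open scoped Pointwise

universe u

variable {G : Type u} [Group G] {F : Type} [Field F] {N V : Subgroup G} {D : PlusQ F N V} [CharP F 2]

/-! ### `S` fixes a point -/

section fixed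

variable [Finite G] (hN : ∀ m ∈ N, Mv m V V) (three : ∃ t : F, t ≠ 0 ∧ t ≠ 1)
include hN three

theorem perm0 {g : G} (hg : g ∈ N) (i j : Option F) : ∃ k l, Mv g (D.R i j) (D.R k l) := by
  obtain ⟨t, ht0, ht1⟩ := three
  obtain ⟨a, ha, haA⟩ := lift_act (D := D) hN (rep i) (rep j)
  have hag : g * a ∈ N := mul_mem hg ha
  obtain ⟨A, B, c, hc⟩ := exists_e0 ((nm (D := D) hN hag).det_eq_zero ht0 ht1 (det_e0 1))
  obtain ⟨b, hb, hbA⟩ := lift_act (D := D) hN A B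
  have hmem : b⁻¹ * (g * a) ∈ N := mul_mem (inv_mem hb) hag
  have h0 : D.act (b⁻¹ * (g * a)) (e0 1) = e0 c := by
    rw [act_mul hN (inv_mem hb) hag, hc, act_inv_of hN hb hbA, Tens.act_inv_act]
  have h1 := (fix_iff hN hmem).2 ((nm (D := D) hN hmem).fix0 ht0 ht1 one_ne_zero h0)
  have h2 := mv_RA hN ha haA 1 1
  have h3 := mv_RA hN hb hbA 1 1
  rw [mul_one, mul_one, RA_one] at h2 h3
  have h4 := (h3.mul h1).mul h2.inv
  have e : b * (b⁻¹ * (g * a)) * a⁻¹ = g := by group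
  rw [e] at h4
  obtain ⟨k, l, -, -, -, -, -, -, e2⟩ := exists_R (D := D) A B
  rw [e2] at h4
  exact ⟨k, l, h4⟩

/-- the set of points -/
def Pt (D : PlusQ F N V) : Type _ := {R : Subgroup G // ∃ i j, R = D.R i j}

theorem card_Pt [Finite F] : Nat.card (Pt D) = (Nat.card F + 1) * (Nat.card F + 1) := by
  have h1 : Function.Bijective (fun p : Option F × Option F => (⟨D.R p.1 p.2, p.1, p.2, rfl⟩ : Pt D)) := by
    constructor
    · rintro ⟨i, j⟩ ⟨k, l⟩ h
      have h2 := R_inj (congrArg Subtype.val h)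
      exact Prod.ext h2.1 h2.2
    · rintro ⟨R, i, j, rfl⟩
      exact ⟨(i, j), rfl⟩
  have h2 : Nat.card (Option F × Option F) = Nat.card (Pt D) := Nat.card_congr (Equiv.ofBijective _ h1)
  rw [← h2, Nat.card_prod, Finite.card_option]

/-- the action of `S ≤ N` on the points -/
@[instance_reducible] def actPt {S : Subgroup G} (hS : S ≤ N) : MulAction S (Pt D) where
  smul s i := ⟨cj (s : G) i.1, by
    obtain ⟨k, l, he⟩ := i.2
    obtain ⟨k', l', h1⟩ := perm0 (D := D) hN three (hS s.2) k l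
    exact ⟨k', l', by rw [he, h1.cj_eq]⟩⟩
  one_smul i := Subtype.ext (cj_one _)
  mul_smul s t i := Subtype.ext (cj_mul _ _ _)

theorem exists_fixed [Finite F] {S : Subgroup G} (hS : S ≤ N) (h2 : IsPGroup 2 S) :
    ∃ i j, ∀ s ∈ S, cj s (D.R i j) = D.R i j := by
  have : Fact (Nat.Prime 2) := ⟨Nat.prime_two⟩
  let _ := actPt (D := D) hN three hS
  have h1 : ¬ 2 ∣ Nat.card (Pt D) := by
    rw [card_Pt (D := D) hN three]
    have h3 := Beta.Inst.two_dvd_card (K := F)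
    obtain ⟨k, hk⟩ := h3
    rw [hk]
    intro h4
    rcases (Nat.Prime.dvd_mul Nat.prime_two).1 h4 with h5 | h5 <;> omega
  have : Finite (Pt D) := by
    have : Finite (Subgroup G) := inferInstance
    exact inferInstanceAs (Finite {R : Subgroup G // ∃ i j, R = D.R i j})
  obtain ⟨x, hx⟩ := h2.nonempty_fixed_point_of_prime_not_dvd_card (Pt D) h1
  obtain ⟨i, j, he⟩ := x.2
  refine ⟨i, j, fun s hs => ?_⟩
  rw [← he]
  have h3 := hx ⟨s, hs⟩
  exact congrArg Subtype.val h3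

end fixed

/-! ### `S` covers `U₀` and contains a swap -/

section cover

variable [Finite G] (hN : ∀ m ∈ N, Mv m V V) {t : F} (ht0 : t ≠ 0) (ht1 : t ≠ 1)

/-- the elements inducing elements of `U₀` -/
def Wg (D : PlusQ F N V) (hN : ∀ m ∈ N, Mv m V V) : Subgroup G where
  carrier := {g | g ∈ N ∧ ∃ a b, ∀ X, D.act g X = Tens.act (up a) (up b) X}
  one_mem' := ⟨one_mem _, 0, 0, fun X => by rw [up_zero, act_one, act_one_eq hN]⟩
  mul_mem' := by
    rintro x y ⟨hx, a, b, h1⟩ ⟨hy, c, d, h2⟩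
    exact ⟨mul_mem hx hy, a + c, b + d, fun X => by rw [act_mul hN hx hy, h2, h1, act_act, up_add, up_add]⟩
  inv_mem' := by
    rintro x ⟨hx, a, b, h1⟩
    refine ⟨inv_mem hx, a, b, fun X => ?_⟩
    rw [act_inv_of hN hx h1, up_inv, up_inv]

include hN

theorem odd_pow {g : G} (hg : g ∈ N) {a b : F} (h : ∀ X, D.act g X = Tens.act (up a) (up b) X) (k : ℕ) (X : M2 F) :
    D.act (g ^ (2 * k + 1)) X = Tens.act (up a) (up b) X := by
  rw [← act_pow hN hg]
  have h1 : ∀ X, (D.act g)^[2 * k] X = X := by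
    intro X
    have h2 : (D.act g)^[2] = id := by
      funext X
      show D.act g (D.act g X) = X
      rw [h, h, act_up_up]
    rw [Function.iterate_mul, h2, Function.iterate_id]; rfl
  rw [Function.iterate_succ_apply, h1, h]

theorem exists_odd (g : G) : ∃ k n : ℕ, (g ^ (2 * k + 1)) ^ 2 ^ n = 1 := by
  have _ := hN
  have h0 : orderOf g ≠ 0 := (orderOf_pos g).ne'
  obtain ⟨n, m, ⟨k, hk⟩, he⟩ := Nat.exists_eq_two_pow_mul_odd h0
  refine ⟨k, n, ?_⟩
  rw [← hk, ← pow_mul, mul_comm m, ← he]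
  exact pow_orderOf_eq_one g

include ht0 ht1

/-- **`S` covers `U₀`.** -/
theorem cover_S (S : Sylow 2 G) (hS : (S : Subgroup G) ≤ N)
    (hR : ∀ s ∈ (S : Subgroup G), Mv s D.R0 D.R0) (a b : F) :
    ∃ s ∈ (S : Subgroup G), ∀ X, D.act s X = Tens.act (up a) (up b) X := by
  obtain ⟨g, hg, hgA⟩ := lift_act (D := D) hN (up a) (up b)
  obtain ⟨k, n, hkn⟩ := exists_odd hN g
  have h1 := odd_pow hN hg hgA k
  have h1N : g ^ (2 * k + 1) ∈ N := pow_mem hg _
  have h1W : g ^ (2 * k + 1) ∈ Wg D hN := ⟨h1N, a, b, h1⟩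
  have hconj : ∀ s ∈ (S : Subgroup G), ∀ y ∈ Wg D hN, s * y * s⁻¹ ∈ Wg D hN := by
    rintro s hs y ⟨hy, c, d, hcd⟩
    refine ⟨mul_mem (mul_mem (hS hs) hy) (inv_mem (hS hs)), ?_⟩
    exact U_conj hN ht0 ht1 (hS hs) hy ((fix_iff hN (hS hs)).1 (hR s hs)) hcd
  have hSW : (S : Subgroup G) ≤ normalizer (Wg D hN : Set G) := by
    intro s hs
    rw [mem_normalizer_iff]
    intro y
    refine ⟨fun hy => hconj s hs y hy, fun hy => ?_⟩
    have := hconj s⁻¹ (inv_mem hs) _ hy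
    have e : s⁻¹ * (s * y * s⁻¹) * s⁻¹⁻¹ = y := by group
    rwa [e] at this
  obtain ⟨l, hl, hlS⟩ := exists_conj_mem S (L := (S : Subgroup G) ⊔ Wg D hN) le_sup_left
    (mem_sup_right h1W) hkn
  rw [← SetLike.mem_coe, Subgroup.coe_mul_of_left_le_normalizer_right _ _ hSW, Set.mem_mul] at hl
  obtain ⟨s, hs, x, hx, rfl⟩ := hl
  obtain ⟨hxN, c, d, hxA⟩ := hx
  have h2 : x * g ^ (2 * k + 1) * x⁻¹ ∈ (S : Subgroup G) := by
    have h3 := (S : Subgroup G).mul_mem ((S : Subgroup G).mul_mem ((S : Subgroup G).inv_mem hs) hlS) hs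
    have e : s⁻¹ * (s * x * g ^ (2 * k + 1) * (s * x)⁻¹) * s = x * g ^ (2 * k + 1) * x⁻¹ := by group
    rwa [e] at h3
  refine ⟨_, h2, fun X => ?_⟩
  rw [act_conj hN hxN h1N]
  show D.act x (D.act (g ^ (2 * k + 1)) (D.act x⁻¹ X)) = _
  rw [h1, act_inv_of hN hxN hxA, hxA, up_inv, up_inv, act_act, act_act, ← up_add, ← up_add, ← up_add, ← up_add]
  have e1 : ∀ c a : F, c + a + c = a := fun c a => by
    have := CharTwo.add_self_eq_zero c
    linear_combination this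
  rw [e1, e1]

/-- **`S` contains an element interchanging the factors.** -/
theorem S_swap (S : Sylow 2 G) (hS : (S : Subgroup G) ≤ N) : ∃ s ∈ (S : Subgroup G), T2 (D.act s) := by
  obtain ⟨g, hg, hgT⟩ := exists_T2 (D := D) hN ht0 ht1
  obtain ⟨k, n, hkn⟩ := exists_odd hN g
  have h1 : T2 (D.act (g ^ (2 * k + 1))) := by
    have h2 : D.act (g ^ (2 * k + 1)) = (D.act g)^[2 * k + 1] := funext fun X => (act_pow hN hg _ X).symm
    rw [h2]
    exact T2_iter hgT k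
  have h1N : g ^ (2 * k + 1) ∈ N := pow_mem hg _
  obtain ⟨l, hl, hlS⟩ := exists_conj_mem S hS h1N hkn
  exact ⟨_, hlS, T2_conj hN ht0 ht1 hl h1N h1⟩

end cover

/-- The hypotheses of the application. -/
structure Sy (D : PlusQ F N V) (S : Sylow 2 G) (Z : Subgroup G) : Prop where
  hN : ∀ m ∈ N, Mv m V V
  C_N : centralizer (V : Set G) ≤ N
  S_N : (S : Subgroup G) ≤ N
  Z_V : Z ≤ V
  Z_S : ∀ z ∈ Z, ∀ s ∈ (S : Subgroup G), z * s = s * z
  Z_max : ∀ x ∈ (S : Subgroup G), x * x = 1 → (∀ s ∈ (S : Subgroup G), x * s = s * x) → x ∈ Z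
  char2N : ∀ R : Subgroup G, R ≠ ⊥ → R ≤ V → (S : Subgroup G) ≤ normalizer (R : Set G) →
    normalizer (R : Set G) ⊓ centralizer (QQ R : Set G) ≤ QQ R
  char2C : centralizer (Z : Set G) ⊓ centralizer (o2 (centralizer (Z : Set G)) : Set G) ≤
    o2 (centralizer (Z : Set G))
  V_Qt : ¬ V ≤ o2 (centralizer (Z : Set G))
  four : 4 ≤ (V ⊓ o2 (centralizer (Z : Set G))).relIndex V
  three : ∃ t : F, t ≠ 0 ∧ t ≠ 1

namespace Sy

variable [Finite G] {S : Sylow 2 G} {Z : Subgroup G} (h : Sy D S Z)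

theorem conj (h : Sy D S Z) {m : G} (hm : m ∈ N) : Sy (D.conj h.hN m hm) S Z :=
  ⟨h.hN, h.C_N, h.S_N, h.Z_V, h.Z_S, h.Z_max, h.char2N, h.char2C, h.V_Qt, h.four, h.three⟩

include h

/-- after moving the coordinates `S` fixes the point `0` -/
theorem exists_fix [Finite F] : ∃ D' : PlusQ F N V, Sy D' S Z ∧ ∀ s ∈ (S : Subgroup G), Mv s D'.R0 D'.R0 := by
  obtain ⟨i, j, hij⟩ := exists_fixed (D := D) h.hN h.three h.S_N S.isPGroup'
  obtain ⟨m, hm, hmA⟩ := lift_act (D := D) h.hN (rep i) (rep j)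
  refine ⟨D.conj h.hN m hm, h.conj hm, fun s hs => ?_⟩
  have e0 : (D.conj h.hN m hm).R0 = D.R i j := by
    rw [← RA_one, conj_RA h.hN hm hmA, mul_one, mul_one]; rfl
  rw [e0]
  exact Mv.of_cj (hij s hs)

/-- `W ∩ V = 1` implies `W = 1` for normal 2-subgroups `W` of `N` -/
theorem meet (W : Subgroup G) (hW : IsPGroup 2 W) (hWN : W ≤ N)
    (hn : ∀ m ∈ N, ∀ y ∈ W, m * y * m⁻¹ ∈ W) (hWV : W ⊓ V = ⊥) : W = ⊥ := by
  have : Fact (Nat.Prime 2) := ⟨Nat.prime_two⟩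
  have hNS : W ≤ S := le_sylow S h.S_N hW hn
  by_contra hne
  obtain ⟨n0, hn0, hn1⟩ : ∃ n ∈ W, n ≠ 1 := by
    by_contra hcon
    push Not at hcon
    exact hne ((eq_bot_iff_forall _).2 hcon)
  obtain ⟨n, hnN, hn1, hnc⟩ := GTwoFour.Tools.exists_fixed_mod (Y := (S : Subgroup G)) (N := W)
    (M := ⊥) S.isPGroup' hNS (fun y hy n hn' => hn y (h.S_N hy) n hn')
    (fun y hy m hm => by rw [mem_bot] at hm ⊢; rw [hm]; group) ⟨n0, hn0, hn1⟩
  have hcen : ∀ s ∈ (S : Subgroup G), n * s = s * n := by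
    intro s hs
    have h1 := hnc s hs
    rw [mem_bot, commutatorElement_eq_one_iff_mul_comm] at h1
    exact h1.symm
  have hne1 : n ≠ 1 := fun h0 => hn1 (by rw [h0]; exact Subgroup.one_mem _)
  obtain ⟨k, hk⟩ := hW ⟨n, hnN⟩
  have hk' : n ^ 2 ^ k = 1 := by simpa using congrArg Subtype.val hk
  have hex : ∃ k, n ^ 2 ^ k = 1 := ⟨k, hk'⟩
  classical
  have hf := Nat.find_spec hex
  set j := Nat.find hex with hj
  have hj0 : j ≠ 0 := by
    intro h0
    rw [h0, pow_zero, pow_one] at hf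
    exact hne1 hf
  obtain ⟨i, hi⟩ := Nat.exists_eq_succ_of_ne_zero hj0
  have hlt : n ^ 2 ^ i ≠ 1 := Nat.find_min hex (by omega)
  have hz : n ^ 2 ^ i ∈ Z := by
    apply h.Z_max _ (hNS (W.pow_mem hnN _))
    · rw [← pow_add, ← two_mul, ← pow_succ', ← Nat.succ_eq_add_one, ← hi]
      exact hf
    · intro s hs
      exact (Commute.pow_left (hcen s hs) _)
  apply hlt
  have : n ^ 2 ^ i ∈ W ⊓ V := mem_inf.mpr ⟨W.pow_mem hnN _, h.Z_V hz⟩
  rw [hWV, mem_bot] at this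
  exact this

theorem Qt_S : o2 (centralizer (Z : Set G)) ≤ S := by
  refine le_sylow S (L := centralizer (Z : Set G)) ?_ (Cfsg.Agent.ZN.isPGroup_o2 _) ?_
  · intro s hs
    rw [mem_centralizer_iff]
    intro z hz
    exact h.Z_S z hz s hs
  · intro c hc y hy
    exact (mem_normalizer_iff.1 (Cfsg.Agent.ZN.le_normalizer_o2 _ hc) y).1 hy

theorem Qt_nor {c : G} (hc : c ∈ centralizer (Z : Set G)) {y : G} (hy : y ∈ o2 (centralizer (Z : Set G))) :
    c * y * c⁻¹ ∈ o2 (centralizer (Z : Set G)) :=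
  (mem_normalizer_iff.1 (Cfsg.Agent.ZN.le_normalizer_o2 _ hc) y).1 hy

theorem V_CZ : V ≤ centralizer (Z : Set G) := by
  intro v hv
  rw [mem_centralizer_iff]
  exact fun z hz => D.comm (h.Z_V hz) hv

theorem S_CZ : (S : Subgroup G) ≤ centralizer (Z : Set G) := by
  intro s hs
  rw [mem_centralizer_iff]
  exact fun z hz => h.Z_S z hz s hs

variable (hR : ∀ s ∈ (S : Subgroup G), Mv s D.R0 D.R0)
include hR

/-- `Z ≤ R₀` -/
theorem Z_R0 : Z ≤ D.R0 := by
  obtain ⟨t, ht0, ht1⟩ := h.three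
  intro z hz
  have key : ∀ a b, Tens.act (up a) (up b) (D.e z) = D.e z := by
    intro a b
    obtain ⟨s, hs, hsA⟩ := cover_S h.hN ht0 ht1 S h.S_N hR a b
    rw [← hsA, act_e h.hN (h.S_N hs) (h.Z_V hz), ← h.Z_S z hz s hs, mul_inv_cancel_right]
  refine ⟨h.Z_V hz, D.e z 0 0, eq_e0_of_fixed ?_ ?_⟩
  · have := key 1 0; rwa [up_zero] at this
  · have := key 0 1; rwa [up_zero] at this

theorem fixS {s : G} (hs : s ∈ (S : Subgroup G)) : ∀ x, ∃ y, D.act s (e0 x) = e0 y :=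
  (fix_iff h.hN (h.S_N hs)).1 (hR s hs)

/-- `T₁` centralises `R₀ ≥ Z` -/
theorem tor_CZ {t : G} (ht : t ∈ N) {l : Fˣ} (htA : ∀ X, D.act t X = Tens.act (tor l) (tor l⁻¹) X) :
    t ∈ centralizer (Z : Set G) := by
  rw [mem_centralizer_iff]
  intro z hz
  obtain ⟨hzV, c, hc⟩ := h.Z_R0 hR hz
  have h1 : t * z * t⁻¹ = z := by
    refine D.e_inj ((h.hN t ht z).1 hzV) hzV ?_
    rw [← act_e h.hN ht hzV, hc, htA, act_tor_e0]
    simp
  calc z * t = (t * z * t⁻¹) * t := by rw [h1]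
    _ = t * z := by group

/-- `[y, t] ∈ U₀` for `y ∈ O₂(C(Z))`, `t ∈ T₁` -/
theorem htor {y : G} (hy : y ∈ o2 (centralizer (Z : Set G))) (l : Fˣ) : ∃ a b, ∀ X,
    D.act y (Tens.act (tor l) (tor l⁻¹) X) = Tens.act (up a * tor l) (up b * tor l⁻¹) (D.act y X) := by
  have hyS := h.Qt_S hy
  have hyN := h.S_N hyS
  have hm := nm (D := D) h.hN hyN
  obtain ⟨t, ht, htA⟩ := lift_act (D := D) h.hN (tor l) (tor l⁻¹)
  obtain ⟨A, B, hAB⟩ := hm.nor (tor l) (tor l⁻¹)
  set c := y * t * y⁻¹ * t⁻¹ with hc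
  have hcQ : c ∈ o2 (centralizer (Z : Set G)) := by
    have e : c = y * (t * y⁻¹ * t⁻¹) := by rw [hc]; group
    rw [e]
    exact mul_mem hy (h.Qt_nor (h.tor_CZ hR ht htA) (inv_mem hy))
  have hcN := h.S_N (h.Qt_S hcQ)
  have hcA : ∀ X, D.act c X = Tens.act (A * (tor l)⁻¹) (B * (tor l⁻¹)⁻¹) X := by
    intro X
    have hct : D.act (c * t * y) (D.act y⁻¹ (Tens.act (tor l)⁻¹ (tor l⁻¹)⁻¹ X)) = D.act c X := by
      rw [act_mul h.hN (mul_mem hcN ht) hyN, act_act_inv h.hN hyN,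
        act_mul h.hN hcN ht, htA, Tens.act_act_inv]
    rw [← hct]
    have e : c * t * y = y * t := by rw [hc]; group
    rw [e, act_mul h.hN hyN ht, htA, hAB, hm.right, act_act]
  obtain ⟨k, hk⟩ : ∃ k : ℕ, ∀ X, (D.act c)^[2 ^ k] X = X := by
    obtain ⟨k, hk⟩ := Cfsg.Agent.Omega.NOne.LemmaT.exists_pow_eq_one
      (Cfsg.Agent.ZN.isPGroup_o2 (centralizer (Z : Set G)))
    exact ⟨k, fun X => by rw [act_pow h.hN hcN, hk c hcQ, act_one_eq h.hN]⟩
  have hcA' : D.act c = Tens.act (A * (tor l)⁻¹) (B * (tor l⁻¹)⁻¹) := funext hcA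
  obtain ⟨d, hd⟩ := h.fixS hR (h.Qt_S hcQ) 1
  rw [hcA'] at hk hd
  obtain ⟨u1, u2⟩ := two_L one_ne_zero hd hk
  refine ⟨(A * (tor l)⁻¹).1 0 1, (B * (tor l⁻¹)⁻¹).1 0 1, fun X => ?_⟩
  rw [← u1, ← u2, inv_mul_cancel_right, inv_mul_cancel_right, hAB]

theorem exists_order {y : G} (hy : y ∈ o2 (centralizer (Z : Set G))) : ∃ k : ℕ, ∀ X, (D.act y)^[2 ^ k] X = X := by
  obtain ⟨k, hk⟩ := Cfsg.Agent.Omega.NOne.LemmaT.exists_pow_eq_one
    (Cfsg.Agent.ZN.isPGroup_o2 (centralizer (Z : Set G)))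
  exact ⟨k, fun X => by rw [act_pow h.hN (h.S_N (h.Qt_S hy)), hk y hy, act_one_eq h.hN]⟩

variable [Finite F]

/-- **`O₂(C(Z))` contains no swap** -/
theorem not_T2 {y : G} (hy : y ∈ o2 (centralizer (Z : Set G))) (hT : T2 (D.act y)) : False := by
  obtain ⟨t, ht0, ht1⟩ := h.three
  have hyN := h.S_N (h.Qt_S hy)
  have hm := nm (D := D) h.hN hyN
  have h0 := h.fixS hR (h.Qt_S hy)
  have htor := fun l : Fˣ => h.htor hR hy l
  -- `|F| ≤ 4`
  have hcard : Nat.card F ≤ 4 := by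
    classical
    have := Fintype.ofFinite F
    have h1 : (Finset.univ : Finset F) ⊆ {0, 1, t, t + 1} := by
      intro x _
      by_cases hx0 : x = 0
      · simp [hx0]
      by_cases hx1 : x = 1
      · simp [hx1]
      have e1 := hm.swap_four ht0 ht1 hT h0 htor hx0 hx1
      have e2 := hm.swap_four ht0 ht1 hT h0 htor ht0 ht1
      have e3 : (x - t) * (x - (t + 1)) = 0 := by
        have h2 := CharTwo.add_self_eq_zero x
        have h3 : (2 : F) = 0 := by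
          have := CharTwo.add_self_eq_zero (1 : F)
          rw [← this]; ring
        linear_combination e1 + e2 + (- x - x * t) * h3 - h3 * 1
      rcases mul_eq_zero.1 e3 with h4 | h4
      · simp [sub_eq_zero.1 h4]
      · simp [sub_eq_zero.1 h4]
    rw [Nat.card_eq_fintype_card, ← Finset.card_univ]
    exact (Finset.card_le_card h1).trans (Finset.card_le_four)
  -- the subgroup `E`
  let E : AddSubgroup (M2 F) :=
    { carrier := {X | D.v X ∈ o2 (centralizer (Z : Set G))}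
      zero_mem' := by
        show D.v 0 ∈ o2 (centralizer (Z : Set G))
        rw [D.v_zero]; exact one_mem _
      add_mem' := by
        intro X Y hX hY
        show D.v (X + Y) ∈ o2 (centralizer (Z : Set G))
        rw [D.v_add]; exact mul_mem hX hY
      neg_mem' := by
        intro X hX
        show D.v (-X) ∈ o2 (centralizer (Z : Set G))
        have e : D.v (-X) = (D.v X)⁻¹ := D.e_inj (D.v_mem _) (inv_mem (D.v_mem _)) (by
          rw [D.e_v, D.e_inv (D.v_mem _), D.e_v])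
        rw [e]; exact inv_mem hX }
  have hE : ∀ X, X ∈ E ↔ D.v X ∈ o2 (centralizer (Z : Set G)) := fun X => Iff.rfl
  obtain ⟨k0, k1, k2, Y, hY, hY11⟩ := hm.swap_E ht0 ht1 hT h0 htor E (by
    intro a b X hX
    obtain ⟨s, hs, hsA⟩ := cover_S h.hN ht0 ht1 S h.S_N hR a b
    rw [hE, ← hsA, v_act h.hN (h.S_N hs)]
    exact h.Qt_nor (h.S_CZ hs) hX) (by
    intro X
    rw [hE, D.v_add, v_act h.hN hyN]
    have e : D.v X * (y * D.v X * y⁻¹) = (D.v X * y * (D.v X)⁻¹) * y⁻¹ := by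
      have h1 : (D.v X)⁻¹ = D.v X := inv_eq_of_mul_eq_one_left (D.sq (D.v_mem X))
      rw [h1]; group
    rw [e]
    exact mul_mem (h.Qt_nor (h.V_CZ (D.v_mem X)) hy) (inv_mem hy))
  -- the index
  let A : AddSubgroup F := E.map
    { toFun := fun X : M2 F => X 1 1, map_zero' := rfl, map_add' := fun _ _ => rfl }
  have hA : ∀ X : M2 F, X 1 1 ∈ A ↔ X ∈ E := by
    intro X
    constructor
    · rintro ⟨Y, hY, hYX⟩
      have h1 : Y 1 1 = X 1 1 := hYX
      have h2 : X - Y = e0 ((X - Y) 0 0) + e1 ((X - Y) 0 1) + e2 ((X - Y) 1 0) := by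
        conv_lhs => rw [e_sum (X - Y)]
        have h3 : (X - Y) 1 1 = 0 := by simp [h1]
        rw [h3, e3_zero, add_zero]
      have h4 : X - Y ∈ E := by
        rw [h2]; exact E.add_mem (E.add_mem (k0 _) (k1 _)) (k2 _)
      have h5 := E.add_mem h4 hY
      rwa [sub_add_cancel] at h5
    · exact fun hX => ⟨X, hX, rfl⟩
  have h1 : (V ⊓ o2 (centralizer (Z : Set G))).relIndex V = Nat.card (F ⧸ A) :=
    Beta.Inst.relIndex_eq_card (fun v => ((D.e v 1 1 : F) : F ⧸ A))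
      (fun x hx y hy => by
        beta_reduce
        rw [D.mul x hx y hy]; rfl)
      (fun a => by
        obtain ⟨c, rfl⟩ := QuotientAddGroup.mk_surjective a
        exact ⟨D.v (e3 c), D.v_mem _, by rw [D.e_v]; simp [e3]⟩)
      (fun x hx => by
        beta_reduce
        rw [QuotientAddGroup.eq_zero_iff, hA, hE, D.v_e hx, mem_inf]
        exact ⟨fun h => ⟨hx, h⟩, fun h => h.2⟩)
  have h2 : Nat.card F = Nat.card (F ⧸ A) * Nat.card A := AddSubgroup.card_eq_card_quotient_mul_card_addSubgroup A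
  have h3 : 2 ≤ Nat.card A := by
    have h4 : (⟨Y 1 1, (hA Y).2 hY⟩ : A) ≠ 0 := fun e => hY11 (congrArg Subtype.val e)
    have : Nontrivial A := ⟨⟨_, _, h4⟩⟩
    exact Finite.one_lt_card
  have h4 := h.four
  rw [h1] at h4
  have h5 : 4 * 2 ≤ Nat.card (F ⧸ A) * Nat.card A := Nat.mul_le_mul h4 h3
  omega

/-- **`O₂(C(Z))` acts as a subgroup of `U₀`** -/
theorem Qt_U {y : G} (hy : y ∈ o2 (centralizer (Z : Set G))) : ∃ a b, ∀ X,
    D.act y X = Tens.act (up a) (up b) X := by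
  obtain ⟨t, ht0, ht1⟩ := h.three
  have hyN := h.S_N (h.Qt_S hy)
  have hm := nm (D := D) h.hN hyN
  obtain ⟨k, hk⟩ := h.exists_order hR hy
  rcases hm.dich ht0 ht1 with hT | hT
  · exact hm.mem_U ht0 ht1 hT (h.fixS hR (h.Qt_S hy)) hk fun l => h.htor hR hy l
  · exact (h.not_T2 hR hy hT).elim

/-- `C_V(O₂(C(Z))) ≤ R₀` -/
theorem C_V {v : G} (hv : v ∈ V) (hc : ∀ y ∈ o2 (centralizer (Z : Set G)), y * v = v * y) : v ∈ D.R0 := by
  obtain ⟨t, ht0, ht1⟩ := h.three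
  -- a nontrivial element
  obtain ⟨y, hy, a, b, hyA, hne⟩ : ∃ y ∈ o2 (centralizer (Z : Set G)), ∃ a b : F,
      (∀ X, D.act y X = Tens.act (up a) (up b) X) ∧ ¬ (a = 0 ∧ b = 0) := by
    by_contra hcon
    push Not at hcon
    apply h.V_Qt
    refine fun w hw => h.char2C ⟨h.V_CZ hw, mem_centralizer_iff.2 fun y hy => ?_⟩
    obtain ⟨a0, b0, hyA⟩ := h.Qt_U hR hy
    obtain ⟨ha, hb⟩ := hcon y hy a0 b0 hyA
    have h1 : ∀ X, D.act y X = X := fun X => by rw [hyA, ha, hb, up_zero, act_one]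
    exact (mem_centralizer_iff.1 ((act_one_iff h.hN (h.S_N (h.Qt_S hy))).1 h1) w hw).symm
  -- the fixed points of an element
  have fixd : ∀ y ∈ o2 (centralizer (Z : Set G)), ∀ a b, (∀ X, D.act y X = Tens.act (up a) (up b) X) →
      a * D.e v 1 1 = 0 ∧ b * D.e v 1 1 = 0 ∧ a * D.e v 1 0 + b * (D.e v 0 1 + a * D.e v 1 1) = 0 := by
    intro y hy a b hyA
    have h1 : D.act y (D.e v) = D.e v := by
      rw [act_e h.hN (h.S_N (h.Qt_S hy)) hv, hc y hy, mul_inv_cancel_right]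
    rw [hyA, act_up] at h1
    have h00 := congrArg (fun X : M2 F => X 0 0) h1
    have h01 := congrArg (fun X : M2 F => X 0 1) h1
    have h10 := congrArg (fun X : M2 F => X 1 0) h1
    simp only [Matrix.of_apply, Matrix.cons_val', Matrix.cons_val_zero, Matrix.cons_val_one,
      Matrix.cons_val_fin_one] at h00 h01 h10
    refine ⟨by linear_combination h01, by linear_combination h10, by linear_combination h00⟩
  -- two independent elements
  obtain ⟨y', hy', a', b', hyA', hdet⟩ : ∃ y' ∈ o2 (centralizer (Z : Set G)), ∃ a' b' : F,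
      (∀ X, D.act y' X = Tens.act (up a') (up b') X) ∧ a * b' - b * a' ≠ 0 := by
    by_cases ha : a = 0
    · obtain ⟨s, hs, hsT⟩ := S_swap (D := D) h.hN ht0 ht1 S h.S_N
      have hb : b ≠ 0 := fun hb => hne ⟨ha, hb⟩
      have hms := nm (D := D) h.hN (h.S_N hs)
      have hyN := h.S_N (h.Qt_S hy)
      obtain ⟨b1, hb1⟩ := hms.un2_right hsT (h.fixS hR hs) b
      refine ⟨s * y * s⁻¹, h.Qt_nor (h.S_CZ hs) hy, b1, 0, fun X => ?_, ?_⟩
      · rw [act_conj h.hN (h.S_N hs) hyN]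
        show D.act s (D.act y (D.act s⁻¹ X)) = _
        rw [hyA, ha, up_zero, hb1, hms.right]
      · rw [mul_zero, zero_sub, neg_ne_zero]
        refine mul_ne_zero hb fun h1 => ?_
        rw [h1, up_zero] at hb1
        have h2 : ∀ X, Tens.act 1 (up b) X = X := fun X => hms.inj (by rw [hb1, act_one])
        have h3 := (act_eq_one h2).2
        rw [← up_zero] at h3
        exact hb (up_inj h3)
    by_cases hb : b = 0
    · obtain ⟨s, hs, hsT⟩ := S_swap (D := D) h.hN ht0 ht1 S h.S_N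
      have hms := nm (D := D) h.hN (h.S_N hs)
      have hyN := h.S_N (h.Qt_S hy)
      obtain ⟨a1, ha1⟩ := hms.un2_left hsT (h.fixS hR hs) a
      refine ⟨s * y * s⁻¹, h.Qt_nor (h.S_CZ hs) hy, 0, a1, fun X => ?_, ?_⟩
      · rw [act_conj h.hN (h.S_N hs) hyN]
        show D.act s (D.act y (D.act s⁻¹ X)) = _
        rw [hyA, hb, up_zero, ha1, hms.right]
      · rw [mul_zero, sub_zero]
        refine mul_ne_zero ha fun h1 => ?_
        rw [h1, up_zero] at ha1
        have h2 : ∀ X, Tens.act (up a) 1 X = X := fun X => hms.inj (by rw [ha1, act_one])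
        have h3 := (act_eq_one h2).1
        rw [← up_zero] at h3
        exact ha (up_inj h3)
    · set l : Fˣ := Units.mk0 t ht0 with hl
      have hlt : (l : F) = t := rfl
      obtain ⟨g, hg, hgA⟩ := lift_act (D := D) h.hN (tor l) (tor l⁻¹)
      have hyN := h.S_N (h.Qt_S hy)
      refine ⟨g * y * g⁻¹, h.Qt_nor (h.tor_CZ hR hg hgA) hy, l * l * a, (l⁻¹ : Fˣ) * (l⁻¹ : Fˣ) * b, fun X => ?_, ?_⟩
      · rw [act_conj h.hN hg hyN]
        show D.act g (D.act y (D.act g⁻¹ X)) = _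
        rw [hyA, hgA, tor_act_up]
        congr 1
        rw [← hgA, act_act_inv h.hN hg]
      · intro e1
        have e2 : a * b * (((l⁻¹ : Fˣ) : F) * ((l⁻¹ : Fˣ) : F) - l * l) = 0 := by linear_combination e1
        have e3 : ((l⁻¹ : Fˣ) : F) * ((l⁻¹ : Fˣ) : F) - l * l = 0 := by
          rcases mul_eq_zero.1 e2 with h1 | h1
          · exact absurd h1 (mul_ne_zero ha hb)
          · exact h1
        have hll : (l : F) * ((l⁻¹ : Fˣ) : F) = 1 := by simp
        have e4 : ((l : F) * l) * (l * l) = 1 := by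
          linear_combination (- (l : F) * l) * e3 + (l * ((l⁻¹ : Fˣ) : F) + 1) * hll
        exact ht1 (eq_one_of_sq (eq_one_of_sq e4))
  obtain ⟨f1, f2, f3⟩ := fixd y hy a b hyA
  obtain ⟨f1', f2', f3'⟩ := fixd y' hy' a' b' hyA'
  have g11 : D.e v 1 1 = 0 := by
    rcases mul_eq_zero.1 f1 with h1 | h1
    · rcases mul_eq_zero.1 f2 with h2 | h2
      · exact absurd ⟨h1, h2⟩ hne
      · exact h2
    · exact h1
  rw [g11, mul_zero, add_zero] at f3 f3'
  have g10 : D.e v 1 0 = 0 := by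
    have : (a * b' - b * a') * D.e v 1 0 = 0 := by linear_combination b' * f3 - b * f3'
    exact (mul_eq_zero.1 this).resolve_left hdet
  have g01 : D.e v 0 1 = 0 := by
    have : (a * b' - b * a') * D.e v 0 1 = 0 := by linear_combination a * f3' - a' * f3
    exact (mul_eq_zero.1 this).resolve_left hdet
  exact ⟨hv, D.e v 0 0, by apply ext2 <;> simp [e0, g01, g10, g11]⟩

/-- **`Cx D` holds at the point fixed by `S`.** -/
theorem cx : Cx D := by
  obtain ⟨t, ht0, ht1⟩ := h.three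
  have hSN : (S : Subgroup G) ≤ normalizer (D.R0 : Set G) := fun s hs => (hR s hs).mem_nor
  have hR0 : D.R0 ≠ ⊥ := by rw [← R_none]; exact R_ne_bot none none
  have hQS : QQ D.R0 ≤ S := by
    refine le_sylow S hSN (Cfsg.Agent.ZN.isPGroup_o2 _) fun c hc y hy => ?_
    exact (mem_normalizer_iff.1 (Cfsg.Agent.ZN.le_normalizer_o2 _ hc) y).1 hy
  have hR0Q : D.R0 ≤ QQ D.R0 := by
    refine Cfsg.Agent.ZN.le_o2 le_normalizer ?_ le_rfl
    rintro ⟨x, hx⟩
    refine ⟨1, Subtype.ext ?_⟩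
    show x ^ 2 ^ 1 = 1
    rw [pow_one, pow_two]
    exact D.sq hx.1
  refine ⟨h.hN, fun hVQ => h.V_Qt ?_, ?_, hQS.trans h.S_N, h.three⟩
  · refine Beta.App.le_of_le (C := centralizer (Z : Set G)) (R := D.R0) (Q := QQ D.R0) h.V_CZ
      (fun c hc y hy => h.Qt_nor hc hy) ?_ (fun c hc hx => h.char2C ⟨hc, mem_centralizer_iff.2 fun y hy => hx y hy⟩)
      R0_le (fun r hr => D.sq hr.1) ?_ ?_ (Cfsg.Agent.ZN.isPGroup_o2 _) ?_ hVQ
    · intro W hW hWC hWn
      refine Cfsg.Agent.ZN.le_o2 hWC hW fun c hc => ?_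
      refine Mv.mem_nor fun x => ⟨fun hx => hWn c hc x hx, fun hx => ?_⟩
      have := hWn c⁻¹ (inv_mem hc) _ hx
      have e : c⁻¹ * (c * x * c⁻¹) * c⁻¹⁻¹ = x := by group
      rwa [e] at this
    · rintro r ⟨hr, c, hc⟩ x hx
      obtain ⟨a, b, hab⟩ := h.Qt_U hR hx
      have hxN := h.S_N (h.Qt_S hx)
      have h1 : x * r * x⁻¹ = r := by
        refine D.e_inj ((h.hN x hxN r).1 hr) hr ?_
        rw [← act_e h.hN hxN hr, hc, hab, act_up_e0]
      calc x * r = (x * r * x⁻¹) * x := by group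
        _ = r * x := by rw [h1]
    · intro y hy hyc _ v hv
      obtain ⟨a, b, hab⟩ := h.Qt_U hR hy
      have hyN := h.S_N (h.Qt_S hy)
      -- `[w, y] ∈ R₀` for `w ∈ V`
      have hkey : ∀ w ∈ V, D.act y (D.e w) - D.e w = D.e (y * w * y⁻¹ * w⁻¹) ∧ y * w * y⁻¹ * w⁻¹ ∈ D.R0 := by
        intro w hw
        have hw1 : y * w * y⁻¹ ∈ V := (h.hN y hyN w).1 hw
        refine ⟨by rw [D.mul _ hw1 _ (inv_mem hw), D.e_inv hw, act_e h.hN hyN hw, sub_eq_add_neg], ?_⟩
        refine h.C_V hR (mul_mem hw1 (inv_mem hw)) fun x hx => ?_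
        have h5 : w⁻¹ * x * w ∈ o2 (centralizer (Z : Set G)) := by
          have := h.Qt_nor (h.V_CZ (inv_mem hw)) hx
          rwa [inv_inv] at this
        have h6 : x * (w * y⁻¹ * w⁻¹) = (w * y⁻¹ * w⁻¹) * x := by
          have h7 := hyc _ h5
          have h8 : w⁻¹ * x * w * y⁻¹ = y⁻¹ * (w⁻¹ * x * w) := by
            calc w⁻¹ * x * w * y⁻¹ = y⁻¹ * (y * (w⁻¹ * x * w)) * y⁻¹ := by group
              _ = y⁻¹ * (w⁻¹ * x * w * y) * y⁻¹ := by rw [h7]
              _ = _ := by group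
          calc x * (w * y⁻¹ * w⁻¹) = w * (w⁻¹ * x * w * y⁻¹) * w⁻¹ := by group
            _ = w * (y⁻¹ * (w⁻¹ * x * w)) * w⁻¹ := by rw [h8]
            _ = _ := by group
        calc x * (y * w * y⁻¹ * w⁻¹) = (x * y) * (w * y⁻¹ * w⁻¹) := by group
          _ = (y * x) * (w * y⁻¹ * w⁻¹) := by rw [hyc x hx]
          _ = y * (x * (w * y⁻¹ * w⁻¹)) := by group
          _ = y * ((w * y⁻¹ * w⁻¹) * x) := by rw [h6]
          _ = _ := by group
      obtain ⟨e1, e2⟩ := hkey _ (D.v_mem (e3 1))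
      obtain ⟨-, c, hc⟩ := e2
      rw [hc, D.e_v, hab, act_up] at e1
      have h01 := congrArg (fun X : M2 F => X 0 1) e1
      have h10 := congrArg (fun X : M2 F => X 1 0) e1
      simp [e0, e3] at h01 h10
      have h2 : ∀ X, D.act y X = X := fun X => by rw [hab, h01, h10, up_zero, act_one]
      exact mem_centralizer_iff.1 ((act_one_iff h.hN hyN).1 h2) v hv
    · intro c hc y hy
      exact (mem_normalizer_iff.1 (Cfsg.Agent.ZN.le_normalizer_o2 _ hc) y).1 hy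
  · intro x hx
    refine h.char2N D.R0 hR0 R0_le hSN ⟨?_, hx⟩
    refine centralizer_le_normalizer _ ?_
    exact centralizer_le (show (D.R0 : Set G) ⊆ (QQ D.R0 : Set G) from hR0Q) hx

end Sy

end Cfsg.Agent.Omega.NO1.PlusQ
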