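import Mathlib

section


/-!
# Type (γ) of the leaf N1: the `SL₂(F) × SL₂(F)`-module `M₂(F)`, `char F = 2` (helper914)

`act A B X = A X Bᵀ`.  `Nm γ δ` : `γ` is an additive bijection (inverse `δ`) which normalises `{act A B}`.

* `Nm.dich` : `γ` normalises both factors (`T1`) or interchanges them (`T2`).
-/

set_option autoImplicit false
set_option linter.unusedSectionVars false

namespace Cfsg.Agent.Omega.NO1.Tens

open Matrix

/-- the `2 × 2`-matrices -/
abbrev M2 (F : Type) := Matrix (Fin 2) (Fin 2) F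

/-- `SL₂(F)` -/
abbrev SL (F : Type) [Field F] := Matrix.SpecialLinearGroup (Fin 2) F

section

variable {F : Type} [Field F]

/-- `X ↦ A X Bᵀ` -/
def act (A B : SL F) (X : M2 F) : M2 F := A.1 * X * B.1.transpose

theorem act_apply (A B : SL F) (X : M2 F) (i j : Fin 2) :
    act A B X i j = (A.1 i 0 * X 0 0 + A.1 i 1 * X 1 0) * B.1 j 0 +
      (A.1 i 0 * X 0 1 + A.1 i 1 * X 1 1) * B.1 j 1 := by
  simp [act, Matrix.mul_apply, Fin.sum_univ_two]

theorem act_act (A B C D : SL F) (X : M2 F) : act A B (act C D X) = act (A * C) (B * D) X := by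
  simp only [act, Matrix.SpecialLinearGroup.coe_mul, Matrix.transpose_mul, Matrix.mul_assoc]

@[simp] theorem act_one (X : M2 F) : act 1 1 X = X := by
  simp [act]

theorem act_add (A B : SL F) (X Y : M2 F) : act A B (X + Y) = act A B X + act A B Y := by
  simp only [act, Matrix.mul_add, Matrix.add_mul]

theorem act_inv_act (A B : SL F) (X : M2 F) : act A⁻¹ B⁻¹ (act A B X) = X := by
  rw [act_act, inv_mul_cancel, inv_mul_cancel, act_one]

theorem act_act_inv (A B : SL F) (X : M2 F) : act A B (act A⁻¹ B⁻¹ X) = X := by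
  rw [act_act, mul_inv_cancel, mul_inv_cancel, act_one]

theorem act_inj {A B : SL F} {X Y : M2 F} (h : act A B X = act A B Y) : X = Y := by
  rw [← act_inv_act A B X, h, act_inv_act]

theorem act_zero (A B : SL F) : act A B 0 = 0 := by simp [act]

theorem act_eq_zero {A B : SL F} {X : M2 F} (h : act A B X = 0) : X = 0 :=
  act_inj (h.trans (act_zero A B).symm)

theorem act_transpose (A B : SL F) (X : M2 F) : act A B X.transpose = (act B A X).transpose := by
  simp only [act, Matrix.transpose_mul, Matrix.transpose_transpose, Matrix.mul_assoc]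

theorem act_split (A B : SL F) (X : M2 F) : act A B X = act A 1 (act 1 B X) := by
  rw [act_act, mul_one, one_mul]

theorem act_split' (A B : SL F) (X : M2 F) : act A B X = act 1 B (act A 1 X) := by
  rw [act_act, mul_one, one_mul]

theorem det_act (A B : SL F) (X : M2 F) : (act A B X).det = X.det := by
  rw [act, Matrix.det_mul, Matrix.det_mul, Matrix.det_transpose, A.2, B.2, one_mul, mul_one]

theorem ext2 {X Y : M2 F} (h00 : X 0 0 = Y 0 0) (h01 : X 0 1 = Y 0 1) (h10 : X 1 0 = Y 1 0)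
    (h11 : X 1 1 = Y 1 1) : X = Y := by
  ext i j
  fin_cases i <;> fin_cases j <;> assumption

/-- `[[1,a],[0,1]]` -/
def up (a : F) : SL F := ⟨!![1, a; 0, 1], by simp [Matrix.det_fin_two]⟩

/-- `[[1,0],[a,1]]` -/
def dn (a : F) : SL F := ⟨!![1, 0; a, 1], by simp [Matrix.det_fin_two]⟩

/-- `diag(l, l⁻¹)` -/
def tor (l : Fˣ) : SL F := ⟨!![(l : F), 0; 0, ((l⁻¹ : Fˣ) : F)], by simp [Matrix.det_fin_two]⟩

/-- `c E₁₁` -/
def e0 (c : F) : M2 F := !![c, 0; 0, 0]

/-- `c E₂₂` -/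
def e3 (c : F) : M2 F := !![0, 0; 0, c]

/-- `c E₁₂` -/
def e1 (c : F) : M2 F := !![0, c; 0, 0]

/-- `c E₂₁` -/
def e2 (c : F) : M2 F := !![0, 0; c, 0]

theorem up_val (a : F) : (up a).1 = !![1, a; 0, 1] := rfl
theorem dn_val (a : F) : (dn a).1 = !![1, 0; a, 1] := rfl
theorem tor_val (l : Fˣ) : (tor l).1 = !![(l : F), 0; 0, ((l⁻¹ : Fˣ) : F)] := rfl

theorem SL_ext {A B : SL F} (h00 : A.1 0 0 = B.1 0 0) (h01 : A.1 0 1 = B.1 0 1)
    (h10 : A.1 1 0 = B.1 1 0) (h11 : A.1 1 1 = B.1 1 1) : A = B :=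
  Subtype.ext (ext2 h00 h01 h10 h11)

theorem SL_det (A : SL F) : A.1 0 0 * A.1 1 1 - A.1 0 1 * A.1 1 0 = 1 := by
  have := A.2
  rwa [Matrix.det_fin_two] at this

theorem up_zero : up (0 : F) = 1 := by
  apply SL_ext <;> simp [up]

theorem up_add (a b : F) : up (a + b) = up a * up b := by
  apply Subtype.ext
  rw [Matrix.SpecialLinearGroup.coe_mul, up_val, up_val, up_val]
  apply ext2 <;> simp [Matrix.mul_apply, Fin.sum_univ_two, add_comm]

theorem up_inj {a b : F} (h : up a = up b) : a = b := by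
  have := congrArg (fun A : SL F => A.1 0 1) h
  simpa [up] using this

theorem dn_inj {a b : F} (h : dn a = dn b) : a = b := by
  have := congrArg (fun A : SL F => A.1 1 0) h
  simpa [dn] using this

theorem tor_mul (l m : Fˣ) : tor (l * m) = tor l * tor m := by
  apply Subtype.ext
  rw [Matrix.SpecialLinearGroup.coe_mul, tor_val, tor_val, tor_val]
  apply ext2 <;> simp [Matrix.mul_apply, Fin.sum_univ_two, mul_comm]

theorem tor_one : tor (1 : Fˣ) = 1 := by
  apply SL_ext <;> simp [tor]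

theorem act_up (a b : F) (X : M2 F) : act (up a) (up b) X =
    !![X 0 0 + a * X 1 0 + b * (X 0 1 + a * X 1 1), X 0 1 + a * X 1 1;
      X 1 0 + b * X 1 1, X 1 1] := by
  apply ext2 <;> rw [act_apply, up_val, up_val] <;> simp <;> ring

theorem act_tor (l m : Fˣ) (X : M2 F) : act (tor l) (tor m) X =
    !![l * m * X 0 0, l * (m⁻¹ : Fˣ) * X 0 1; (l⁻¹ : Fˣ) * m * X 1 0, (l⁻¹ : Fˣ) * (m⁻¹ : Fˣ) * X 1 1] := by
  apply ext2 <;> rw [act_apply, tor_val, tor_val] <;> simp <;> ring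

theorem e0_add (c d : F) : e0 (c + d) = e0 c + e0 d := by
  apply ext2 <;> simp [e0]

theorem e1_add (c d : F) : e1 (c + d) = e1 c + e1 d := by
  apply ext2 <;> simp [e1]

theorem e2_add (c d : F) : e2 (c + d) = e2 c + e2 d := by
  apply ext2 <;> simp [e2]

theorem e3_add (c d : F) : e3 (c + d) = e3 c + e3 d := by
  apply ext2 <;> simp [e3]

theorem e_sum (X : M2 F) : X = e0 (X 0 0) + e1 (X 0 1) + e2 (X 1 0) + e3 (X 1 1) := by
  apply ext2 <;> simp [e0, e1, e2, e3]

theorem e0_inj {c d : F} (h : e0 c = e0 d) : c = d := by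
  have := congrFun (congrFun h 0) 0; simpa [e0] using this

theorem e1_inj {c d : F} (h : e1 c = e1 d) : c = d := by
  have := congrFun (congrFun h 0) 1; simpa [e1] using this

theorem e2_inj {c d : F} (h : e2 c = e2 d) : c = d := by
  have := congrFun (congrFun h 1) 0; simpa [e2] using this

theorem e3_inj {c d : F} (h : e3 c = e3 d) : c = d := by
  have := congrFun (congrFun h 1) 1; simpa [e3] using this

theorem e0_zero : e0 (0 : F) = 0 := by apply ext2 <;> simp [e0]
theorem e1_zero : e1 (0 : F) = 0 := by apply ext2 <;> simp [e1]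
theorem e2_zero : e2 (0 : F) = 0 := by apply ext2 <;> simp [e2]
theorem e3_zero : e3 (0 : F) = 0 := by apply ext2 <;> simp [e3]

theorem e0_ne {c : F} (h : c ≠ 0) : e0 c ≠ 0 := fun h1 => h (e0_inj (h1.trans e0_zero.symm))
theorem e3_ne {c : F} (h : c ≠ 0) : e3 c ≠ 0 := fun h1 => h (e3_inj (h1.trans e3_zero.symm))

/-- The stabiliser of `c E₁₁` in the left factor. -/
theorem act_e0_left {A : SL F} {c : F} (hc : c ≠ 0) (h : act A 1 (e0 c) = e0 c) :
    A = up (A.1 0 1) := by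
  have h1 := congrFun (congrFun h 0) 0
  have h2 := congrFun (congrFun h 1) 0
  rw [act_apply] at h1 h2
  have h3 : A.1 0 0 = 1 := by
    refine mul_right_cancel₀ hc ?_
    rw [one_mul]
    simpa [e0] using h1
  have h4 : A.1 1 0 = 0 := by
    refine mul_right_cancel₀ hc ?_
    rw [zero_mul]
    simpa [e0, hc] using h2
  have h5 := SL_det A
  rw [h3, h4] at h5
  apply SL_ext
  · simpa [up] using h3
  · simp [up]
  · simpa [up] using h4
  · have : A.1 1 1 = 1 := by simpa using h5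
    simpa [up] using this

theorem act_up_e0 (a b : F) (c : F) : act (up a) (up b) (e0 c) = e0 c := by
  rw [act_up]
  apply ext2 <;> simp [e0]

/-! ### The action is faithful in characteristic 2 -/

theorem eq_one_of_sq [CharP F 2] {a : F} (h : a * a = 1) : a = 1 := by
  have h1 : (a + 1) * (a + 1) = 0 := by
    have : (a + 1) * (a + 1) = a * a + 1 + (a + a) := by ring
    rw [this, h, CharTwo.add_self_eq_zero, CharTwo.add_self_eq_zero, add_zero]
  have h2 : a + 1 = 0 := by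
    rcases mul_eq_zero.1 h1 with h2 | h2 <;> exact h2
  have := CharTwo.add_eq_zero.1 h2
  exact this

theorem act_eq_one [CharP F 2] {A B : SL F} (h : ∀ X, act A B X = X) : A = 1 ∧ B = 1 := by
  have h1 := h (e0 1)
  have h2 := h (e1 1)
  have h3 := h (e3 1)
  have a1 := congrFun (congrFun h1 0) 0
  have a2 := congrFun (congrFun h1 0) 1
  have a3 := congrFun (congrFun h1 1) 0
  have b2 := congrFun (congrFun h2 0) 1
  have c1 := congrFun (congrFun h3 1) 1
  have c2 := congrFun (congrFun h3 0) 1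
  have c3 := congrFun (congrFun h3 1) 0
  simp only [act_apply] at a1 a2 a3 b2 c1 c2 c3
  simp only [e0, e1, e3, Matrix.of_apply, Matrix.cons_val_zero, Matrix.cons_val_one,
    Matrix.cons_val', mul_zero, mul_one, add_zero, zero_add, zero_mul, Matrix.cons_val_fin_one]
    at a1 a2 a3 b2 c1 c2 c3
  have nA : A.1 0 0 ≠ 0 := fun h0 => by rw [h0, zero_mul] at a1; exact zero_ne_one a1
  have nB : B.1 0 0 ≠ 0 := fun h0 => by rw [h0, mul_zero] at a1; exact zero_ne_one a1
  have nA' : A.1 1 1 ≠ 0 := fun h0 => by rw [h0, zero_mul] at c1; exact zero_ne_one c1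
  have nB' : B.1 1 1 ≠ 0 := fun h0 => by rw [h0, mul_zero] at c1; exact zero_ne_one c1
  have B10 : B.1 1 0 = 0 := (mul_eq_zero.1 a2).resolve_left nA
  have A10 : A.1 1 0 = 0 := (mul_eq_zero.1 a3).resolve_right nB
  have A01 : A.1 0 1 = 0 := (mul_eq_zero.1 c2).resolve_right nB'
  have B01 : B.1 0 1 = 0 := (mul_eq_zero.1 c3).resolve_left nA'
  have dA := SL_det A
  have dB := SL_det B
  rw [A01, zero_mul, sub_zero] at dA
  rw [B01, zero_mul, sub_zero] at dB
  have e1' : A.1 0 0 = A.1 1 1 := mul_right_cancel₀ nB' (b2.trans c1.symm)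
  have A11 : A.1 1 1 = 1 := eq_one_of_sq (by rw [e1'] at dA; exact dA)
  have A00 : A.1 0 0 = 1 := e1'.trans A11
  have B11 : B.1 1 1 = 1 := by rw [A11, one_mul] at c1; exact c1
  have B00 : B.1 0 0 = 1 := by rw [A00, one_mul] at a1; exact a1
  exact ⟨SL_ext (by simpa using A00) (by simpa using A01) (by simpa using A10) (by simpa using A11),
    SL_ext (by simpa using B00) (by simpa using B01) (by simpa using B10) (by simpa using B11)⟩

theorem act_unique [CharP F 2] {A B C D : SL F} (h : ∀ X, act A B X = act C D X) :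
    A = C ∧ B = D := by
  have h1 := act_eq_one (A := C⁻¹ * A) (B := D⁻¹ * B) (fun X => by
    rw [← act_act, h X, act_inv_act])
  exact ⟨(inv_mul_eq_one.1 h1.1).symm, (inv_mul_eq_one.1 h1.2).symm⟩

/-- Two elements of `SL₂(F)`, `|F| ≥ 4` even, all conjugates of one commuting with the other. -/
theorem comm_gen [CharP F 2] {t : F} (ht0 : t ≠ 0) (ht1 : t ≠ 1) {a b : SL F}
    (h : ∀ C : SL F, (C * a * C⁻¹) * b = b * (C * a * C⁻¹)) : a = 1 ∨ b = 1 := by
  -- entries of the commutation relation for `M` and `b`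
  have key : ∀ M : SL F, M * b = b * M →
      M.1 0 1 * b.1 1 0 = b.1 0 1 * M.1 1 0 ∧
      M.1 0 0 * b.1 0 1 + M.1 0 1 * b.1 1 1 = b.1 0 0 * M.1 0 1 + b.1 0 1 * M.1 1 1 ∧
      M.1 1 0 * b.1 0 0 + M.1 1 1 * b.1 1 0 = b.1 1 0 * M.1 0 0 + b.1 1 1 * M.1 1 0 := by
    intro M hM
    have h1 : M.1 * b.1 = b.1 * M.1 := by
      have := congrArg Subtype.val hM
      rwa [Matrix.SpecialLinearGroup.coe_mul, Matrix.SpecialLinearGroup.coe_mul] at this
    have h00 := congrFun (congrFun h1 0) 0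
    have h01 := congrFun (congrFun h1 0) 1
    have h10 := congrFun (congrFun h1 1) 0
    simp only [Matrix.mul_apply, Fin.sum_univ_two] at h00 h01 h10
    refine ⟨?_, h01, h10⟩
    have : M.1 0 0 * b.1 0 0 + M.1 0 1 * b.1 1 0 = M.1 0 0 * b.1 0 0 + b.1 0 1 * M.1 1 0 := by
      rw [h00]; ring
    exact add_left_cancel this
  have hup : ∀ s : F, (up s * a * (up s)⁻¹).1 =
      !![a.1 0 0 + s * a.1 1 0, a.1 0 1 + s * a.1 1 1 - s * (a.1 0 0 + s * a.1 1 0);
        a.1 1 0, a.1 1 1 - s * a.1 1 0] := by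
    intro s
    have : (up s)⁻¹ = up (-s) := by
      rw [inv_eq_iff_mul_eq_one, ← up_add, add_neg_cancel, up_zero]
    rw [this, Matrix.SpecialLinearGroup.coe_mul, Matrix.SpecialLinearGroup.coe_mul, up_val, up_val]
    apply ext2 <;> simp only [Matrix.mul_apply, Fin.sum_univ_two] <;> simp <;> ring
  have hdn : ∀ s : F, (dn s * a * (dn s)⁻¹).1 =
      !![a.1 0 0 - s * a.1 0 1, a.1 0 1;
        a.1 1 0 + s * a.1 0 0 - s * (a.1 1 1 + s * a.1 0 1), a.1 1 1 + s * a.1 0 1] := by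
    intro s
    have hd : ∀ x y : F, dn (x + y) = dn x * dn y := by
      intro x y
      apply Subtype.ext
      rw [Matrix.SpecialLinearGroup.coe_mul, dn_val, dn_val, dn_val]
      apply ext2 <;> simp [Matrix.mul_apply, Fin.sum_univ_two]
    have hz : dn (0 : F) = 1 := by apply SL_ext <;> simp [dn]
    have : (dn s)⁻¹ = dn (-s) := by
      rw [inv_eq_iff_mul_eq_one, ← hd, add_neg_cancel, hz]
    rw [this, Matrix.SpecialLinearGroup.coe_mul, Matrix.SpecialLinearGroup.coe_mul, dn_val, dn_val]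
    apply ext2 <;> simp only [Matrix.mul_apply, Fin.sum_univ_two] <;> simp <;> ring
  obtain ⟨k1, k2, k3⟩ := key a (by have := h 1; simpa using this)
  have hU : ∀ s : F, s * (a.1 1 1 + a.1 0 0 + s * a.1 1 0) * b.1 1 0 = 0 ∧
      s * (a.1 1 1 + a.1 0 0 + s * a.1 1 0) * (b.1 0 0 + b.1 1 1) = 0 := by
    intro s
    obtain ⟨m1, m2, -⟩ := key _ (h (up s))
    rw [hup s] at m1 m2
    simp only [Matrix.of_apply, Matrix.cons_val', Matrix.cons_val_zero, Matrix.cons_val_one,
      Matrix.cons_val_fin_one] at m1 m2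
    simp only [CharTwo.sub_eq_add] at m1 m2
    constructor
    · have : s * (a.1 1 1 + a.1 0 0 + s * a.1 1 0) * b.1 1 0 =
        ((a.1 0 1 + s * a.1 1 1 + s * (a.1 0 0 + s * a.1 1 0)) * b.1 1 0 + b.1 0 1 * a.1 1 0) +
          (a.1 0 1 * b.1 1 0 + b.1 0 1 * a.1 1 0) + -(2 : F) * (b.1 0 1 * a.1 1 0 + a.1 0 1 * b.1 1 0) := by ring
      rw [this, m1, k1, CharTwo.add_self_eq_zero, CharTwo.add_self_eq_zero, CharTwo.two_eq_zero]
      ring
    · have : s * (a.1 1 1 + a.1 0 0 + s * a.1 1 0) * (b.1 0 0 + b.1 1 1) =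
        (((a.1 0 0 + s * a.1 1 0) * b.1 0 1 +
            (a.1 0 1 + s * a.1 1 1 + s * (a.1 0 0 + s * a.1 1 0)) * b.1 1 1) +
          (b.1 0 0 * (a.1 0 1 + s * a.1 1 1 + s * (a.1 0 0 + s * a.1 1 0)) +
            b.1 0 1 * (a.1 1 1 + s * a.1 1 0))) +
          ((a.1 0 0 * b.1 0 1 + a.1 0 1 * b.1 1 1) + (b.1 0 0 * a.1 0 1 + b.1 0 1 * a.1 1 1)) +
          -(2 : F) * (a.1 0 0 * b.1 0 1 + b.1 0 1 * a.1 1 1 + a.1 0 1 * b.1 1 1 + b.1 0 0 * a.1 0 1 +
            s * a.1 1 0 * b.1 0 1) := by ring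
      rw [this, m2, k2, CharTwo.add_self_eq_zero, CharTwo.add_self_eq_zero, CharTwo.two_eq_zero]
      ring
  have hD : ∀ s : F, s * (a.1 0 0 + a.1 1 1 + s * a.1 0 1) * b.1 0 1 = 0 ∧
      s * (a.1 0 0 + a.1 1 1 + s * a.1 0 1) * (b.1 0 0 + b.1 1 1) = 0 := by
    intro s
    obtain ⟨m1, -, m2⟩ := key _ (h (dn s))
    rw [hdn s] at m1 m2
    simp only [Matrix.of_apply, Matrix.cons_val', Matrix.cons_val_zero, Matrix.cons_val_one,
      Matrix.cons_val_fin_one] at m1 m2
    simp only [CharTwo.sub_eq_add] at m1 m2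
    constructor
    · have : s * (a.1 0 0 + a.1 1 1 + s * a.1 0 1) * b.1 0 1 =
        (b.1 0 1 * (a.1 1 0 + s * a.1 0 0 + s * (a.1 1 1 + s * a.1 0 1)) + a.1 0 1 * b.1 1 0) +
          (b.1 0 1 * a.1 1 0 + a.1 0 1 * b.1 1 0) + -(2 : F) * (b.1 0 1 * a.1 1 0 + a.1 0 1 * b.1 1 0) := by ring
      rw [this, ← m1, ← k1, CharTwo.add_self_eq_zero, CharTwo.add_self_eq_zero, CharTwo.two_eq_zero]
      ring
    · have : s * (a.1 0 0 + a.1 1 1 + s * a.1 0 1) * (b.1 0 0 + b.1 1 1) =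
        (((a.1 1 0 + s * a.1 0 0 + s * (a.1 1 1 + s * a.1 0 1)) * b.1 0 0 +
            (a.1 1 1 + s * a.1 0 1) * b.1 1 0) +
          (b.1 1 0 * (a.1 0 0 + s * a.1 0 1) +
            b.1 1 1 * (a.1 1 0 + s * a.1 0 0 + s * (a.1 1 1 + s * a.1 0 1)))) +
          ((a.1 1 0 * b.1 0 0 + a.1 1 1 * b.1 1 0) + (b.1 1 0 * a.1 0 0 + b.1 1 1 * a.1 1 0)) +
          -(2 : F) * (a.1 1 0 * b.1 0 0 + a.1 1 1 * b.1 1 0 + b.1 1 0 * a.1 0 0 + b.1 1 1 * a.1 1 0 +
            s * a.1 0 1 * b.1 1 0) := by ring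
      rw [this, m2, k3, CharTwo.add_self_eq_zero, CharTwo.add_self_eq_zero, CharTwo.two_eq_zero]
      ring
  -- two values of `s`
  have fin : ∀ p q x : F, (∀ s : F, s * (p + s * q) * x = 0) → x ≠ 0 → p = 0 ∧ q = 0 := by
    intro p q x hx hx0
    have h1 := (mul_eq_zero.1 (hx 1)).resolve_right hx0
    have h2 := (mul_eq_zero.1 (hx t)).resolve_right hx0
    rw [one_mul, one_mul] at h1
    have h3 := (mul_eq_zero.1 h2).resolve_left ht0
    have h4 : (t - 1) * q = 0 := by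
      have : (t - 1) * q = (p + t * q) - (p + q) := by ring
      rw [this, h1, h3, sub_zero]
    have h5 := (mul_eq_zero.1 h4).resolve_left (sub_ne_zero.2 ht1)
    rw [h5, add_zero] at h1
    exact ⟨h1, h5⟩
  have dA := SL_det a
  have dB := SL_det b
  by_cases hb10 : b.1 1 0 = 0
  · by_cases hb01 : b.1 0 1 = 0
    · by_cases hbd : b.1 0 0 + b.1 1 1 = 0
      · right
        have e1 : b.1 0 0 = b.1 1 1 := CharTwo.add_eq_zero.1 hbd
        have e2 : b.1 1 1 = 1 := by
          rw [hb01, e1, zero_mul, sub_zero] at dB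
          exact eq_one_of_sq dB
        exact SL_ext (by simpa using e1.trans e2) (by simpa using hb01) (by simpa using hb10)
          (by simpa using e2)
      · left
        obtain ⟨p1, q1⟩ := fin _ _ _ (fun s => (hU s).2) hbd
        obtain ⟨p2, q2⟩ := fin _ _ _ (fun s => (hD s).2) hbd
        have e1 : a.1 1 1 = a.1 0 0 := CharTwo.add_eq_zero.1 p1
        have e2 : a.1 0 0 = 1 := by
          rw [q1, q2, e1, zero_mul, sub_zero] at dA
          exact eq_one_of_sq dA
        exact SL_ext (by simpa using e2) (by simpa using q2) (by simpa using q1)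
          (by simpa using e1.trans e2)
    · -- `b 0 1 ≠ 0`, `b 1 0 = 0`
      left
      obtain ⟨p2, q2⟩ := fin _ _ _ (fun s => (hD s).1) hb01
      have e1 : a.1 0 0 = a.1 1 1 := CharTwo.add_eq_zero.1 p2
      have q1 : a.1 1 0 = 0 := by
        have : b.1 0 1 * a.1 1 0 = 0 := by rw [← k1, hb10, mul_zero]
        exact (mul_eq_zero.1 this).resolve_left hb01
      have e2 : a.1 1 1 = 1 := by
        rw [q1, q2, e1, zero_mul, sub_zero] at dA
        exact eq_one_of_sq dA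
      exact SL_ext (by simpa using e1.trans e2) (by simpa using q2) (by simpa using q1)
        (by simpa using e2)
  · left
    obtain ⟨p1, q1⟩ := fin _ _ _ (fun s => (hU s).1) hb10
    have e1 : a.1 1 1 = a.1 0 0 := CharTwo.add_eq_zero.1 p1
    have q2 : a.1 0 1 = 0 := by
      have : a.1 0 1 * b.1 1 0 = 0 := by rw [k1, q1, mul_zero]
      exact (mul_eq_zero.1 this).resolve_right hb10
    have e2 : a.1 0 0 = 1 := by
      rw [q1, q2, e1, zero_mul, sub_zero] at dA
      exact eq_one_of_sq dA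
    exact SL_ext (by simpa using e2) (by simpa using q2) (by simpa using q1)
      (by simpa using e1.trans e2)

/-! ### The normaliser -/

/-- `γ` is an additive bijection, `δ` its inverse, and they normalise `{act A B}`. -/
structure Nm (γ δ : M2 F → M2 F) : Prop where
  add : ∀ X Y, γ (X + Y) = γ X + γ Y
  left : ∀ X, δ (γ X) = X
  right : ∀ X, γ (δ X) = X
  nor : ∀ A B : SL F, ∃ A' B' : SL F, ∀ X, γ (act A B X) = act A' B' (γ X)
  nor' : ∀ A B : SL F, ∃ A' B' : SL F, ∀ X, δ (act A B X) = act A' B' (δ X)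

/-- `γ` normalises both factors -/
def T1 (γ : M2 F → M2 F) : Prop :=
  (∀ A : SL F, ∃ A' : SL F, ∀ X, γ (act A 1 X) = act A' 1 (γ X)) ∧
    (∀ B : SL F, ∃ B' : SL F, ∀ X, γ (act 1 B X) = act 1 B' (γ X))

/-- `γ` interchanges the factors -/
def T2 (γ : M2 F → M2 F) : Prop :=
  (∀ A : SL F, ∃ B' : SL F, ∀ X, γ (act A 1 X) = act 1 B' (γ X)) ∧
    (∀ B : SL F, ∃ A' : SL F, ∀ X, γ (act 1 B X) = act A' 1 (γ X))

namespace Nm

variable {γ δ : M2 F → M2 F}

theorem add' (h : Nm γ δ) (X Y : M2 F) : δ (X + Y) = δ X + δ Y := by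
  have h1 : γ (δ X + δ Y) = X + Y := by rw [h.add, h.right, h.right]
  rw [← h1, h.left]

theorem symm (h : Nm γ δ) : Nm δ γ := ⟨h.add', h.right, h.left, h.nor', h.nor⟩

theorem inj (h : Nm γ δ) {X Y : M2 F} (he : γ X = γ Y) : X = Y := by
  rw [← h.left X, he, h.left]

theorem zero (h : Nm γ δ) : γ 0 = 0 := by
  have := h.add 0 0
  rw [add_zero] at this
  exact left_eq_add.1 this

theorem comp {γ' δ' : M2 F → M2 F} (h : Nm γ δ) (h' : Nm γ' δ') :
    Nm (fun X => γ (γ' X)) (fun X => δ' (δ X)) where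
  add X Y := by rw [h'.add, h.add]
  left X := by rw [h.left, h'.left]
  right X := by rw [h'.right, h.right]
  nor A B := by
    obtain ⟨A1, B1, h1⟩ := h'.nor A B
    obtain ⟨A2, B2, h2⟩ := h.nor A1 B1
    exact ⟨A2, B2, fun X => by rw [h1, h2]⟩
  nor' A B := by
    obtain ⟨A1, B1, h1⟩ := h.nor' A B
    obtain ⟨A2, B2, h2⟩ := h'.nor' A1 B1
    exact ⟨A2, B2, fun X => by rw [h1, h2]⟩

theorem of_act (A B : SL F) : Nm (act A B) (act A⁻¹ B⁻¹) where
  add := act_add A B
  left := act_inv_act A B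
  right := act_act_inv A B
  nor C D := ⟨A * C * A⁻¹, B * D * B⁻¹, fun X => by
    rw [act_act, act_act]; congr 1 <;> group⟩
  nor' C D := ⟨A⁻¹ * C * A, B⁻¹ * D * B, fun X => by
    rw [act_act, act_act]; congr 1 <;> group⟩

/-- **The dichotomy.** -/
theorem dich [CharP F 2] (h : Nm γ δ) {t : F} (ht0 : t ≠ 0) (ht1 : t ≠ 1) : T1 γ ∨ T2 γ := by
  choose f1 f2 hf using fun A => h.nor A 1
  choose g1 g2 hg using fun B => h.nor 1 B
  -- the maps commute
  have hcomm : ∀ A B, f1 A * g1 B = g1 B * f1 A ∧ f2 A * g2 B = g2 B * f2 A := by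
    intro A B
    apply act_unique
    intro X
    have h1 : γ (act A 1 (act 1 B (δ X))) = act (f1 A) (f2 A) (act (g1 B) (g2 B) X) := by
      rw [hf, hg, h.right]
    have h2 : γ (act 1 B (act A 1 (δ X))) = act (g1 B) (g2 B) (act (f1 A) (f2 A) X) := by
      rw [hg, hf, h.right]
    rw [← act_act, ← act_act, ← h1, ← h2, ← act_split, ← act_split']
  have hsur : ∀ C D, ∃ A B, f1 A * g1 B = C ∧ f2 A * g2 B = D := by
    intro C D
    obtain ⟨A, B, hAB⟩ := h.nor' C D
    refine ⟨A, B, act_unique fun X => ?_⟩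
    have h1 := hAB X
    have h2 : γ (act A B (δ X)) = act C D X := by rw [← h1, h.right]
    rw [← h2, act_split A B, hf, hg, h.right, act_act]
  have key1 : ∀ A B, f1 A = 1 ∨ g1 B = 1 := by
    intro A B
    apply comm_gen ht0 ht1
    intro C
    obtain ⟨A', B', hC, -⟩ := hsur C 1
    have c1 := (hcomm A B').1
    have c2 := (hcomm A' B).1
    have c3 := (hcomm A B).1
    have e1 : C * f1 A * C⁻¹ = f1 A' * f1 A * (f1 A')⁻¹ := by
      rw [← hC]
      calc f1 A' * g1 B' * f1 A * (f1 A' * g1 B')⁻¹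
          = f1 A' * (g1 B' * f1 A) * (g1 B')⁻¹ * (f1 A')⁻¹ := by group
        _ = f1 A' * (f1 A * g1 B') * (g1 B')⁻¹ * (f1 A')⁻¹ := by rw [c1]
        _ = _ := by group
    rw [e1]
    have e2 : (f1 A')⁻¹ * g1 B = g1 B * (f1 A')⁻¹ := by
      rw [inv_mul_eq_iff_eq_mul, ← mul_assoc, c2, mul_inv_cancel_right]
    calc f1 A' * f1 A * (f1 A')⁻¹ * g1 B = f1 A' * f1 A * ((f1 A')⁻¹ * g1 B) := by group
      _ = f1 A' * (f1 A * g1 B) * (f1 A')⁻¹ := by rw [e2]; group
      _ = (f1 A' * g1 B) * f1 A * (f1 A')⁻¹ := by rw [c3]; group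
      _ = g1 B * (f1 A' * f1 A * (f1 A')⁻¹) := by rw [c2]; group
  have key2 : ∀ A B, f2 A = 1 ∨ g2 B = 1 := by
    intro A B
    apply comm_gen ht0 ht1
    intro C
    obtain ⟨A', B', -, hC⟩ := hsur 1 C
    have c1 := (hcomm A B').2
    have c2 := (hcomm A' B).2
    have c3 := (hcomm A B).2
    have e1 : C * f2 A * C⁻¹ = f2 A' * f2 A * (f2 A')⁻¹ := by
      rw [← hC]
      calc f2 A' * g2 B' * f2 A * (f2 A' * g2 B')⁻¹
          = f2 A' * (g2 B' * f2 A) * (g2 B')⁻¹ * (f2 A')⁻¹ := by group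
        _ = f2 A' * (f2 A * g2 B') * (g2 B')⁻¹ * (f2 A')⁻¹ := by rw [c1]
        _ = _ := by group
    rw [e1]
    have e2 : (f2 A')⁻¹ * g2 B = g2 B * (f2 A')⁻¹ := by
      rw [inv_mul_eq_iff_eq_mul, ← mul_assoc, c2, mul_inv_cancel_right]
    calc f2 A' * f2 A * (f2 A')⁻¹ * g2 B = f2 A' * f2 A * ((f2 A')⁻¹ * g2 B) := by group
      _ = f2 A' * (f2 A * g2 B) * (f2 A')⁻¹ := by rw [e2]; group
      _ = (f2 A' * g2 B) * f2 A * (f2 A')⁻¹ := by rw [c3]; group
      _ = g2 B * (f2 A' * f2 A * (f2 A')⁻¹) := by rw [c2]; group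
  have hne : up (1 : F) ≠ 1 := by
    rw [← up_zero]
    exact fun h1 => one_ne_zero (up_inj h1)
  by_cases hA1 : ∀ A, f1 A = 1
  · -- `f1 = 1`
    by_cases hA2 : ∀ A, f2 A = 1
    · exfalso
      have : up (1 : F) = 1 ∧ (1 : SL F) = 1 := act_eq_one fun X => h.inj (by
        rw [hf, hA1, hA2, act_one])
      exact hne this.1
    · push Not at hA2
      obtain ⟨A0, hA0⟩ := hA2
      have hB2 : ∀ B, g2 B = 1 := fun B => (key2 A0 B).resolve_left hA0
      right
      exact ⟨fun A => ⟨f2 A, fun X => by rw [hf, hA1]⟩, fun B => ⟨g1 B, fun X => by rw [hg, hB2]⟩⟩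
  · push Not at hA1
    obtain ⟨A0, hA0⟩ := hA1
    have hB1 : ∀ B, g1 B = 1 := fun B => (key1 A0 B).resolve_left hA0
    by_cases hA2 : ∀ A, f2 A = 1
    · left
      exact ⟨fun A => ⟨f1 A, fun X => by rw [hf, hA2]⟩, fun B => ⟨g2 B, fun X => by rw [hg, hB1]⟩⟩
    · push Not at hA2
      obtain ⟨A1, hA1⟩ := hA2
      have hB2 : ∀ B, g2 B = 1 := fun B => (key2 A1 B).resolve_left hA1
      exfalso
      have : (1 : SL F) = 1 ∧ up (1 : F) = 1 := act_eq_one fun X => h.inj (by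
        rw [hg, hB1, hB2, act_one])
      exact hne this.2

end Nm

end

end Cfsg.Agent.Omega.NO1.Tens

end

section


/-!
# Type (γ) of the leaf N1: points of `M₂(F)` and elements of the normaliser that fix them (helper914)

`e0 c = c E₁₁` (the point `0`), `e3 c = c E₂₂` (the point `∞`).
-/

set_option autoImplicit false
set_option linter.unusedSectionVars false

namespace Cfsg.Agent.Omega.NO1.Tens

open Matrix

variable {F : Type} [Field F]

/-! ### Rank one -/

theorem act_up_left (a : F) (X : M2 F) : act (up a) 1 X =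
    !![X 0 0 + a * X 1 0, X 0 1 + a * X 1 1; X 1 0, X 1 1] := by
  rw [← up_zero, act_up]
  apply ext2 <;> simp

theorem act_up_right (b : F) (X : M2 F) : act 1 (up b) X =
    !![X 0 0 + b * X 0 1, X 0 1; X 1 0 + b * X 1 1, X 1 1] := by
  rw [← up_zero, act_up]
  apply ext2 <;> simp

theorem act_dn_e0 (s t c : F) : act (dn s) (dn t) (e0 c) = !![c, c * t; s * c, s * c * t] := by
  apply ext2 <;> rw [act_apply, dn_val, dn_val] <;> simp [e0]

theorem act_e0 (A B : SL F) (c : F) : act A B (e0 c) =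
    !![A.1 0 0 * c * B.1 0 0, A.1 0 0 * c * B.1 1 0; A.1 1 0 * c * B.1 0 0, A.1 1 0 * c * B.1 1 0] := by
  apply ext2 <;> rw [act_apply] <;> simp [e0]

theorem act_e3 (A B : SL F) (c : F) : act A B (e3 c) =
    !![A.1 0 1 * c * B.1 0 1, A.1 0 1 * c * B.1 1 1; A.1 1 1 * c * B.1 0 1, A.1 1 1 * c * B.1 1 1] := by
  apply ext2 <;> rw [act_apply] <;> simp [e3]

section char2

variable [CharP F 2]

/-- `[[0,1],[1,0]]` -/
def wy : SL F := ⟨!![0, 1; 1, 0], by
  rw [Matrix.det_fin_two]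
  simp
  exact CharTwo.neg_eq 1⟩

theorem wy_val : (wy : SL F).1 = !![0, 1; 1, 0] := rfl

theorem wy_mul : (wy : SL F) * wy = 1 := by
  apply Subtype.ext
  rw [Matrix.SpecialLinearGroup.coe_mul, wy_val, Matrix.SpecialLinearGroup.coe_one]
  apply ext2 <;> simp [Matrix.mul_apply, Fin.sum_univ_two]

theorem act_wy_wy (X : M2 F) : act wy wy (act wy wy X) = X := by
  rw [act_act, wy_mul, act_one]

theorem act_wy_e0 (c : F) : act wy wy (e0 c) = e3 c := by
  rw [act_e0, wy_val]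
  apply ext2 <;> simp [e3]

theorem act_wy_e3 (c : F) : act wy wy (e3 c) = e0 c := by
  rw [← act_wy_e0, act_wy_wy]

theorem up_up (a : F) : up a * up a = 1 := by
  rw [← up_add, CharTwo.add_self_eq_zero, up_zero]

theorem up_inv (a : F) : (up a)⁻¹ = up a := inv_eq_of_mul_eq_one_left (up_up a)

theorem act_up_up (a b : F) (X : M2 F) : act (up a) (up b) (act (up a) (up b) X) = X := by
  rw [act_act, up_up, up_up, act_one]

theorem exists_e0 {X : M2 F} (h : X.det = 0) : ∃ A B : SL F, ∃ c, X = act A B (e0 c) := by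
  rw [Matrix.det_fin_two] at h
  have h' : X 0 0 * X 1 1 = X 0 1 * X 1 0 := sub_eq_zero.1 h
  by_cases h00 : X 0 0 = 0
  · rw [h00, zero_mul] at h'
    by_cases h01 : X 0 1 = 0
    · by_cases h10 : X 1 0 = 0
      · refine ⟨wy, wy, X 1 1, ?_⟩
        rw [act_wy_e0]
        apply ext2 <;> simp [e3, h00, h01, h10]
      · refine ⟨wy, dn (X 1 1 / X 1 0), X 1 0, ?_⟩
        rw [act_e0, wy_val, dn_val]
        apply ext2
        · simp [h00]
        · simp [h01]
        · simp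
        · simp only [Matrix.of_apply, Matrix.cons_val', Matrix.cons_val_zero, Matrix.cons_val_one,
            Matrix.cons_val_fin_one]
          field_simp
    · have h10 : X 1 0 = 0 := (mul_eq_zero.1 h'.symm).resolve_left h01
      refine ⟨dn (X 1 1 / X 0 1), wy, X 0 1, ?_⟩
      rw [act_e0, wy_val, dn_val]
      apply ext2
      · simp [h00]
      · simp
      · simp [h10]
      · simp only [Matrix.of_apply, Matrix.cons_val', Matrix.cons_val_zero, Matrix.cons_val_one,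
          Matrix.cons_val_fin_one]
        field_simp
  · refine ⟨dn (X 1 0 / X 0 0), dn (X 0 1 / X 0 0), X 0 0, ?_⟩
    rw [act_dn_e0]
    apply ext2
    · simp
    · simp only [Matrix.of_apply, Matrix.cons_val', Matrix.cons_val_zero, Matrix.cons_val_one,
        Matrix.cons_val_fin_one]
      field_simp
    · simp only [Matrix.of_apply, Matrix.cons_val', Matrix.cons_val_zero, Matrix.cons_val_one,
        Matrix.cons_val_fin_one]
      field_simp
    · simp only [Matrix.of_apply, Matrix.cons_val', Matrix.cons_val_zero, Matrix.cons_val_one,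
        Matrix.cons_val_fin_one]
      field_simp
      rw [mul_comm (X 1 0), ← h', mul_comm]

theorem det_e0 (c : F) : (e0 c).det = 0 := by
  rw [Matrix.det_fin_two]; simp [e0]

theorem det_e3 (c : F) : (e3 c).det = 0 := by
  rw [Matrix.det_fin_two]; simp [e3]

theorem up_one_ne : up (1 : F) ≠ 1 := by
  rw [← up_zero]
  exact fun h1 => one_ne_zero (up_inj h1)

theorem det_left {X : M2 F} (h : X.det = 0) : ∃ A : SL F, A ≠ 1 ∧ act A 1 X = X := by
  obtain ⟨A, B, c, rfl⟩ := exists_e0 h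
  refine ⟨A * up 1 * A⁻¹, fun h1 => up_one_ne (F := F) ?_, ?_⟩
  · have : up (1 : F) = A⁻¹ * (A * up 1 * A⁻¹) * A := by group
    rw [this, h1]; group
  · rw [act_act, one_mul]
    have e : A * up 1 * A⁻¹ * A = A * up 1 := by group
    rw [e]
    have : act (A * up 1) B (e0 c) = act A B (act (up 1) 1 (e0 c)) := by
      rw [act_act, mul_one]
    rw [this, ← up_zero, act_up_e0]

theorem det_right {X : M2 F} (h : X.det = 0) : ∃ B : SL F, B ≠ 1 ∧ act 1 B X = X := by
  obtain ⟨A, B, c, rfl⟩ := exists_e0 h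
  refine ⟨B * up 1 * B⁻¹, fun h1 => up_one_ne (F := F) ?_, ?_⟩
  · have : up (1 : F) = B⁻¹ * (B * up 1 * B⁻¹) * B := by group
    rw [this, h1]; group
  · rw [act_act, one_mul]
    have e : B * up 1 * B⁻¹ * B = B * up 1 := by group
    rw [e]
    have : act A (B * up 1) (e0 c) = act A B (act 1 (up 1) (e0 c)) := by
      rw [act_act, mul_one]
    rw [this, ← up_zero, act_up_e0]

theorem det_ne_left {X : M2 F} (h : X.det ≠ 0) {A : SL F} (hA : act A 1 X = X) : A = 1 := by
  have hu : IsUnit X.det := isUnit_iff_ne_zero.2 h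
  have h1 : A.1 * X = X := by simpa [act] using hA
  refine (act_eq_one (A := A) (B := 1) fun Y => ?_).1
  have h2 : A.1 * Y = Y := by
    calc A.1 * Y = (A.1 * X) * (X⁻¹ * Y) := by
          rw [Matrix.mul_assoc, ← Matrix.mul_assoc X, Matrix.mul_nonsing_inv X hu, Matrix.one_mul]
      _ = Y := by rw [h1, ← Matrix.mul_assoc, Matrix.mul_nonsing_inv X hu, Matrix.one_mul]
  simpa [act] using h2

theorem det_ne_right {X : M2 F} (h : X.det ≠ 0) {B : SL F} (hB : act 1 B X = X) : B = 1 := by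
  have h1 : X.transpose.det ≠ 0 := by rwa [Matrix.det_transpose]
  refine det_ne_left h1 ?_
  rw [act_transpose, hB]

/-- The stabiliser of `c E₁₁` in the right factor. -/
theorem act_e0_right {B : SL F} {c : F} (hc : c ≠ 0) (h : act 1 B (e0 c) = e0 c) :
    B = up (B.1 0 1) := by
  refine act_e0_left (c := c) hc ?_
  have h1 : (e0 c : M2 F) = (e0 c).transpose := by apply ext2 <;> simp [e0]
  rw [h1, act_transpose, h, ← h1]

/-- `X` is in the point `0` iff it is fixed by all `act (up a) (up b)`. -/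
theorem eq_e0_of_fixed {X : M2 F} (h1 : act (up 1) 1 X = X) (h2 : act 1 (up 1) X = X) :
    X = e0 (X 0 0) := by
  rw [act_up_left] at h1
  rw [act_up_right] at h2
  have a1 := congrFun (congrFun h1 0) 0
  have a2 := congrFun (congrFun h1 0) 1
  have a3 := congrFun (congrFun h2 0) 0
  simp at a1 a2 a3
  apply ext2 <;> simp [e0, a1, a2, a3]

end char2

/-! ### Elements of the normaliser -/

namespace Nm

variable [CharP F 2] {γ δ : M2 F → M2 F}

theorem T1_symm (h : Nm γ δ) (hT : T1 γ) : T1 δ := by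
  constructor
  · intro A
    obtain ⟨A', B', h1⟩ := h.nor' A 1
    obtain ⟨A1, hA1⟩ := hT.1 A'
    obtain ⟨B1, hB1⟩ := hT.2 B'
    have h2 : ∀ X, act A 1 X = act A1 B1 X := by
      intro X
      have h3 := h1 X
      have h4 : γ (act A' B' (δ X)) = act A 1 X := by rw [← h3, h.right]
      rw [← h4, act_split, hA1, hB1, h.right, ← act_split]
    have h5 := (act_unique h2).2
    have h6 : B' = 1 := by
      refine (act_eq_one (A := 1) (B := B') fun X => h.inj ?_).2
      rw [hB1, ← h5, act_one]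
    exact ⟨A', fun X => by rw [h1, h6]⟩
  · intro B
    obtain ⟨A', B', h1⟩ := h.nor' 1 B
    obtain ⟨A1, hA1⟩ := hT.1 A'
    obtain ⟨B1, hB1⟩ := hT.2 B'
    have h2 : ∀ X, act 1 B X = act A1 B1 X := by
      intro X
      have h3 := h1 X
      have h4 : γ (act A' B' (δ X)) = act 1 B X := by rw [← h3, h.right]
      rw [← h4, act_split, hA1, hB1, h.right, ← act_split]
    have h5 := (act_unique h2).1
    have h6 : A' = 1 := by
      refine (act_eq_one (A := A') (B := 1) fun X => h.inj ?_).1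
      rw [hA1, ← h5, act_one]
    exact ⟨B', fun X => by rw [h1, h6]⟩

theorem T2_symm (h : Nm γ δ) (hT : T2 γ) : T2 δ := by
  constructor
  · intro A
    obtain ⟨A', B', h1⟩ := h.nor' A 1
    obtain ⟨A1, hA1⟩ := hT.1 A'
    obtain ⟨B1, hB1⟩ := hT.2 B'
    have h2 : ∀ X, act A 1 X = act B1 A1 X := by
      intro X
      have h3 := h1 X
      have h4 : γ (act A' B' (δ X)) = act A 1 X := by rw [← h3, h.right]
      rw [← h4, act_split, hA1, hB1, h.right, ← act_split']
    have h5 := (act_unique h2).2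
    have h6 : A' = 1 := by
      refine (act_eq_one (A := A') (B := 1) fun X => h.inj ?_).1
      rw [hA1, ← h5, act_one]
    exact ⟨B', fun X => by rw [h1, h6]⟩
  · intro B
    obtain ⟨A', B', h1⟩ := h.nor' 1 B
    obtain ⟨A1, hA1⟩ := hT.1 A'
    obtain ⟨B1, hB1⟩ := hT.2 B'
    have h2 : ∀ X, act 1 B X = act B1 A1 X := by
      intro X
      have h3 := h1 X
      have h4 : γ (act A' B' (δ X)) = act 1 B X := by rw [← h3, h.right]
      rw [← h4, act_split, hA1, hB1, h.right, ← act_split']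
    have h5 := (act_unique h2).1
    have h6 : B' = 1 := by
      refine (act_eq_one (A := 1) (B := B') fun X => h.inj ?_).2
      rw [hB1, ← h5, act_one]
    exact ⟨A', fun X => by rw [h1, h6]⟩

theorem not_T1_T2 (h : Nm γ δ) (h1 : T1 γ) (h2 : T2 γ) : False := by
  obtain ⟨A', hA⟩ := h1.1 (up 1)
  obtain ⟨B', hB⟩ := h2.1 (up 1)
  have h3 : ∀ X, act A' 1 X = act 1 B' X := fun X => by
    have := hA (δ X)
    rw [hB (δ X), h.right] at this
    exact this.symm
  have h4 := (act_unique h3).1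
  refine up_one_ne (F := F) (act_eq_one (A := up 1) (B := 1) fun X => h.inj ?_).1
  rw [hA, h4, act_one]

/-- The rank is preserved. -/
theorem det_eq_zero (h : Nm γ δ) {t : F} (ht0 : t ≠ 0) (ht1 : t ≠ 1) {X : M2 F} (hX : X.det = 0) :
    (γ X).det = 0 := by
  by_contra hcon
  obtain ⟨A, hA, hAX⟩ := det_left hX
  rcases h.dich ht0 ht1 with hT | hT
  · obtain ⟨A', hA'⟩ := hT.1 A
    have h1 := det_ne_left hcon (A := A') (by rw [← hA', hAX])
    refine hA (act_eq_one (A := A) (B := 1) fun Y => h.inj ?_).1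
    rw [hA', h1, act_one]
  · obtain ⟨B', hB'⟩ := hT.1 A
    have h1 := det_ne_right hcon (B := B') (by rw [← hB', hAX])
    refine hA (act_eq_one (A := A) (B := 1) fun Y => h.inj ?_).1
    rw [hB', h1, act_one]

/-- `γ` normalises `{act (up a) (up b)}` if it maps some `c E₁₁ ≠ 0` to some `d E₁₁`. -/
theorem un (h : Nm γ δ) {t : F} (ht0 : t ≠ 0) (ht1 : t ≠ 1) {c d : F} (hc : c ≠ 0)
    (he : γ (e0 c) = e0 d) (a b : F) :
    ∃ a' b', ∀ X, γ (act (up a) (up b) X) = act (up a') (up b') (γ X) := by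
  have hd : d ≠ 0 := by
    rintro rfl
    rw [e0_zero, ← h.zero] at he
    exact e0_ne hc (h.inj he)
  rcases h.dich ht0 ht1 with hT | hT
  · obtain ⟨A', hA'⟩ := hT.1 (up a)
    obtain ⟨B', hB'⟩ := hT.2 (up b)
    have h1 : A' = up (A'.1 0 1) := act_e0_left hd (by
      rw [← he, ← hA', ← up_zero, act_up_e0])
    have h2 : B' = up (B'.1 0 1) := act_e0_right hd (by
      rw [← he, ← hB', ← up_zero, act_up_e0])
    refine ⟨A'.1 0 1, B'.1 0 1, fun X => ?_⟩
    rw [← h1, ← h2, act_split, hA', hB', ← act_split]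
  · obtain ⟨A', hA'⟩ := hT.1 (up a)
    obtain ⟨B', hB'⟩ := hT.2 (up b)
    have h1 : A' = up (A'.1 0 1) := act_e0_right hd (by
      rw [← he, ← hA', ← up_zero, act_up_e0])
    have h2 : B' = up (B'.1 0 1) := act_e0_left hd (by
      rw [← he, ← hB', ← up_zero, act_up_e0])
    refine ⟨B'.1 0 1, A'.1 0 1, fun X => ?_⟩
    rw [← h1, ← h2, act_split, hA', hB', ← act_split']

/-- If `γ` maps some `c E₁₁ ≠ 0` to some `d E₁₁`, it fixes the point `0`. -/
theorem fix0 (h : Nm γ δ) {t : F} (ht0 : t ≠ 0) (ht1 : t ≠ 1) {c d : F} (hc : c ≠ 0)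
    (he : γ (e0 c) = e0 d) (x : F) : ∃ y, γ (e0 x) = e0 y := by
  have hd : d ≠ 0 := by
    rintro rfl
    rw [e0_zero, ← h.zero] at he
    exact e0_ne hc (h.inj he)
  have he' : δ (e0 d) = e0 c := by rw [← he, h.left]
  have key : ∀ a b, act (up a) (up b) (γ (e0 x)) = γ (e0 x) := by
    intro a b
    obtain ⟨a', b', h1⟩ := h.symm.un ht0 ht1 hd he' a b
    have h2 := h1 (γ (e0 x))
    rw [h.left, act_up_e0] at h2
    have h3 := congrArg γ h2
    rwa [h.right] at h3
  refine ⟨_, eq_e0_of_fixed ?_ ?_⟩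
  · have := key 1 0; rwa [up_zero] at this
  · have := key 0 1; rwa [up_zero] at this

/-- The same for the point `∞`. -/
theorem fix3 (h : Nm γ δ) {t : F} (ht0 : t ≠ 0) (ht1 : t ≠ 1) {c d : F} (hc : c ≠ 0)
    (he : γ (e3 c) = e3 d) (x : F) : ∃ y, γ (e3 x) = e3 y := by
  have h1 : Nm (fun X => act wy wy (γ (act wy wy X))) (fun X => act wy wy (δ (act wy wy X))) := by
    have hw : Nm (act wy wy : M2 F → M2 F) (act wy wy) := by
      have := of_act (F := F) wy wy
      rwa [inv_eq_of_mul_eq_one_left wy_mul] at this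
    exact hw.comp (h.comp hw)
  obtain ⟨y, hy⟩ := h1.fix0 ht0 ht1 hc (d := d) (by
    show act wy wy (γ (act wy wy (e0 c))) = e0 d
    rw [act_wy_e0, he, act_wy_e3]) x
  refine ⟨y, act_inj (A := wy) (B := wy) ?_⟩
  rw [act_wy_e3, ← hy]
  show _ = act wy wy (γ (act wy wy (e0 x)))
  rw [act_wy_e0]

/-- **Opposite points.** If `γ` fixes the point `0`, it maps `∞` to some `act (up a) (up b) ∞`. -/
theorem opp (h : Nm γ δ) {t : F} (ht0 : t ≠ 0) (ht1 : t ≠ 1) (h0 : ∀ x, ∃ y, γ (e0 x) = e0 y) :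
    ∃ a b, ∀ x, ∃ y, γ (e3 x) = act (up a) (up b) (e3 y) := by
  obtain ⟨d, hd⟩ := h0 1
  have hd0 : d ≠ 0 := by
    rintro rfl
    rw [e0_zero, ← h.zero] at hd
    exact e0_ne one_ne_zero (h.inj hd)
  have hd' : δ (e0 d) = e0 1 := by rw [← hd, h.left]
  set Y := γ (e3 1) with hY
  have hdet : Y.det = 0 := h.det_eq_zero ht0 ht1 (det_e3 1)
  rw [Matrix.det_fin_two] at hdet
  have hdet' : Y 0 0 * Y 1 1 = Y 0 1 * Y 1 0 := sub_eq_zero.1 hdet
  -- no nontrivial `act (up a) (up b)` fixes `Y`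
  have key : ∀ a b, act (up a) (up b) Y = Y → a = 0 ∧ b = 0 := by
    intro a b hab
    obtain ⟨a', b', h1⟩ := h.symm.un ht0 ht1 hd0 hd' a b
    have h2 := h1 Y
    rw [hab, hY, h.left] at h2
    have e01 := congrFun (congrFun h2 0) 1
    have e10 := congrFun (congrFun h2 1) 0
    rw [act_up] at e01 e10
    simp [e3] at e01 e10
    have h3 : ∀ X, act (up a) (up b) X = X := by
      intro X
      have h4 := h1 X
      rw [← e01, ← e10, up_zero, act_one] at h4
      exact h.symm.inj h4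
    have h5 := act_eq_one h3
    rw [← up_zero] at h5
    exact ⟨up_inj h5.1, up_inj h5.2⟩
  have hY11 : Y 1 1 ≠ 0 := by
    intro h11
    rw [h11, mul_zero] at hdet'
    rcases mul_eq_zero.1 hdet'.symm with h01 | h10
    · -- second column zero
      have := (key 0 1 (by rw [act_up]; apply ext2 <;> simp [h01, h11])).2
      exact one_ne_zero this
    · have := (key 1 0 (by rw [act_up]; apply ext2 <;> simp [h10, h11])).1
      exact one_ne_zero this
  have hYe : Y = act (up (Y 0 1 / Y 1 1)) (up (Y 1 0 / Y 1 1)) (e3 (Y 1 1)) := by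
    rw [act_up]
    apply ext2
    · simp only [e3, Matrix.of_apply, Matrix.cons_val', Matrix.cons_val_zero, Matrix.cons_val_one,
        Matrix.cons_val_fin_one]
      field_simp
      rw [hdet']
      ring
    · simp only [e3, Matrix.of_apply, Matrix.cons_val', Matrix.cons_val_zero, Matrix.cons_val_one,
        Matrix.cons_val_fin_one]
      field_simp
      ring
    · simp only [e3, Matrix.of_apply, Matrix.cons_val', Matrix.cons_val_zero, Matrix.cons_val_one,
        Matrix.cons_val_fin_one]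
      field_simp
      ring
    · simp [e3]
  refine ⟨Y 0 1 / Y 1 1, Y 1 0 / Y 1 1, fun x => ?_⟩
  have hg : Nm (fun X => act (up (Y 0 1 / Y 1 1)) (up (Y 1 0 / Y 1 1)) (γ X))
      (fun X => δ (act (up (Y 0 1 / Y 1 1)) (up (Y 1 0 / Y 1 1)) X)) := by
    have hw := of_act (F := F) (up (Y 0 1 / Y 1 1)) (up (Y 1 0 / Y 1 1))
    rw [up_inv, up_inv] at hw
    exact hw.comp h
  obtain ⟨y, hy⟩ := hg.fix3 ht0 ht1 one_ne_zero (d := Y 1 1) (by
    have h2 := congrArg (act (up (Y 0 1 / Y 1 1)) (up (Y 1 0 / Y 1 1))) hYe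
    rw [act_up_up] at h2
    exact h2) x
  refine ⟨y, ?_⟩
  rw [← hy]
  show _ = act _ _ (act _ _ (γ (e3 x)))
  rw [act_up_up]

end Nm

end Cfsg.Agent.Omega.NO1.Tens

end

section


/-!
# Type (γ) of the leaf N1: 2-elements of the normaliser that fix the point `0` (helper914)

* `Nm.mem_U` : a 2-element of type `T1` that fixes the point `0` and centralises the torus
  `T₁ = {act (tor l) (tor l⁻¹)}` modulo `U₀ = {act (up a) (up b)}` lies in `U₀`;
* `Nm.swap_*` : the same for type `T2` (`|F| = 4` and `γ` moves `V / R^⊥`).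
-/

set_option autoImplicit false
set_option linter.unusedSectionVars false

namespace Cfsg.Agent.Omega.NO1.Tens

open Matrix

variable {F : Type} [Field F] [CharP F 2]

theorem eq_one_of_pow {x : F} {k : ℕ} (h : x ^ 2 ^ k = 1) : x = 1 := by
  induction k with
  | zero => simpa using h
  | succ k ih => exact ih (eq_one_of_sq (by rw [← pow_two, ← pow_mul, ← pow_succ]; exact h))

theorem exists_sq [Finite F] {x : F} (hx : x ≠ 0) : ∃ l : Fˣ, (l : F) * l = x := by
  have h1 : Function.Injective (fun y : F => y * y) := by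
    intro y z hyz
    have : (y + z) * (y + z) = 0 := by
      have e : (y + z) * (y + z) = y * y + z * z + (y * z + y * z) := by ring
      rw [e, CharTwo.add_self_eq_zero, add_zero, show y * y = z * z from hyz,
        CharTwo.add_self_eq_zero]
    have h2 : y + z = 0 := by rcases mul_eq_zero.1 this with h | h <;> exact h
    exact CharTwo.add_eq_zero.1 h2
  obtain ⟨y, hy⟩ := (Finite.injective_iff_surjective.1 h1) x
  have hy0 : y ≠ 0 := by
    rintro rfl
    apply hx
    rw [← hy]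
    exact zero_mul 0
  exact ⟨Units.mk0 y hy0, hy⟩

theorem act_up_e3_left (a c : F) : act (up a) 1 (e3 c) = e3 c + e1 (a * c) := by
  rw [act_up_left]; apply ext2 <;> simp [e3, e1]

theorem act_up_e3_right (b c : F) : act 1 (up b) (e3 c) = e3 c + e2 (b * c) := by
  rw [act_up_right]; apply ext2 <;> simp [e3, e2]

theorem act_up_e2_left (a c : F) : act (up a) 1 (e2 c) = e2 c + e0 (a * c) := by
  rw [act_up_left]; apply ext2 <;> simp [e2, e0]

theorem act_up_e1_left (a c : F) : act (up a) 1 (e1 c) = e1 c := by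
  rw [act_up_left]; apply ext2 <;> simp [e1]

theorem act_up_e1_right (b c : F) : act 1 (up b) (e1 c) = e1 c + e0 (b * c) := by
  rw [act_up_right]; apply ext2 <;> simp [e1, e0]

theorem act_up_e3 (a b c : F) : act (up a) (up b) (e3 c) =
    e3 c + e1 (a * c) + e2 (b * c) + e0 (a * b * c) := by
  rw [act_up]; apply ext2 <;> simp [e3, e1, e2, e0] <;> ring

theorem act_tor_e1 (l : Fˣ) (c : F) : act (tor l) (tor l⁻¹) (e1 c) = e1 (l * l * c) := by
  rw [act_tor]; apply ext2 <;> simp [e1]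

theorem act_tor_e2 (l : Fˣ) (c : F) : act (tor l) (tor l⁻¹) (e2 c) =
    e2 ((l : F)⁻¹ * (l : F)⁻¹ * c) := by
  rw [act_tor]; apply ext2 <;> simp [e2]

theorem act_tor_e3 (l : Fˣ) (c : F) : act (tor l) (tor l⁻¹) (e3 c) = e3 c := by
  rw [act_tor]; apply ext2 <;> simp [e3]

theorem tor_up (l : Fˣ) (a : F) : tor l * up a = up (l * l * a) * tor l := by
  apply Subtype.ext
  rw [Matrix.SpecialLinearGroup.coe_mul, Matrix.SpecialLinearGroup.coe_mul, tor_val, up_val, up_val]
  apply ext2 <;> simp [Matrix.mul_apply, Fin.sum_univ_two]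
  field_simp

namespace Nm

variable {γ δ : M2 F → M2 F}

theorem ne_zero_of (h : Nm γ δ) {c d : F} (hc : c ≠ 0) (he : γ (e0 c) = e0 d) : d ≠ 0 := by
  rintro rfl
  rw [e0_zero, ← h.zero] at he
  exact e0_ne hc (h.inj he)

theorem un1_left (h : Nm γ δ) (hT : T1 γ) (h0 : ∀ x, ∃ y, γ (e0 x) = e0 y) (a : F) :
    ∃ a', ∀ X, γ (act (up a) 1 X) = act (up a') 1 (γ X) := by
  obtain ⟨d, he⟩ := h0 1
  have hd := h.ne_zero_of one_ne_zero he
  obtain ⟨A', hA'⟩ := hT.1 (up a)
  have h1 : A' = up (A'.1 0 1) := act_e0_left hd (by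
    rw [← he, ← hA', ← up_zero, act_up_e0])
  exact ⟨A'.1 0 1, fun X => by rw [← h1, hA']⟩

theorem un1_right (h : Nm γ δ) (hT : T1 γ) (h0 : ∀ x, ∃ y, γ (e0 x) = e0 y) (b : F) :
    ∃ b', ∀ X, γ (act 1 (up b) X) = act 1 (up b') (γ X) := by
  obtain ⟨d, he⟩ := h0 1
  have hd := h.ne_zero_of one_ne_zero he
  obtain ⟨B', hB'⟩ := hT.2 (up b)
  have h1 : B' = up (B'.1 0 1) := act_e0_right hd (by
    rw [← he, ← hB', ← up_zero, act_up_e0])
  exact ⟨B'.1 0 1, fun X => by rw [← h1, hB']⟩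

theorem un2_left (h : Nm γ δ) (hT : T2 γ) (h0 : ∀ x, ∃ y, γ (e0 x) = e0 y) (a : F) :
    ∃ a', ∀ X, γ (act (up a) 1 X) = act 1 (up a') (γ X) := by
  obtain ⟨d, he⟩ := h0 1
  have hd := h.ne_zero_of one_ne_zero he
  obtain ⟨A', hA'⟩ := hT.1 (up a)
  have h1 : A' = up (A'.1 0 1) := act_e0_right hd (by
    rw [← he, ← hA', ← up_zero, act_up_e0])
  exact ⟨A'.1 0 1, fun X => by rw [← h1, hA']⟩

theorem un2_right (h : Nm γ δ) (hT : T2 γ) (h0 : ∀ x, ∃ y, γ (e0 x) = e0 y) (b : F) :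
    ∃ b', ∀ X, γ (act 1 (up b) X) = act (up b') 1 (γ X) := by
  obtain ⟨d, he⟩ := h0 1
  have hd := h.ne_zero_of one_ne_zero he
  obtain ⟨B', hB'⟩ := hT.2 (up b)
  have h1 : B' = up (B'.1 0 1) := act_e0_left hd (by
    rw [← he, ← hB', ← up_zero, act_up_e0])
  exact ⟨B'.1 0 1, fun X => by rw [← h1, hB']⟩

theorem up_ne_one {a : F} (ha : a ≠ 0) : up a ≠ 1 := by
  rw [← up_zero]
  exact fun h => ha (up_inj h)

/-- Normal form, type `T1`. -/
theorem nf1 [Finite F] (h : Nm γ δ) (hT : T1 γ) (h0 : ∀ x, ∃ y, γ (e0 x) = e0 y)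
    (h3 : ∀ x, ∃ y, γ (e3 x) = e3 y)
    (ht : ∀ (l : Fˣ) (X : M2 F), γ (act (tor l) (tor l⁻¹) X) = act (tor l) (tor l⁻¹) (γ X)) :
    ∃ p q g : F, g ≠ 0 ∧ ∀ X, γ X =
      !![p * q * g * X 0 0, p * g * X 0 1; q * g * X 1 0, g * X 1 1] := by
  choose φ hφ using h.un1_left hT h0
  choose ψ hψ using h.un1_right hT h0
  choose G hG using h3
  have hP : ∀ a c, γ (e1 (a * c)) = e1 (φ a * G c) := by
    intro a c
    have h1 := hφ a (e3 c)
    rw [act_up_e3_left, h.add, hG, act_up_e3_left] at h1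
    exact add_left_cancel h1
  have hQ : ∀ b c, γ (e2 (b * c)) = e2 (ψ b * G c) := by
    intro b c
    have h1 := hψ b (e3 c)
    rw [act_up_e3_right, h.add, hG, act_up_e3_right] at h1
    exact add_left_cancel h1
  have hφ1 : φ 1 ≠ 0 := by
    intro h1
    refine up_ne_one (F := F) one_ne_zero (act_eq_one (A := up 1) (B := 1) fun X => h.inj ?_).1
    rw [hφ, h1, up_zero, act_one]
  have hG1 : G 1 ≠ 0 := by
    intro h1
    have h2 := hG 1
    rw [h1, e3_zero, ← h.zero] at h2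
    exact e3_ne one_ne_zero (h.inj h2)
  have hP1 : ∀ c, γ (e1 c) = e1 (φ 1 * G c) := fun c => by
    have := hP 1 c; rwa [one_mul] at this
  -- linearity
  have hlin : ∀ x c : F, x ≠ 0 → φ 1 * G (x * c) = x * (φ 1 * G c) := by
    intro x c hx
    obtain ⟨l, hl⟩ := exists_sq hx
    have h1 := ht l (e1 c)
    rw [act_tor_e1, hl, hP1, hP1, act_tor_e1, hl] at h1
    exact e1_inj h1
  have hGlin : ∀ c, G c = c * G 1 := by
    intro c
    by_cases hc : c = 0
    · rw [hc, zero_mul]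
      have h1 := hG 0
      rw [e3_zero, h.zero, ← e3_zero] at h1
      exact (e3_inj h1).symm
    · have h1 := hlin c 1 hc
      rw [mul_one] at h1
      refine mul_left_cancel₀ hφ1 ?_
      rw [h1]; ring
  refine ⟨φ 1, ψ 1, G 1, hG1, fun X => ?_⟩
  have h00 : ∀ c, γ (e0 c) = e0 (φ 1 * ψ 1 * G 1 * c) := by
    intro c
    have h1 := hφ 1 (e2 c)
    have h2 : γ (e2 c) = e2 (ψ 1 * G c) := by have := hQ 1 c; rwa [one_mul] at this
    rw [act_up_e2_left, h.add, h2, act_up_e2_left, one_mul] at h1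
    rw [add_left_cancel h1, hGlin c]
    congr 1; ring
  have h10 : ∀ c, γ (e2 c) = e2 (ψ 1 * G 1 * c) := by
    intro c
    have := hQ 1 c
    rw [one_mul, hGlin c] at this
    rw [this]; congr 1; ring
  have h01 : ∀ c, γ (e1 c) = e1 (φ 1 * G 1 * c) := by
    intro c
    rw [hP1, hGlin c]; congr 1; ring
  have h11 : ∀ c, γ (e3 c) = e3 (G 1 * c) := by
    intro c
    rw [hG, hGlin c, mul_comm]
  conv_lhs => rw [e_sum X]
  rw [h.add, h.add, h.add, h00, h01, h10, h11]
  apply ext2 <;> simp [e0, e1, e2, e3]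

/-- Normal form, type `T2`. -/
theorem nf2 [Finite F] (h : Nm γ δ) (hT : T2 γ) (h0 : ∀ x, ∃ y, γ (e0 x) = e0 y)
    (h3 : ∀ x, ∃ y, γ (e3 x) = e3 y)
    (ht : ∀ (l : Fˣ) (X : M2 F), γ (act (tor l) (tor l⁻¹) X) = act (tor l) (tor l⁻¹) (γ X)) :
    ∃ p g : F, g ≠ 0 ∧ p ≠ 0 ∧ (∀ c, γ (e3 c) = e3 (c⁻¹ * g)) ∧ (∀ c, γ (e1 c) = e2 (c⁻¹ * p)) ∧
      (∀ c, ∃ d, γ (e2 c) = e1 d) := by
  choose φ hφ using h.un2_left hT h0
  choose ψ hψ using h.un2_right hT h0
  choose G hG using h3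
  have hP : ∀ a c, γ (e1 (a * c)) = e2 (φ a * G c) := by
    intro a c
    have h1 := hφ a (e3 c)
    rw [act_up_e3_left, h.add, hG, act_up_e3_right] at h1
    exact add_left_cancel h1
  have hQ : ∀ b c, γ (e2 (b * c)) = e1 (ψ b * G c) := by
    intro b c
    have h1 := hψ b (e3 c)
    rw [act_up_e3_right, h.add, hG, act_up_e3_left] at h1
    exact add_left_cancel h1
  have hφ1 : φ 1 ≠ 0 := by
    intro h1
    refine up_ne_one (F := F) one_ne_zero (act_eq_one (A := up 1) (B := 1) fun X => h.inj ?_).1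
    rw [hφ, h1, up_zero, act_one]
  have hG1 : G 1 ≠ 0 := by
    intro h1
    have h2 := hG 1
    rw [h1, e3_zero, ← h.zero] at h2
    exact e3_ne one_ne_zero (h.inj h2)
  have hP1 : ∀ c, γ (e1 c) = e2 (φ 1 * G c) := fun c => by
    have := hP 1 c; rwa [one_mul] at this
  have hlin : ∀ x c : F, x ≠ 0 → φ 1 * G (x * c) = x⁻¹ * (φ 1 * G c) := by
    intro x c hx
    obtain ⟨l, hl⟩ := exists_sq hx
    have h1 := ht l (e1 c)
    rw [act_tor_e1, hl, hP1, hP1, act_tor_e2] at h1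
    rw [e2_inj h1, ← mul_inv, hl]
  have hGlin : ∀ c, G c = c⁻¹ * G 1 := by
    intro c
    by_cases hc : c = 0
    · rw [hc, _root_.inv_zero, zero_mul]
      have h1 := hG 0
      rw [e3_zero, h.zero, ← e3_zero] at h1
      exact (e3_inj h1).symm
    · have h1 := hlin c 1 hc
      rw [mul_one] at h1
      refine mul_left_cancel₀ hφ1 ?_
      rw [h1]; ring
  refine ⟨φ 1 * G 1, G 1, hG1, mul_ne_zero hφ1 hG1, fun c => ?_, fun c => ?_, fun c => ?_⟩
  · rw [hG, hGlin c]
  · rw [hP1, hGlin c]; congr 1; ring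
  · have := hQ 1 c
    rw [one_mul] at this
    exact ⟨_, this⟩

/-- Correction of `γ` by an element of `U₀`. -/
theorem adjust (h : Nm γ δ) {t : F} (ht0 : t ≠ 0) (ht1 : t ≠ 1) (h0 : ∀ x, ∃ y, γ (e0 x) = e0 y)
    (htor : ∀ l : Fˣ, ∃ a b, ∀ X, γ (act (tor l) (tor l⁻¹) X) =
      act (up a * tor l) (up b * tor l⁻¹) (γ X)) :
    ∃ a b, (∀ x, ∃ y, act (up a) (up b) (γ (e0 x)) = e0 y) ∧
      (∀ x, ∃ y, act (up a) (up b) (γ (e3 x)) = e3 y) ∧
      (∀ (l : Fˣ) (X : M2 F), act (up a) (up b) (γ (act (tor l) (tor l⁻¹) X)) =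
        act (tor l) (tor l⁻¹) (act (up a) (up b) (γ X))) := by
  obtain ⟨a, b, hab⟩ := h.opp ht0 ht1 h0
  have h3 : ∀ x, ∃ y, act (up a) (up b) (γ (e3 x)) = e3 y := by
    intro x
    obtain ⟨y, hy⟩ := hab x
    exact ⟨y, by rw [hy, act_up_up]⟩
  refine ⟨a, b, ?_, h3, ?_⟩
  · intro x
    obtain ⟨y, hy⟩ := h0 x
    exact ⟨y, by rw [hy, act_up_e0]⟩
  · intro l X
    obtain ⟨a', b', h1⟩ := htor l
    -- `act u ∘ γ ∘ act t = act (up a'') (up b'') ∘ act t ∘ act u ∘ γ`
    have h2 : ∀ X, act (up a) (up b) (γ (act (tor l) (tor l⁻¹) X)) =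
        act (up (a + a' + l * l * a)) (up (b + b' + (l⁻¹ : Fˣ) * (l⁻¹ : Fˣ) * b))
          (act (tor l) (tor l⁻¹) (act (up a) (up b) (γ X))) := by
      intro X
      rw [h1, act_act, act_act, act_act]
      congr 1
      · rw [mul_assoc (up (a + a' + l * l * a)), tor_up, up_add, up_add]
        calc up a * (up a' * tor l) = up a * up a' * (1 * tor l) := by group
          _ = up a * up a' * (up (l * l * a) * up (l * l * a) * tor l) := by rw [up_up]
          _ = _ := by group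
      · rw [mul_assoc (up (b + b' + (l⁻¹ : Fˣ) * (l⁻¹ : Fˣ) * b)), tor_up, up_add, up_add]
        calc up b * (up b' * tor l⁻¹) = up b * up b' * (1 * tor l⁻¹) := by group
          _ = up b * up b' * (up ((l⁻¹ : Fˣ) * (l⁻¹ : Fˣ) * b) * up ((l⁻¹ : Fˣ) * (l⁻¹ : Fˣ) * b) *
              tor l⁻¹) := by rw [up_up]
          _ = _ := by group
    -- evaluate at `E₂₂`
    obtain ⟨d, hd⟩ := h3 1
    have hd0 : d ≠ 0 := by
      rintro rfl
      rw [e3_zero] at hd
      have := act_eq_zero hd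
      rw [← h.zero] at this
      exact e3_ne one_ne_zero (h.inj this)
    have h4 := h2 (e3 1)
    rw [act_tor_e3, hd, act_tor_e3, act_up_e3] at h4
    have e01 := congrFun (congrFun h4 0) 1
    have e10 := congrFun (congrFun h4 1) 0
    simp [e0, e1, e2, e3, hd0] at e01 e10
    rw [h2]
    have z1 : a + a' + l * l * a = 0 := e01
    have z2 : b + b' + (l⁻¹ : Fˣ) * (l⁻¹ : Fˣ) * b = 0 := by simpa using e10
    rw [z1, z2, up_zero, act_one]

theorem iter11 {f : M2 F → M2 F} {g : F} (hf : ∀ X, f X 1 1 = g * X 1 1) (n : ℕ) (X : M2 F) :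
    (f^[n] X) 1 1 = g ^ n * X 1 1 := by
  induction n generalizing X with
  | zero => simp
  | succ n ih => rw [Function.iterate_succ_apply, ih, hf, pow_succ]; ring

theorem iter01 {f : M2 F → M2 F} {g p : F} (hf : ∀ X, f X 1 1 = g * X 1 1)
    (hp : ∀ X, X 1 1 = 0 → f X 0 1 = p * X 0 1) (n : ℕ) (X : M2 F) (hX : X 1 1 = 0) :
    (f^[n] X) 0 1 = p ^ n * X 0 1 := by
  induction n generalizing X with
  | zero => simp
  | succ n ih =>
    rw [Function.iterate_succ_apply, ih (f X) (by rw [hf, hX, mul_zero]), hp X hX, pow_succ]; ring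

theorem iter10 {f : M2 F → M2 F} {g p : F} (hf : ∀ X, f X 1 1 = g * X 1 1)
    (hp : ∀ X, X 1 1 = 0 → f X 1 0 = p * X 1 0) (n : ℕ) (X : M2 F) (hX : X 1 1 = 0) :
    (f^[n] X) 1 0 = p ^ n * X 1 0 := by
  induction n generalizing X with
  | zero => simp
  | succ n ih =>
    rw [Function.iterate_succ_apply, ih (f X) (by rw [hf, hX, mul_zero]), hp X hX, pow_succ]; ring

/-- **2-elements of type `T1` in the stabiliser of `0` which centralise `T₁` modulo `U₀`.** -/
theorem mem_U [Finite F] (h : Nm γ δ) {t : F} (ht0 : t ≠ 0) (ht1 : t ≠ 1) (hT : T1 γ)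
    (h0 : ∀ x, ∃ y, γ (e0 x) = e0 y) {k : ℕ} (hk : ∀ X, γ^[2 ^ k] X = X)
    (htor : ∀ l : Fˣ, ∃ a b, ∀ X, γ (act (tor l) (tor l⁻¹) X) =
      act (up a * tor l) (up b * tor l⁻¹) (γ X)) : ∃ a b, ∀ X, γ X = act (up a) (up b) X := by
  obtain ⟨a, b, g0, g3, gt⟩ := h.adjust ht0 ht1 h0 htor
  have hg : Nm (fun X => act (up a) (up b) (γ X)) (fun X => δ (act (up a) (up b) X)) := by
    have hw := of_act (F := F) (up a) (up b)
    rw [up_inv, up_inv] at hw
    exact hw.comp h
  have hgT : T1 (fun X => act (up a) (up b) (γ X)) := by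
    constructor
    · intro A
      obtain ⟨A', hA'⟩ := hT.1 A
      refine ⟨up a * A' * (up a)⁻¹, fun X => ?_⟩
      show act (up a) (up b) (γ (act A 1 X)) = _
      rw [hA', act_act, act_act]; congr 1 <;> group
    · intro B
      obtain ⟨B', hB'⟩ := hT.2 B
      refine ⟨up b * B' * (up b)⁻¹, fun X => ?_⟩
      show act (up a) (up b) (γ (act 1 B X)) = _
      rw [hB', act_act, act_act]; congr 1 <;> group
  obtain ⟨p, q, g, hg0, hX⟩ := hg.nf1 hgT g0 g3 gt
  have hγ : ∀ X, γ X = act (up a) (up b)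
      !![p * q * g * X 0 0, p * g * X 0 1; q * g * X 1 0, g * X 1 1] := by
    intro X
    rw [← hX X]
    show _ = act _ _ (act _ _ (γ X))
    rw [act_up_up]
  have f11 : ∀ X, γ X 1 1 = g * X 1 1 := fun X => by rw [hγ, act_up]; simp
  have f01 : ∀ X : M2 F, X 1 1 = 0 → γ X 0 1 = p * g * X 0 1 := fun X hX => by
    rw [hγ, act_up]; simp [hX]
  have f10 : ∀ X : M2 F, X 1 1 = 0 → γ X 1 0 = q * g * X 1 0 := fun X hX => by
    rw [hγ, act_up]; simp [hX]
  have g1 : g = 1 := by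
    have h1 := iter11 f11 (2 ^ k) (e3 1)
    rw [hk] at h1
    simp [e3] at h1
    exact eq_one_of_pow h1.symm
  have p1 : p * g = 1 := by
    have h1 := iter01 f11 f01 (2 ^ k) (e1 1) (by simp [e1])
    rw [hk] at h1
    simp only [e1, Matrix.of_apply, Matrix.cons_val', Matrix.cons_val_zero, Matrix.cons_val_one,
      Matrix.cons_val_fin_one, mul_one] at h1
    exact eq_one_of_pow h1.symm
  have q1 : q * g = 1 := by
    have h1 := iter10 f11 f10 (2 ^ k) (e2 1) (by simp [e2])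
    rw [hk] at h1
    simp only [e2, Matrix.of_apply, Matrix.cons_val', Matrix.cons_val_zero, Matrix.cons_val_one,
      Matrix.cons_val_fin_one, mul_one] at h1
    exact eq_one_of_pow h1.symm
  refine ⟨a, b, fun X => ?_⟩
  rw [hγ]
  congr 1
  have e1' : p * q * g = 1 := by
    have : p * q * g = (p * g) * (q * g) / g := by field_simp
    rw [this, p1, q1, g1]; simp
  rw [e1', p1, q1, g1]
  apply ext2 <;> simp

section swap

variable [Finite F] (h : Nm γ δ) {t : F} (ht0 : t ≠ 0) (ht1 : t ≠ 1) (hT : T2 γ)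
  (h0 : ∀ x, ∃ y, γ (e0 x) = e0 y)
  (htor : ∀ l : Fˣ, ∃ a b, ∀ X, γ (act (tor l) (tor l⁻¹) X) =
    act (up a * tor l) (up b * tor l⁻¹) (γ X))
include h ht0 ht1 hT h0 htor

theorem swap_nf : ∃ a b p g : F, g ≠ 0 ∧ p ≠ 0 ∧
    (∀ c, γ (e3 c) = act (up a) (up b) (e3 (c⁻¹ * g))) ∧
    (∀ c, γ (e1 c) = act (up a) (up b) (e2 (c⁻¹ * p))) ∧
    (∀ c, ∃ d, γ (e2 c) = act (up a) (up b) (e1 d)) := by
  obtain ⟨a, b, g0, g3, gt⟩ := h.adjust ht0 ht1 h0 htor
  have hg : Nm (fun X => act (up a) (up b) (γ X)) (fun X => δ (act (up a) (up b) X)) := by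
    have hw := of_act (F := F) (up a) (up b)
    rw [up_inv, up_inv] at hw
    exact hw.comp h
  have hgT : T2 (fun X => act (up a) (up b) (γ X)) := by
    constructor
    · intro A
      obtain ⟨A', hA'⟩ := hT.1 A
      refine ⟨up b * A' * (up b)⁻¹, fun X => ?_⟩
      show act (up a) (up b) (γ (act A 1 X)) = _
      rw [hA', act_act, act_act]; congr 1 <;> group
    · intro B
      obtain ⟨B', hB'⟩ := hT.2 B
      refine ⟨up a * B' * (up a)⁻¹, fun X => ?_⟩
      show act (up a) (up b) (γ (act 1 B X)) = _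
      rw [hB', act_act, act_act]; congr 1 <;> group
  obtain ⟨p, g, hg0, hp0, x3, x1, x2⟩ := hg.nf2 hgT g0 g3 gt
  refine ⟨a, b, p, g, hg0, hp0, fun c => ?_, fun c => ?_, fun c => ?_⟩
  · rw [← x3 c]
    show _ = act _ _ (act _ _ (γ _))
    rw [act_up_up]
  · rw [← x1 c]
    show _ = act _ _ (act _ _ (γ _))
    rw [act_up_up]
  · obtain ⟨d, hd⟩ := x2 c
    refine ⟨d, ?_⟩
    rw [← hd]
    show _ = act _ _ (act _ _ (γ _))
    rw [act_up_up]

/-- A swap moves `V / R^⊥`. -/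
theorem swap_moves : ∃ c : F, c + (γ (e3 c)) 1 1 ≠ 0 := by
  obtain ⟨a, b, p, g, hg0, hp0, x3, x1, x2⟩ := h.swap_nf ht0 ht1 hT h0 htor
  by_contra hcon
  push Not at hcon
  have h1 : ∀ c, (γ (e3 c)) 1 1 = c⁻¹ * g := fun c => by
    rw [x3, act_up]; simp [e3]
  have h2 := hcon 1
  rw [h1, inv_one, one_mul] at h2
  have h3 := hcon t
  rw [h1, ← CharTwo.add_eq_zero.1 h2, mul_one] at h3
  have h4 := CharTwo.add_eq_zero.1 h3
  apply ht1
  apply eq_one_of_sq
  nth_rewrite 1 [h4]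
  exact inv_mul_cancel₀ ht0

/-- A swap exists only for `|F| = 4`. -/
theorem swap_four {x : F} (hx0 : x ≠ 0) (hx1 : x ≠ 1) : x * x + x + 1 = 0 := by
  obtain ⟨a, b, p, g, hg0, hp0, x3, x1, x2⟩ := h.swap_nf ht0 ht1 hT h0 htor
  have h1 : ∀ c, (γ (e3 c)) 1 1 = c⁻¹ * g := fun c => by
    rw [x3, act_up]; simp [e3]
  have hx2 : x + 1 ≠ 0 := fun h2 => hx1 (CharTwo.add_eq_zero.1 h2)
  have h2 : (x + 1)⁻¹ * g = x⁻¹ * g + 1⁻¹ * g := by
    rw [← h1, ← h1, ← h1, e3_add, h.add]
    rfl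
  rw [← add_mul] at h2
  have h3 := mul_right_cancel₀ hg0 h2
  rw [inv_one] at h3
  have h4 : x = (x + 1) + x * (x + 1) := by
    calc x = x * ((x + 1) * (x + 1)⁻¹) := by rw [mul_inv_cancel₀ hx2, mul_one]
      _ = x * ((x + 1) * (x⁻¹ + 1)) := by rw [h3]
      _ = (x * x⁻¹) * (x + 1) + x * (x + 1) := by ring
      _ = _ := by rw [mul_inv_cancel₀ hx0, one_mul]
  have h5 : x * x + x + 1 = 0 := by
    have e : x * x + x + 1 = ((x + 1) + x * (x + 1)) - x := by ring
    rw [e, ← h4, sub_self]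
  exact h5

/-- If `E` is `U₀`-invariant and contains `[V,γ]`, then `E` contains `R^⊥` and an element outside. -/
theorem swap_E (E : AddSubgroup (M2 F)) (hU : ∀ a b X, X ∈ E → act (up a) (up b) X ∈ E)
    (hE : ∀ X, X + γ X ∈ E) :
    (∀ c, e0 c ∈ E) ∧ (∀ c, e1 c ∈ E) ∧ (∀ c, e2 c ∈ E) ∧ ∃ X ∈ E, X 1 1 ≠ 0 := by
  obtain ⟨c0, hc0⟩ := h.swap_moves ht0 ht1 hT h0 htor
  obtain ⟨a, b, p, g, hg0, hp0, x3, x1, x2⟩ := h.swap_nf ht0 ht1 hT h0 htor
  have k0 : ∀ c, e0 c ∈ E := by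
    intro c
    -- `X = e1 1`
    have h1 := hE (e1 1)
    rw [x1, inv_one, one_mul] at h1
    have h2 := hU (c / p) 0 _ h1
    have h3 := E.sub_mem h2 h1
    have h4 : act (up (c / p)) (up 0) (e1 1 + act (up a) (up b) (e2 p)) -
        (e1 1 + act (up a) (up b) (e2 p)) = e0 c := by
      rw [act_up, act_up]
      apply ext2 <;> simp [e0, e1, e2, hp0]
    rwa [h4] at h3
  have hY := hE (e3 c0)
  set Y := e3 c0 + γ (e3 c0) with hYd
  have hY11 : Y 1 1 ≠ 0 := by
    have : Y 1 1 = c0 + (γ (e3 c0)) 1 1 := by rw [hYd]; simp [e3]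
    rwa [this]
  refine ⟨k0, ?_, ?_, Y, hY, hY11⟩
  · intro c
    have h2 := hU (c / Y 1 1) 0 _ hY
    have h3 := E.sub_mem h2 hY
    have h4 : act (up (c / Y 1 1)) (up 0) Y - Y = e1 c + e0 (c / Y 1 1 * Y 1 0) := by
      rw [act_up]
      apply ext2 <;> simp [e0, e1, hY11]
    rw [h4] at h3
    have h5 := E.sub_mem h3 (k0 (c / Y 1 1 * Y 1 0))
    rwa [add_sub_cancel_right] at h5
  · intro c
    have h2 := hU 0 (c / Y 1 1) _ hY
    have h3 := E.sub_mem h2 hY
    have h4 : act (up 0) (up (c / Y 1 1)) Y - Y = e2 c + e0 (c / Y 1 1 * Y 0 1) := by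
      rw [act_up]
      apply ext2 <;> simp [e0, e2, hY11]
    rw [h4] at h3
    have h5 := E.sub_mem h3 (k0 (c / Y 1 1 * Y 0 1))
    rwa [add_sub_cancel_right] at h5

end swap

end Nm

end Cfsg.Agent.Omega.NO1.Tens

end

section


/-!
# Type (γ) of the leaf N1: further facts on `M₂(F)` (helper914)

* `two_L` : a 2-element `act A B` that fixes the point `0` is `act (up a) (up b)`;
* `conn` : opposite points;
* `alt` : additive maps `b` with `[b(u),u] = 1`;
* `irr` : `T' × T''`- and swap-invariant subgroups of `U₀`.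
-/

set_option autoImplicit false
set_option linter.unusedSectionVars false

namespace Cfsg.Agent.Omega.NO1.Tens

open Matrix

variable {F : Type} [Field F] [CharP F 2]

theorem act_iter (A B : SL F) (n : ℕ) (X : M2 F) : (act A B)^[n] X = act (A ^ n) (B ^ n) X := by
  induction n generalizing X with
  | zero => simp
  | succ n ih => rw [Function.iterate_succ_apply, ih, act_act, pow_succ, pow_succ]

theorem pow_tri {A : SL F} (h : A.1 1 0 = 0) (n : ℕ) :
    (A ^ n).1 0 0 = A.1 0 0 ^ n ∧ (A ^ n).1 1 0 = 0 := by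
  induction n with
  | zero => simp
  | succ n ih =>
    have e : (A ^ (n + 1)).1 = (A ^ n).1 * A.1 := by
      rw [pow_succ, Matrix.SpecialLinearGroup.coe_mul]
    rw [e, Matrix.mul_apply, Matrix.mul_apply, Fin.sum_univ_two, Fin.sum_univ_two, ih.1, ih.2, h,
      pow_succ]
    simp

theorem eq_up_of_pow {A : SL F} (h : A.1 1 0 = 0) {k : ℕ} (hk : A ^ 2 ^ k = 1) :
    A = up (A.1 0 1) := by
  have h1 := (pow_tri h (2 ^ k)).1
  rw [hk] at h1
  have h2 : A.1 0 0 = 1 := eq_one_of_pow (k := k) (by rw [← h1]; simp)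
  have h3 := SL_det A
  rw [h2, h, mul_zero, sub_zero, one_mul] at h3
  apply SL_ext
  · simpa [up] using h2
  · simp [up]
  · simpa [up] using h
  · simpa [up] using h3

/-- 2-elements of the stabiliser of the point `0` in `{act A B}`. -/
theorem two_L {A B : SL F} {c d : F} (hc : c ≠ 0) (h0 : act A B (e0 c) = e0 d) {k : ℕ}
    (hk : ∀ X, (act A B)^[2 ^ k] X = X) : A = up (A.1 0 1) ∧ B = up (B.1 0 1) := by
  have hd : d ≠ 0 := by
    rintro rfl
    rw [e0_zero] at h0
    exact e0_ne hc (act_eq_zero h0)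
  have h1 := h0
  rw [act_e0] at h1
  have h00 := congrFun (congrFun h1 0) 0
  have h01 := congrFun (congrFun h1 0) 1
  have h10 := congrFun (congrFun h1 1) 0
  simp only [e0, Matrix.of_apply, Matrix.cons_val', Matrix.cons_val_zero, Matrix.cons_val_one,
      Matrix.cons_val_fin_one] at h00 h01 h10
  have hA : A.1 0 0 ≠ 0 := fun h => hd (by rw [← h00, h]; ring)
  have hB : B.1 0 0 ≠ 0 := fun h => hd (by rw [← h00, h]; ring)
  have hB1 : B.1 1 0 = 0 := (mul_eq_zero.1 h01).resolve_left (mul_ne_zero hA hc)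
  have hA1 : A.1 1 0 = 0 := by
    have := (mul_eq_zero.1 h10).resolve_right hB
    exact (mul_eq_zero.1 this).resolve_right hc
  have h3 := act_eq_one (A := A ^ 2 ^ k) (B := B ^ 2 ^ k) (fun X => by rw [← act_iter, hk])
  exact ⟨eq_up_of_pow hA1 h3.1, eq_up_of_pow hB1 h3.2⟩

theorem conn_one (A : SL F) : ∃ (a s : F) (C : SL F), s ≠ 0 ∧ C.1 0 0 = s * a ∧ C.1 1 0 = s ∧
    C.1 0 1 = A.1 0 0 ∧ C.1 1 1 = A.1 1 0 := by
  have h : ∃ a : F, a * A.1 1 0 - A.1 0 0 ≠ 0 := by
    by_cases h0 : A.1 0 0 = 0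
    · refine ⟨1, ?_⟩
      rw [h0, one_mul, sub_zero]
      intro h1
      have := SL_det A
      rw [h0, h1] at this
      simp at this
    · exact ⟨0, by rw [zero_mul, zero_sub]; exact neg_ne_zero.2 h0⟩
  obtain ⟨a, ha⟩ := h
  refine ⟨a, (a * A.1 1 0 - A.1 0 0)⁻¹, ⟨!![(a * A.1 1 0 - A.1 0 0)⁻¹ * a, A.1 0 0;
    (a * A.1 1 0 - A.1 0 0)⁻¹, A.1 1 0], ?_⟩, inv_ne_zero ha, ?_, ?_, ?_, ?_⟩
  · rw [Matrix.det_fin_two]
    simp only [Matrix.of_apply, Matrix.cons_val', Matrix.cons_val_zero, Matrix.cons_val_one,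
      Matrix.cons_val_fin_one]
    have : (a * A.1 1 0 - A.1 0 0)⁻¹ * a * A.1 1 0 - A.1 0 0 * (a * A.1 1 0 - A.1 0 0)⁻¹ =
      (a * A.1 1 0 - A.1 0 0)⁻¹ * (a * A.1 1 0 - A.1 0 0) := by ring
    rw [this, inv_mul_cancel₀ ha]
  · rfl
  · rfl
  · rfl
  · rfl

/-- For every point there is a point opposite to it and to `0`. -/
theorem conn (A B : SL F) : ∃ (a b s : F) (C D : SL F), s ≠ 0 ∧
    (∀ c, act C D (e0 c) = act (up a) (up b) (e3 (s * c))) ∧
    (∀ c, act C D (e3 c) = act A B (e0 c)) := by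
  obtain ⟨a, s, C, hs, c1, c2, c3, c4⟩ := conn_one A
  obtain ⟨b, s', D, hs', d1, d2, d3, d4⟩ := conn_one B
  refine ⟨a, b, s * s', C, D, mul_ne_zero hs hs', fun c => ?_, fun c => ?_⟩
  · rw [act_e0, act_e3, c1, c2, d1, d2, up_val, up_val]
    apply ext2 <;> simp <;> ring
  · rw [act_e3, act_e0, c3, c4, d3, d4]

/-- Additive maps `U₀ → R^⊥/R` with `[b(u),u] = 1`. -/
theorem alt {f g : F → F → F} (hf : ∀ a b a' b', f (a + a') (b + b') = f a b + f a' b')
    (hg : ∀ a b a' b', g (a + a') (b + b') = g a b + g a' b')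
    (h : ∀ a b, a * g a b + b * f a b = 0) :
    ∃ l, ∀ a b, f a b = l * a ∧ g a b = l * b := by
  have f0 : f 0 0 = 0 := by
    have := hf 0 0 0 0
    rw [add_zero] at this
    exact left_eq_add.1 this
  have g0 : g 0 0 = 0 := by
    have := hg 0 0 0 0
    rw [add_zero] at this
    exact left_eq_add.1 this
  have fb : ∀ b, f 0 b = 0 := by
    intro b
    by_cases hb : b = 0
    · rw [hb, f0]
    · have h1 := h 0 b
      rw [zero_mul, zero_add] at h1
      exact (mul_eq_zero.1 h1).resolve_left hb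
  have ga : ∀ a, g a 0 = 0 := by
    intro a
    by_cases ha : a = 0
    · rw [ha, g0]
    · have h1 := h a 0
      rw [zero_mul, add_zero] at h1
      exact (mul_eq_zero.1 h1).resolve_left ha
  have fs : ∀ a b, f a b = f a 0 := fun a b => by
    have := hf a 0 0 b
    rw [add_zero, zero_add, fb, add_zero] at this
    exact this
  have gs : ∀ a b, g a b = g 0 b := fun a b => by
    have := hg a 0 0 b
    rw [add_zero, zero_add, ga, zero_add] at this
    exact this
  have key : ∀ a b, a * g 0 b + b * f a 0 = 0 := fun a b => by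
    have := h a b
    rwa [gs, fs] at this
  refine ⟨g 0 1, fun a b => ?_⟩
  have h1 := key a 1
  rw [one_mul] at h1
  have hfa : f a 0 = g 0 1 * a := by
    have := CharTwo.add_eq_zero.1 h1
    rw [← this]; ring
  refine ⟨by rw [fs, hfa], ?_⟩
  have h2 := key 1 b
  rw [one_mul] at h2
  have h3 : f 1 0 = g 0 1 := by
    have := key 1 1
    rw [one_mul, one_mul] at this
    exact (CharTwo.add_eq_zero.1 this).symm
  rw [gs, CharTwo.add_eq_zero.1 h2, h3]; ring

/-- The torus is irreducible on each factor; a swap-invariant subgroup `≠ 1` of `U₀` is `U₀`. -/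
theorem irr [Finite F] {t : F} (ht0 : t ≠ 0) (ht1 : t ≠ 1) {W : F → F → Prop}
    (hadd : ∀ a b a' b', W a b → W a' b' → W (a + a') (b + b'))
    (htor : ∀ (l m : Fˣ) (a b : F), W a b → W (l * l * a) (m * m * b))
    {a0 b0 a1 b1 : F} (h0 : W a0 b0) (ha0 : a0 ≠ 0) (h1 : W a1 b1) (hb1 : b1 ≠ 0) (a b : F) :
    W a b := by
  -- `(a,b) ∈ W` implies `(x a, y b) ∈ W` for `x, y ≠ 0`
  have hs : ∀ (x y : F) (a b : F), x ≠ 0 → y ≠ 0 → W a b → W (x * a) (y * b) := by
    intro x y a b hx hy hab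
    obtain ⟨l, hl⟩ := exists_sq hx
    obtain ⟨m, hm⟩ := exists_sq hy
    have := htor l m a b hab
    rwa [hl, hm] at this
  have ht : t + 1 ≠ 0 := fun h => ht1 (CharTwo.add_eq_zero.1 h)
  have e0 : W ((t + 1) * a0) 0 := by
    have h2 := hadd _ _ _ _ (hs t 1 a0 b0 ht0 one_ne_zero h0) h0
    have e1 : t * a0 + a0 = (t + 1) * a0 := by ring
    rw [e1, one_mul, CharTwo.add_self_eq_zero] at h2
    exact h2
  have e1 : W 0 ((t + 1) * b1) := by
    have h2 := hadd _ _ _ _ (hs 1 t a1 b1 one_ne_zero ht0 h1) h1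
    have e1 : t * b1 + b1 = (t + 1) * b1 := by ring
    rw [e1, one_mul, CharTwo.add_self_eq_zero] at h2
    exact h2
  have ez : W 0 0 := by
    have h2 := hadd _ _ _ _ e0 e0
    rwa [CharTwo.add_self_eq_zero, add_zero] at h2
  have ea : W a 0 := by
    by_cases ha : a = 0
    · rw [ha]; exact ez
    · have := hs (a / ((t + 1) * a0)) 1 _ _ (div_ne_zero ha (mul_ne_zero ht ha0)) one_ne_zero e0
      rwa [div_mul_cancel₀ _ (mul_ne_zero ht ha0), mul_zero] at this
  have eb : W 0 b := by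
    by_cases hb : b = 0
    · rw [hb]; exact ez
    · have := hs 1 (b / ((t + 1) * b1)) _ _ one_ne_zero (div_ne_zero hb (mul_ne_zero ht hb1)) e1
      rwa [div_mul_cancel₀ _ (mul_ne_zero ht hb1), mul_zero] at this
  have := hadd _ _ _ _ ea eb
  rwa [add_zero, zero_add] at this

/-- the torus acts on `U₀` -/
theorem tor_act_up (l m : Fˣ) (a b : F) (X : M2 F) :
    act (tor l) (tor m) (act (up a) (up b) X) =
      act (up (l * l * a)) (up (m * m * b)) (act (tor l) (tor m) X) := by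
  rw [act_act, act_act, tor_up, tor_up]

theorem act_tor_e0 (l m : Fˣ) (c : F) : act (tor l) (tor m) (e0 c) = e0 (l * m * c) := by
  rw [act_tor]; apply ext2 <;> simp [e0]

theorem act_tor_e3' (l m : Fˣ) (c : F) :
    act (tor l) (tor m) (e3 c) = e3 ((l : F)⁻¹ * (m : F)⁻¹ * c) := by
  rw [act_tor]; apply ext2 <;> simp [e3]

end Cfsg.Agent.Omega.NO1.Tens

end

section


/-!
# The projective line: `rep : Option F → SL₂(F)` (helper914)

`rep none = 1`, `rep (some a) = up a * wy`; `SL₂(F)` is the disjoint union of the `rep i * B`, `B` the upper triangular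
matrices (`Bo`).
-/

set_option autoImplicit false

namespace Cfsg.Agent.Omega.NO1.Tens

open Matrix

variable {F : Type} [Field F]

/-- upper triangular -/
def Bo (T : SL F) : Prop := T.1 1 0 = 0

theorem Bo.one : Bo (1 : SL F) := by simp [Bo]

theorem Bo.up (a : F) : Bo (Tens.up a) := by simp [Bo, up_val]

theorem Bo.mul {S T : SL F} (hS : Bo S) (hT : Bo T) : Bo (S * T) := by
  have : (S * T).1 = S.1 * T.1 := rfl
  simp only [Bo] at *
  rw [this, Matrix.mul_apply, Fin.sum_univ_two, hS, hT]; ring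

theorem Bo.inv {S : SL F} (hS : Bo S) : Bo S⁻¹ := by
  simp only [Bo] at *
  rw [Matrix.SpecialLinearGroup.coe_inv, Matrix.adjugate_fin_two]
  simp [hS]

theorem Bo.diag {T : SL F} (hT : Bo T) : T.1 0 0 * T.1 1 1 = 1 := by
  have := SL_det T
  rw [show T.1 1 0 = 0 from hT] at this
  linear_combination this

theorem Bo.ne {T : SL F} (hT : Bo T) : T.1 0 0 ≠ 0 := left_ne_zero_of_mul_eq_one hT.diag

theorem act_Bo {T T' : SL F} (hT : Bo T) (hT' : Bo T') (c : F) :
    act T T' (e0 c) = e0 (T.1 0 0 * T'.1 0 0 * c) := by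
  rw [act_e0]
  simp only [Bo] at hT hT'
  apply ext2 <;> simp [e0, hT, hT'] ; ring

variable [CharP F 2]

/-- representatives of the points -/
def rep : Option F → SL F
  | none => 1
  | some a => up a * wy

theorem rep_none : rep (none : Option F) = 1 := rfl
theorem rep_some (a : F) : rep (some a) = up a * wy := rfl
theorem rep_zero : rep (some (0 : F)) = wy := by rw [rep_some, up_zero, one_mul]

theorem not_Bo_wy : ¬ Bo (wy : SL F) := by
  simp [Bo, wy_val]

theorem wy_inv : (wy : SL F)⁻¹ = wy := inv_eq_of_mul_eq_one_left wy_mul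

theorem big {C : SL F} (hC : ¬ Bo C) : ∃ a T, Bo T ∧ C = up a * wy * T := by
  have h0 : C.1 1 0 ≠ 0 := hC
  refine ⟨C.1 0 0 / C.1 1 0, (up (C.1 0 0 / C.1 1 0) * wy)⁻¹ * C, ?_, by group⟩
  rw [_root_.mul_inv_rev, wy_inv, up_inv]
  have e : (wy * up (C.1 0 0 / C.1 1 0) * C).1 = wy.1 * (up (C.1 0 0 / C.1 1 0)).1 * C.1 := rfl
  rw [Bo, e, wy_val, up_val]
  simp only [Matrix.mul_apply, Fin.sum_univ_two]
  simp
  rw [div_mul_cancel₀ _ h0]
  exact CharTwo.add_self_eq_zero _

theorem exists_rep (A : SL F) : ∃ i T, Bo T ∧ A = rep i * T := by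
  by_cases h : Bo A
  · exact ⟨none, A, h, by rw [rep_none, one_mul]⟩
  · obtain ⟨a, T, hT, e⟩ := big h
    exact ⟨some a, T, hT, e⟩

theorem rep_inj {i k : Option F} (h : Bo ((rep i)⁻¹ * rep k)) : i = k := by
  match i, k with
  | none, none => rfl
  | none, some b =>
    exfalso
    rw [rep_none, inv_one, one_mul, rep_some] at h
    have := (Bo.up b).inv.mul h
    rw [inv_mul_cancel_left] at this
    exact not_Bo_wy this
  | some a, none =>
    exfalso
    rw [rep_none, mul_one, rep_some] at h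
    have := h.inv
    rw [inv_inv] at this
    have := (Bo.up a).inv.mul this
    rw [inv_mul_cancel_left] at this
    exact not_Bo_wy this
  | some a, some b =>
    rw [rep_some, rep_some, _root_.mul_inv_rev, wy_inv, up_inv] at h
    have e : (wy * up a * (up b * wy) : SL F).1 = wy.1 * (up a).1 * ((up b).1 * wy.1) := rfl
    rw [Bo, e, wy_val, up_val, up_val] at h
    simp only [Matrix.mul_apply, Fin.sum_univ_two] at h
    simp at h
    rw [CharTwo.add_eq_zero] at h
    rw [h]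

theorem rep_unique {i k : Option F} {T T' : SL F} (hT : Bo T) (hT' : Bo T') (h : rep i * T = rep k * T') :
    i = k := by
  apply rep_inj
  have e : (rep i)⁻¹ * rep k = T * T'⁻¹ := by
    rw [inv_mul_eq_iff_eq_mul, ← mul_assoc, h, mul_inv_cancel_right]
  rw [e]
  exact hT.mul hT'.inv

/-- two different points -/
theorem exists_pair {i k : Option F} (h : i ≠ k) : ∃ a T, Bo T ∧ rep i * up a * wy = rep k * T := by
  obtain ⟨a, T, hT, e⟩ := big (C := (rep i)⁻¹ * rep k) fun hB => h (rep_inj hB)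
  refine ⟨a, T⁻¹, hT.inv, ?_⟩
  have e' : rep k = rep i * (up a * wy * T) := by rw [← e, mul_inv_cancel_left]
  rw [e']; group

/-- three different points -/
theorem exists_pair' {i k : Option F} (h : i ≠ k) : ∃ A T T' : SL F, Bo T ∧ Bo T' ∧ A = rep i * T ∧
    A * wy = rep k * T' := by
  obtain ⟨a, T, hT, e⟩ := exists_pair h
  exact ⟨rep i * up a, up a, T, Bo.up a, hT, rfl, e⟩

end Cfsg.Agent.Omega.NO1.Tens

end

section


/-!
# The action of `SL₂(F)` on `Option F` (helper914)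

`ua i a = rep i * up a * (rep i)⁻¹` : the root element at the point `i`; `mob C : Option F → Option F`.
-/

set_option autoImplicit false

namespace Cfsg.Agent.Omega.NO1.Tens

open Matrix

variable {F : Type} [Field F] [CharP F 2]

/-- the root element at `i` -/
def ua (i : Option F) (a : F) : SL F := rep i * up a * (rep i)⁻¹

theorem ua_zero (i : Option F) : ua i 0 = 1 := by
  rw [ua, up_zero, mul_one, mul_inv_cancel]

theorem ua_mul (i : Option F) (a b : F) : ua i a * ua i b = ua i (a + b) := by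
  rw [ua, ua, ua, up_add]; group

theorem ua_sq (i : Option F) (a : F) : ua i a * ua i a = 1 := by
  rw [ua_mul, CharTwo.add_self_eq_zero, ua_zero]

theorem ua_inv (i : Option F) (a : F) : (ua i a)⁻¹ = ua i a := inv_eq_of_mul_eq_one_left (ua_sq i a)

/-- conjugation of `up a` by an upper triangular matrix -/
theorem conj_up_Bo {T : SL F} (hT : Bo T) (a : F) : T * up a * T⁻¹ = up (T.1 0 0 * T.1 0 0 * a) := by
  rw [mul_inv_eq_iff_eq_mul]
  have h1 : T.1 1 0 = 0 := hT
  have h2 := hT.diag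
  have e1 : (T * up a).1 = T.1 * (up a).1 := rfl
  have e2 : (up (T.1 0 0 * T.1 0 0 * a) * T).1 = (up (T.1 0 0 * T.1 0 0 * a)).1 * T.1 := rfl
  apply SL_ext <;> rw [e1, e2, up_val, up_val] <;> simp only [Matrix.mul_apply, Fin.sum_univ_two] <;>
    simp [h1]
  linear_combination (- T.1 0 0 * a) * h2

/-- conjugates of root elements are root elements -/
theorem conj_up_eq {A T : SL F} {i : Option F} (hT : Bo T) (e : A = rep i * T) (a : F) :
    A * up a * A⁻¹ = ua i (T.1 0 0 * T.1 0 0 * a) := by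
  rw [ua, ← conj_up_Bo hT, e]; group

/-- the action on the points -/
noncomputable def mob (C : SL F) (k : Option F) : Option F := (exists_rep (C * rep k)).choose

theorem mob_spec (C : SL F) (k : Option F) : ∃ T, Bo T ∧ C * rep k = rep (mob C k) * T :=
  (exists_rep (C * rep k)).choose_spec

theorem mob_eq {C T : SL F} {k l : Option F} (hT : Bo T) (h : C * rep k = rep l * T) : mob C k = l := by
  obtain ⟨T', hT', h'⟩ := mob_spec C k
  exact rep_unique hT' hT (h'.symm.trans h)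

theorem mob_one (k : Option F) : mob (1 : SL F) k = k := mob_eq Bo.one (by rw [one_mul, mul_one])

theorem mob_mul (C E : SL F) (k : Option F) : mob (C * E) k = mob C (mob E k) := by
  obtain ⟨T, hT, h1⟩ := mob_spec E k
  obtain ⟨T', hT', h2⟩ := mob_spec C (mob E k)
  refine mob_eq (hT'.mul hT) ?_
  rw [mul_assoc, h1, ← mul_assoc, h2, mul_assoc]

theorem mob_inj (C : SL F) : Function.Injective (mob C) := by
  intro k l h
  have h1 : mob (C⁻¹ * C) k = mob (C⁻¹ * C) l := by rw [mob_mul, mob_mul, h]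
  rwa [inv_mul_cancel, mob_one, mob_one] at h1

theorem mob_ua_self (i : Option F) (a : F) : mob (ua i a) i = i :=
  mob_eq (Bo.up a) (by rw [ua, inv_mul_cancel_right])

/-- `ua i a` has no other fixed point -/
theorem ua_fix {i k : Option F} (h : k ≠ i) {a : F} (he : mob (ua i a) k = k) : a = 0 := by
  obtain ⟨b, T, hT, e⟩ := exists_pair h.symm
  obtain ⟨T', hT', e'⟩ := mob_spec (ua i a) k
  rw [he] at e'
  by_contra ha
  have e1 : rep k = rep i * up b * wy * T⁻¹ := by rw [e, mul_inv_cancel_right]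
  rw [e1, ua] at e'
  have e2 : rep i * (up b * (wy * (wy⁻¹ * (up a * wy)))) = rep i * (up b * (wy * (T⁻¹ * T' * T))) := by
    have e3 : rep i * up a * (rep i)⁻¹ * (rep i * up b * wy * T⁻¹) * T =
        rep i * up b * wy * T⁻¹ * T' * T := by rw [e']
    have e4 : rep i * up a * (rep i)⁻¹ * (rep i * up b * wy * T⁻¹) * T = rep i * (up a * up b) * wy := by group
    rw [e4, ← up_add, add_comm, up_add] at e3
    calc _ = rep i * (up b * up a) * wy := by group
      _ = _ := e3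
      _ = _ := by group
  have e3 := mul_left_cancel (mul_left_cancel (mul_left_cancel e2))
  have h4 : Bo (wy⁻¹ * (up a * wy) : SL F) := by
    rw [e3]; exact (hT.inv.mul hT').mul hT
  apply ha
  rw [wy_inv] at h4
  have e : (wy * (up a * wy) : SL F).1 = wy.1 * ((up a).1 * wy.1) := rfl
  rw [Bo, e, wy_val, up_val] at h4
  simp only [Matrix.mul_apply, Fin.sum_univ_two] at h4
  simpa using h4

/-- `ua i` is transitive on the other points -/
theorem ua_tran {i k l : Option F} (hk : k ≠ i) (hl : l ≠ i) : ∃ a, mob (ua i a) k = l := by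
  obtain ⟨b, T, hT, e⟩ := exists_pair hk.symm
  obtain ⟨c, T', hT', e'⟩ := exists_pair hl.symm
  refine ⟨b + c, mob_eq (hT'.mul hT.inv) ?_⟩
  have e1 : rep k = rep i * up b * wy * T⁻¹ := by rw [e, mul_inv_cancel_right]
  have e2 : rep l * (T' * T⁻¹) = rep i * up c * wy * T⁻¹ := by rw [e', mul_assoc]
  rw [e2, e1, ua]
  have e3 : rep i * up (b + c) * (rep i)⁻¹ * (rep i * up b * wy * T⁻¹) = rep i * (up (b + c) * up b) * wy * T⁻¹ := by
    group
  rw [e3, ← up_add]
  congr 4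
  have := CharTwo.add_self_eq_zero b
  linear_combination this

/-- `dn a` is a conjugate of `up a` -/
theorem dn_eq (a : F) : dn a = wy * up a * wy⁻¹ := by
  rw [wy_inv]
  have e : (wy * up a * wy : SL F).1 = wy.1 * (up a).1 * wy.1 := rfl
  apply SL_ext <;> rw [e, wy_val, up_val, dn_val] <;> simp only [Matrix.mul_apply, Fin.sum_univ_two] <;> simp

theorem wy_conj_up (a : F) : wy⁻¹ * up a * wy = dn a := by
  rw [dn_eq, wy_inv]

theorem wy_conj_dn (a : F) : wy⁻¹ * dn a * wy = up a := by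
  rw [dn_eq]; group

/-- the torus is generated by root elements -/
theorem tor_eq (l : Fˣ) : up (l : F) * dn ((l⁻¹ : Fˣ) : F) * up (l : F) * (up 1 * dn 1 * up 1) = tor l := by
  have e : (up (l : F) * dn ((l⁻¹ : Fˣ) : F) * up (l : F) * (up 1 * dn 1 * up 1)).1 =
    (up (l : F)).1 * (dn ((l⁻¹ : Fˣ) : F)).1 * (up (l : F)).1 * ((up 1).1 * (dn 1).1 * (up 1).1) := rfl
  have h2 : (1 : F) + 1 = 0 := CharTwo.add_self_eq_zero 1
  have hl : (l : F) * (l : F)⁻¹ = 1 := mul_inv_cancel₀ l.ne_zero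
  have hl' : (l : F)⁻¹ * (l : F) = 1 := inv_mul_cancel₀ l.ne_zero
  apply SL_ext <;> rw [e, up_val, up_val, dn_val, dn_val, tor_val] <;>
    simp only [Matrix.mul_apply, Fin.sum_univ_two] <;> simp [h2, hl, hl']

end Cfsg.Agent.Omega.NO1.Tens

end

section


/-!
# Type (γ) of the leaf N1: 2-elements of the normaliser that fix the point `0` (matrix level, helper983)

* `Nm.form` : the coordinate functions of `γ`;
* `Nm.triv`, `Nm.quo` : a 2-element is trivial on the point `0` iff it is trivial on `V / R^⊥`;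
* `Nm.mem_U'` : a 2-element of type `T1`, trivial on the point `0`, lies in `U₀`;
* `Nm.cenE` : a 2-element trivial on `R^⊥` is trivial;
* `Nm.swap_e1`, `Nm.swap_e2` : elements of type `T2`.
-/

set_option autoImplicit false
set_option linter.unusedSectionVars false

namespace Cfsg.Agent.Omega.NO1.Tens

open Matrix

variable {F : Type} [Field F] [CharP F 2]

theorem T1_comp {f g : M2 F → M2 F} (hf : T1 f) (hg : T1 g) : T1 (fun X => f (g X)) := by
  constructor
  · intro A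
    obtain ⟨A1, h1⟩ := hg.1 A
    obtain ⟨A2, h2⟩ := hf.1 A1
    exact ⟨A2, fun X => by dsimp only; rw [h1, h2]⟩
  · intro A
    obtain ⟨A1, h1⟩ := hg.2 A
    obtain ⟨A2, h2⟩ := hf.2 A1
    exact ⟨A2, fun X => by dsimp only; rw [h1, h2]⟩

theorem T1_T2_comp {f g : M2 F → M2 F} (hf : T1 f) (hg : T2 g) : T2 (fun X => f (g X)) := by
  constructor
  · intro A
    obtain ⟨A1, h1⟩ := hg.1 A
    obtain ⟨A2, h2⟩ := hf.2 A1
    exact ⟨A2, fun X => by dsimp only; rw [h1, h2]⟩
  · intro A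
    obtain ⟨A1, h1⟩ := hg.2 A
    obtain ⟨A2, h2⟩ := hf.1 A1
    exact ⟨A2, fun X => by dsimp only; rw [h1, h2]⟩

theorem T2_T1_comp {f g : M2 F → M2 F} (hf : T2 f) (hg : T1 g) : T2 (fun X => f (g X)) := by
  constructor
  · intro A
    obtain ⟨A1, h1⟩ := hg.1 A
    obtain ⟨A2, h2⟩ := hf.1 A1
    exact ⟨A2, fun X => by dsimp only; rw [h1, h2]⟩
  · intro A
    obtain ⟨A1, h1⟩ := hg.2 A
    obtain ⟨A2, h2⟩ := hf.2 A1
    exact ⟨A2, fun X => by dsimp only; rw [h1, h2]⟩

theorem T2_comp {f g : M2 F → M2 F} (hf : T2 f) (hg : T2 g) : T1 (fun X => f (g X)) := by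
  constructor
  · intro A
    obtain ⟨A1, h1⟩ := hg.1 A
    obtain ⟨A2, h2⟩ := hf.2 A1
    exact ⟨A2, fun X => by dsimp only; rw [h1, h2]⟩
  · intro A
    obtain ⟨A1, h1⟩ := hg.2 A
    obtain ⟨A2, h2⟩ := hf.1 A1
    exact ⟨A2, fun X => by dsimp only; rw [h1, h2]⟩

theorem act_up_e2_right (b c : F) : act 1 (up b) (e2 c) = e2 c := by
  rw [act_up_right]; apply ext2 <;> simp [e2]

theorem e1_zero' {c : F} (h : e1 c = 0) : c = 0 := e1_inj (h.trans e1_zero.symm)

theorem e2_zero' {c : F} (h : e2 c = 0) : c = 0 := e2_inj (h.trans e2_zero.symm)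

namespace Nm

variable {γ δ : M2 F → M2 F}

/-- The coordinate functions of an element which fixes the points `0`, `∞`. -/
theorem form' (h : Nm γ δ) (hT : T1 γ ∨ T2 γ) (h0 : ∀ x, ∃ y, γ (e0 x) = e0 y) (h3 : ∀ x, ∃ y, γ (e3 x) = e3 y) :
    ∃ φ ψ G : F → F, φ 1 ≠ 0 ∧ ψ 1 ≠ 0 ∧ G 1 ≠ 0 ∧ (∀ c, γ (e3 c) = e3 (G c)) ∧
      (∀ a b c, γ (e0 (a * b * c)) = e0 (φ a * ψ b * G c)) ∧
      ((T1 γ ∧ (∀ a c, γ (e1 (a * c)) = e1 (φ a * G c)) ∧ ∀ b c, γ (e2 (b * c)) = e2 (ψ b * G c)) ∨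
        (T2 γ ∧ (∀ a c, γ (e1 (a * c)) = e2 (φ a * G c)) ∧ ∀ b c, γ (e2 (b * c)) = e1 (ψ b * G c))) := by
  choose G hG using h3
  rcases hT with hT | hT
  · choose φ hφ using h.un1_left hT h0
    choose ψ hψ using h.un1_right hT h0
    have hP : ∀ a c, γ (e1 (a * c)) = e1 (φ a * G c) := by
      intro a c
      have h1 := hφ a (e3 c)
      rw [act_up_e3_left, h.add, hG, act_up_e3_left] at h1
      exact add_left_cancel h1
    have hQ : ∀ b c, γ (e2 (b * c)) = e2 (ψ b * G c) := by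
      intro b c
      have h1 := hψ b (e3 c)
      rw [act_up_e3_right, h.add, hG, act_up_e3_right] at h1
      exact add_left_cancel h1
    have hH : ∀ a b c, γ (e0 (a * b * c)) = e0 (φ a * ψ b * G c) := by
      intro a b c
      have h1 := hφ a (e2 (b * c))
      rw [act_up_e2_left, h.add, hQ, act_up_e2_left] at h1
      rw [mul_assoc, add_left_cancel h1, mul_assoc]
    have e : φ 1 * G 1 ≠ 0 := by
      intro h1
      have h2 := hP 1 1
      rw [h1, e1_zero, mul_one, ← h.zero] at h2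
      exact one_ne_zero (e1_zero' (h.inj h2))
    have e' : ψ 1 * G 1 ≠ 0 := by
      intro h1
      have h2 := hQ 1 1
      rw [h1, e2_zero, mul_one, ← h.zero] at h2
      exact one_ne_zero (e2_zero' (h.inj h2))
    exact ⟨φ, ψ, G, left_ne_zero_of_mul e, left_ne_zero_of_mul e', right_ne_zero_of_mul e, hG, hH,
      Or.inl ⟨hT, hP, hQ⟩⟩
  · choose φ hφ using h.un2_left hT h0
    choose ψ hψ using h.un2_right hT h0
    have hP : ∀ a c, γ (e1 (a * c)) = e2 (φ a * G c) := by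
      intro a c
      have h1 := hφ a (e3 c)
      rw [act_up_e3_left, h.add, hG, act_up_e3_right] at h1
      exact add_left_cancel h1
    have hQ : ∀ b c, γ (e2 (b * c)) = e1 (ψ b * G c) := by
      intro b c
      have h1 := hψ b (e3 c)
      rw [act_up_e3_right, h.add, hG, act_up_e3_left] at h1
      exact add_left_cancel h1
    have hH : ∀ a b c, γ (e0 (a * b * c)) = e0 (φ a * ψ b * G c) := by
      intro a b c
      have h1 := hφ a (e2 (b * c))
      rw [act_up_e2_left, h.add, hQ, act_up_e1_right] at h1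
      rw [mul_assoc, add_left_cancel h1, mul_assoc]
    have e : φ 1 * G 1 ≠ 0 := by
      intro h1
      have h2 := hP 1 1
      rw [h1, e2_zero, mul_one, ← h.zero] at h2
      exact one_ne_zero (e1_zero' (h.inj h2))
    have e' : ψ 1 * G 1 ≠ 0 := by
      intro h1
      have h2 := hQ 1 1
      rw [h1, e1_zero, mul_one, ← h.zero] at h2
      exact one_ne_zero (e2_zero' (h.inj h2))
    exact ⟨φ, ψ, G, left_ne_zero_of_mul e, left_ne_zero_of_mul e', right_ne_zero_of_mul e, hG, hH,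
      Or.inr ⟨hT, hP, hQ⟩⟩

variable (h : Nm γ δ) {t : F} (ht0 : t ≠ 0) (ht1 : t ≠ 1) (h0 : ∀ x, ∃ y, γ (e0 x) = e0 y)
include h ht0 ht1 h0

/-- The coordinate functions of an element which fixes the point `0`. -/
theorem form : ∃ (a b : F) (φ ψ G : F → F), φ 1 ≠ 0 ∧ ψ 1 ≠ 0 ∧ G 1 ≠ 0 ∧
    (∀ c, γ (e3 c) = act (up a) (up b) (e3 (G c))) ∧
    (∀ x y c, γ (e0 (x * y * c)) = e0 (φ x * ψ y * G c)) ∧
    ((T1 γ ∧ (∀ x c, γ (e1 (x * c)) = act (up a) (up b) (e1 (φ x * G c))) ∧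
      ∀ y c, γ (e2 (y * c)) = act (up a) (up b) (e2 (ψ y * G c))) ∨
      (T2 γ ∧ (∀ x c, γ (e1 (x * c)) = act (up a) (up b) (e2 (φ x * G c))) ∧
        ∀ y c, γ (e2 (y * c)) = act (up a) (up b) (e1 (ψ y * G c)))) := by
  obtain ⟨a, b, hab⟩ := h.opp ht0 ht1 h0
  have hw := of_act (F := F) (up a) (up b)
  rw [up_inv, up_inv] at hw
  have hg : Nm (fun X => act (up a) (up b) (γ X)) (fun X => δ (act (up a) (up b) X)) := hw.comp h
  have hback : ∀ {X Y : M2 F}, act (up a) (up b) (γ X) = Y → γ X = act (up a) (up b) Y := by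
    intro X Y e
    rw [← e, act_up_up]
  have g3 : ∀ x, ∃ y, act (up a) (up b) (γ (e3 x)) = e3 y := by
    intro x
    obtain ⟨y, hy⟩ := hab x
    exact ⟨y, by rw [hy, act_up_up]⟩
  have g0 : ∀ x, ∃ y, act (up a) (up b) (γ (e0 x)) = e0 y := by
    intro x
    obtain ⟨y, hy⟩ := h0 x
    exact ⟨y, by rw [hy, act_up_e0]⟩
  have hU : T1 (act (up a) (up b)) := by
    constructor
    · intro A
      exact ⟨up a * A * (up a)⁻¹, fun X => by rw [act_act, act_act]; congr 1 <;> group⟩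
    · intro B
      exact ⟨up b * B * (up b)⁻¹, fun X => by rw [act_act, act_act]; congr 1 <;> group⟩
  have hT : T1 (fun X => act (up a) (up b) (γ X)) ∨ T2 (fun X => act (up a) (up b) (γ X)) :=
    (h.dich ht0 ht1).imp (fun hT => T1_comp hU hT) fun hT => T1_T2_comp hU hT
  obtain ⟨φ, ψ, G, n1, n2, n3, k3, k0, k⟩ := hg.form' hT g0 g3
  refine ⟨a, b, φ, ψ, G, n1, n2, n3, fun c => hback (k3 c), fun x y c => ?_, ?_⟩
  · rw [hback (k0 x y c), act_up_e0]
  · rcases k with ⟨hT', k1, k2⟩ | ⟨hT', k1, k2⟩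
    · refine Or.inl ⟨?_, fun x c => hback (k1 x c), fun x c => hback (k2 x c)⟩
      have h1 := T1_comp hU hT'
      have e : (fun X => act (up a) (up b) (act (up a) (up b) (γ X))) = γ := by
        funext X; rw [act_up_up]
      rwa [e] at h1
    · refine Or.inr ⟨?_, fun x c => hback (k1 x c), fun x c => hback (k2 x c)⟩
      have h1 := T1_T2_comp hU hT'
      have e : (fun X => act (up a) (up b) (act (up a) (up b) (γ X))) = γ := by
        funext X; rw [act_up_up]
      rwa [e] at h1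

/-- `(γ X)₁₁ = G (X₁₁)` -/
theorem entry {a b : F} {φ ψ G : F → F} (k3 : ∀ c, γ (e3 c) = act (up a) (up b) (e3 (G c)))
    (k : ((∀ x c, γ (e1 (x * c)) = act (up a) (up b) (e1 (φ x * G c))) ∧
      ∀ y c, γ (e2 (y * c)) = act (up a) (up b) (e2 (ψ y * G c))) ∨
      ((∀ x c, γ (e1 (x * c)) = act (up a) (up b) (e2 (φ x * G c))) ∧
        ∀ y c, γ (e2 (y * c)) = act (up a) (up b) (e1 (ψ y * G c)))) (X : M2 F) : γ X 1 1 = G (X 1 1) := by
  obtain ⟨y, hy⟩ := h0 (X 0 0)
  have h3 : γ (e3 (X 1 1)) 1 1 = G (X 1 1) := by rw [k3, act_up]; simp [e3]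
  have h1 : γ (e1 (X 0 1)) 1 1 = 0 := by
    rcases k with ⟨k1, -⟩ | ⟨k1, -⟩
    · have := k1 1 (X 0 1)
      rw [one_mul] at this
      rw [this, act_up]; simp [e1]
    · have := k1 1 (X 0 1)
      rw [one_mul] at this
      rw [this, act_up]; simp [e2]
  have h2 : γ (e2 (X 1 0)) 1 1 = 0 := by
    rcases k with ⟨-, k1⟩ | ⟨-, k1⟩
    · have := k1 1 (X 1 0)
      rw [one_mul] at this
      rw [this, act_up]; simp [e2]
    · have := k1 1 (X 1 0)
      rw [one_mul] at this
      rw [this, act_up]; simp [e1]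
  conv_lhs => rw [e_sum X]
  rw [h.add, h.add, h.add, hy, Matrix.add_apply, Matrix.add_apply, Matrix.add_apply, h1, h2, h3]
  simp [e0]

theorem iter0 {n : F} (hn : ∀ c, γ (e0 c) = e0 (n * c)) (m : ℕ) (c : F) : γ^[m] (e0 c) = e0 (n ^ m * c) := by
  have _ := h
  have _ := ht0
  have _ := ht1
  have _ := h0
  induction m generalizing c with
  | zero => simp
  | succ m ih => rw [Function.iterate_succ_apply, hn, ih, pow_succ]; congr 1; ring

/-- trivial on `V / R^⊥` implies trivial on the point `0` -/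
theorem triv {k : ℕ} (hk : ∀ X, γ^[2 ^ k] X = X) (h1 : ∀ X, γ X 1 1 = X 1 1) (c : F) : γ (e0 c) = e0 c := by
  obtain ⟨a, b, φ, ψ, G, n1, n2, n3, k3, k0, kk⟩ := h.form ht0 ht1 h0
  have hG : ∀ c, G c = c := by
    intro c
    have h2 := h1 (e3 c)
    rw [k3, act_up] at h2
    simpa [e3] using h2
  have hn : ∀ c, γ (e0 c) = e0 (φ 1 * ψ 1 * c) := by
    intro c
    have := k0 1 1 c
    rwa [hG, one_mul, one_mul] at this
  have h2 := h.iter0 ht0 ht1 h0 hn (2 ^ k) 1
  rw [hk, mul_one] at h2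
  have h3 := eq_one_of_pow (e0_inj h2).symm
  rw [hn, h3, one_mul]

/-- trivial on the point `0` implies trivial on `V / R^⊥` -/
theorem quo {k : ℕ} (hk : ∀ X, γ^[2 ^ k] X = X) (h1 : ∀ c, γ (e0 c) = e0 c) (X : M2 F) : γ X 1 1 = X 1 1 := by
  obtain ⟨a, b, φ, ψ, G, n1, n2, n3, k3, k0, kk⟩ := h.form ht0 ht1 h0
  have hG : ∀ c, G c = (φ 1 * ψ 1)⁻¹ * c := by
    intro c
    have := k0 1 1 c
    rw [h1, one_mul, one_mul] at this
    have h2 := e0_inj this
    have h3 : φ 1 * ψ 1 ≠ 0 := mul_ne_zero n1 n2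
    rw [eq_inv_mul_iff_mul_eq₀ h3]
    exact h2.symm
  have he := h.entry ht0 ht1 h0 k3 (kk.imp (fun x => x.2) fun x => x.2)
  have hX : ∀ X, γ X 1 1 = (φ 1 * ψ 1)⁻¹ * X 1 1 := fun X => by rw [he, hG]
  have h2 := iter11 hX (2 ^ k) (e3 1)
  rw [hk] at h2
  simp only [e3, Matrix.of_apply, Matrix.cons_val', Matrix.cons_val_one, Matrix.cons_val_fin_one, mul_one] at h2
  have h3 := eq_one_of_pow h2.symm
  rw [hX, h3, one_mul]

/-- a 2-element of type `T1` which is trivial on the point `0` -/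
theorem mem_U' {k : ℕ} (hk : ∀ X, γ^[2 ^ k] X = X) (hT : T1 γ) (h1 : ∀ c, γ (e0 c) = e0 c) :
    ∃ a b, ∀ X, γ X = act (up a) (up b) X := by
  have hq := h.quo ht0 ht1 h0 hk h1
  obtain ⟨a, b, φ, ψ, G, n1, n2, n3, k3, k0, kk⟩ := h.form ht0 ht1 h0
  have hG : ∀ c, G c = c := by
    intro c
    have h2 := hq (e3 c)
    rw [k3, act_up] at h2
    simpa [e3] using h2
  rcases kk with ⟨-, k1, k2⟩ | ⟨hT', -⟩
  · have hφ : ∀ c, γ (e1 c) = act (up a) (up b) (e1 (φ 1 * c)) := by
      intro c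
      have := k1 1 c
      rwa [hG, one_mul] at this
    have hψ : ∀ c, γ (e2 c) = act (up a) (up b) (e2 (ψ 1 * c)) := by
      intro c
      have := k2 1 c
      rwa [hG, one_mul] at this
    have hdec : ∀ X : M2 F, γ X = act (up a) (up b) (e0 (X 0 0) + e1 (φ 1 * X 0 1) + e2 (ψ 1 * X 1 0) + e3 (X 1 1)) := by
      intro X
      conv_lhs => rw [e_sum X]
      rw [h.add, h.add, h.add, h1, hφ, hψ, k3, hG, act_add, act_add, act_add, act_up_e0]
    have f01 : ∀ X : M2 F, X 1 1 = 0 → γ X 0 1 = φ 1 * X 0 1 := fun X hX => by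
      rw [hdec, act_up]; simp [e0, e1, e2, e3, hX]
    have f10 : ∀ X : M2 F, X 1 1 = 0 → γ X 1 0 = ψ 1 * X 1 0 := fun X hX => by
      rw [hdec, act_up]; simp [e0, e1, e2, e3, hX]
    have f11 : ∀ X, γ X 1 1 = 1 * X 1 1 := fun X => by rw [hq, one_mul]
    have p1 : φ 1 = 1 := by
      have h1 := iter01 f11 f01 (2 ^ k) (e1 1) (by simp [e1])
      rw [hk] at h1
      simp only [e1, Matrix.of_apply, Matrix.cons_val', Matrix.cons_val_zero, Matrix.cons_val_one,
        Matrix.cons_val_fin_one, mul_one] at h1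
      exact eq_one_of_pow h1.symm
    have q1 : ψ 1 = 1 := by
      have h1 := iter10 f11 f10 (2 ^ k) (e2 1) (by simp [e2])
      rw [hk] at h1
      simp only [e2, Matrix.of_apply, Matrix.cons_val', Matrix.cons_val_zero, Matrix.cons_val_one,
        Matrix.cons_val_fin_one, mul_one] at h1
      exact eq_one_of_pow h1.symm
    refine ⟨a, b, fun X => ?_⟩
    rw [hdec, p1, q1, one_mul, one_mul, ← e_sum X]
  · exact (h.not_T1_T2 hT hT').elim

/-- a 2-element which is trivial on `R^⊥` is trivial -/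
theorem cenE {k : ℕ} (hk : ∀ X, γ^[2 ^ k] X = X) (h1 : ∀ X : M2 F, X 1 1 = 0 → γ X = X) (X : M2 F) : γ X = X := by
  have g0 : ∀ c, γ (e0 c) = e0 c := fun c => h1 _ (by simp [e0])
  have hT : T1 γ := by
    rcases h.dich ht0 ht1 with hT | hT
    · exact hT
    · exfalso
      obtain ⟨a, b, φ, ψ, G, n1, n2, n3, k3, k0, kk⟩ := h.form ht0 ht1 h0
      rcases kk with ⟨hT', -⟩ | ⟨-, k1, k2⟩
      · exact h.not_T1_T2 hT' hT
      · have h2 := k1 1 1
        rw [h1 _ (by simp [e1]), mul_one, act_up] at h2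
        have h3 := congrFun (congrFun h2 1) 0
        simp [e1, e2, n1, n3] at h3
  obtain ⟨a, b, hab⟩ := h.mem_U' ht0 ht1 h0 hk hT g0
  have h2 := h1 (e1 1) (by simp [e1])
  have h3 := h1 (e2 1) (by simp [e2])
  rw [hab, act_up] at h2 h3
  have h4 := congrFun (congrFun h2 0) 0
  have h5 := congrFun (congrFun h3 0) 0
  simp [e1, e2] at h4 h5
  rw [hab, h4, h5, up_zero, act_one]

/-- an element of type `T2` on `E₁₂` -/
theorem swap_e1 [Finite F] (hT : T2 γ) : ∃ (a : F) (P : F → F), Function.Bijective P ∧ P 0 = 0 ∧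
    ∀ c, γ (e1 c) = e2 (P c) + e0 (a * P c) := by
  obtain ⟨a, b, φ, ψ, G, n1, n2, n3, k3, k0, kk⟩ := h.form ht0 ht1 h0
  rcases kk with ⟨hT', -⟩ | ⟨-, k1, k2⟩
  · exact (h.not_T1_T2 hT' hT).elim
  have hP : ∀ c, γ (e1 c) = e2 (φ c * G 1) + e0 (a * (φ c * G 1)) := by
    intro c
    have h2 := k1 c 1
    rw [mul_one] at h2
    rw [h2, act_up]
    apply ext2 <;> simp [e0, e2]
  have hinj : Function.Injective (fun c => φ c * G 1) := by
    intro c d hcd
    have h2 : φ c * G 1 = φ d * G 1 := hcd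
    apply e1_inj
    apply h.inj
    rw [hP, hP, h2]
  refine ⟨a, fun c => φ c * G 1, Finite.injective_iff_bijective.1 hinj, ?_, hP⟩
  have h2 := hP 0
  rw [e1_zero, h.zero] at h2
  have h3 := congrFun (congrFun h2 1) 0
  simp only [Matrix.zero_apply, Matrix.add_apply] at h3
  simpa [e0, e2] using h3.symm

/-- an element of type `T2` on `E₂₁` -/
theorem swap_e2 [Finite F] (hT : T2 γ) : ∃ (b : F) (P : F → F), Function.Bijective P ∧ P 0 = 0 ∧
    ∀ c, γ (e2 c) = e1 (P c) + e0 (b * P c) := by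
  obtain ⟨a, b, φ, ψ, G, n1, n2, n3, k3, k0, kk⟩ := h.form ht0 ht1 h0
  rcases kk with ⟨hT', -⟩ | ⟨-, k1, k2⟩
  · exact (h.not_T1_T2 hT' hT).elim
  have hP : ∀ c, γ (e2 c) = e1 (ψ c * G 1) + e0 (b * (ψ c * G 1)) := by
    intro c
    have h2 := k2 c 1
    rw [mul_one] at h2
    rw [h2, act_up]
    apply ext2 <;> simp [e0, e1]
  have hinj : Function.Injective (fun c => ψ c * G 1) := by
    intro c d hcd
    have h2 : ψ c * G 1 = ψ d * G 1 := hcd
    apply e2_inj
    apply h.inj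
    rw [hP, hP, h2]
  refine ⟨b, fun c => ψ c * G 1, Finite.injective_iff_bijective.1 hinj, ?_, hP⟩
  have h2 := hP 0
  rw [e2_zero, h.zero] at h2
  have h3 := congrFun (congrFun h2 0) 1
  simp only [Matrix.zero_apply, Matrix.add_apply] at h3
  simpa [e0, e1] using h3.symm

end Nm

end Cfsg.Agent.Omega.NO1.Tens

end
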