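import Cfsg.Agent.Mrg.Omega.NO1.Tens.Loc
import Cfsg.Agent.Mrg.Omega.NO1.Tens.Basic
import Cfsg.Agent.Mrg.Omega.NO1.BetaPlus.Meet
import Cfsg.Agent.Mrg.Omega.NO1.Beta.Meet

section


/-!
# Type (γ) of the leaf N1: `Q_p ∩ Q_q ≤ V` for opposite points (helper914)
-/

set_option autoImplicit false
set_option linter.unusedSectionVars false

namespace Cfsg.Agent.Omega.NO1.BetaPlus.Mv

open Subgroup
open Cfsg.Agent.Omega.NO1.Beta.Meet (cj mem_cj)

theorem cj_eq {G : Type*} [Group G] {g : G} {A B : Subgroup G} (h : Mv g A B) : cj g A = B := by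
  ext x
  rw [mem_cj, h]
  have e : g * (g⁻¹ * x * g) * g⁻¹ = x := by group
  rw [e]

theorem of_cj {G : Type*} [Group G] {g : G} {A B : Subgroup G} (h : cj g A = B) : Mv g A B := by
  intro x
  rw [← h, mem_cj]
  have e : g⁻¹ * (g * x * g⁻¹) * g = x := by group
  rw [e]

end Cfsg.Agent.Omega.NO1.BetaPlus.Mv

namespace Cfsg.Agent.Omega.NO1.PlusQ

open Subgroup Cfsg Matrix
open Cfsg.Agent.Omega.NO1.Tens
open Cfsg.Agent.Omega.NO1.BetaPlus (Mv QQ Bp Mo ToO)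
open Cfsg.Agent.Omega.NO1.Beta.Meet (cj mem_cj)
open Cfsg.Agent.ZN (o2)

universe u

variable {G : Type u} [Group G] {F : Type} [Field F] {N V : Subgroup G}

variable {D : PlusQ F N V} [CharP F 2] [Finite G]

theorem mv_mob (hN : ∀ m ∈ N, Mv m V V) {g : G} (hg : g ∈ N) {A B : SL F}
    (h : ∀ X, D.act g X = Tens.act A B X) (k l : Option F) : Mv g (D.R k l) (D.R (mob A k) (mob B l)) := by
  obtain ⟨T, hT, e⟩ := mob_spec A k
  obtain ⟨T', hT', e'⟩ := mob_spec B l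
  have h1 := mv_RA hN hg h (rep k) (rep l)
  rw [e, e', RA_Bo _ _ hT hT'] at h1
  exact h1

/-- the points are different -/
theorem R_disj {i j k l : Option F} (h : D.R i j ⊓ D.R k l ≠ ⊥) : i = k ∧ j = l := by
  obtain ⟨⟨w, hwm⟩, hw1⟩ := ne_bot_iff_exists_ne_one.1 h
  have hw1' : w ≠ 1 := fun e => hw1 (Subtype.ext e)
  obtain ⟨⟨hw, c, hc⟩, -, d, hd⟩ := hwm
  have hc0 : c ≠ 0 := by
    rintro rfl
    rw [e0_zero, act_zero] at hc
    exact hw1' (D.ker w hw hc)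
  have h1 : Tens.act ((rep k)⁻¹ * rep i) ((rep l)⁻¹ * rep j) (e0 c) = e0 d := by
    rw [← act_act, ← hc, hd, Tens.act_inv_act]
  rw [act_e0] at h1
  set P := (rep k)⁻¹ * rep i with hP
  set P' := (rep l)⁻¹ * rep j with hP'
  have h01 := congrArg (fun X : M2 F => X 0 1) h1
  have h10 := congrArg (fun X : M2 F => X 1 0) h1
  have h11 := congrArg (fun X : M2 F => X 1 1) h1
  simp [e0] at h01 h10 h11
  have d1 := SL_det P
  have d2 := SL_det P'
  have hB : Bo P := by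
    by_contra hB
    have hB' : P.1 1 0 ≠ 0 := hB
    have e1 : P'.1 0 0 = 0 := by
      rcases h10 with h | h
      · rcases h with h | h
        · exact absurd h hB'
        · exact absurd h hc0
      · exact h
    have e2 : P'.1 1 0 = 0 := by
      rcases h11 with h | h
      · rcases h with h | h
        · exact absurd h hB'
        · exact absurd h hc0
      · exact h
    rw [e1, e2] at d2
    simp at d2
  have hB2 : Bo P' := by
    have hB' : P.1 1 0 = 0 := hB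
    show P'.1 1 0 = 0
    rcases h01 with h | h
    · rcases h with h | h
      · rw [h, hB'] at d1
        simp at d1
      · exact absurd h hc0
    · exact h
  exact ⟨(rep_inj hB).symm, (rep_inj hB2).symm⟩

theorem R_ne_bot (i j : Option F) : D.R i j ≠ ⊥ := by
  intro h
  have h1 : D.v (Tens.act (rep i) (rep j) (e0 1)) ∈ D.R i j := ⟨D.v_mem _, 1, D.e_v _⟩
  rw [h, mem_bot] at h1
  have h2 : Tens.act (rep i) (rep j) (e0 1) = 0 := by
    rw [← D.e_v (Tens.act (rep i) (rep j) (e0 1)), h1, D.e_one]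
  exact e0_ne one_ne_zero (act_eq_zero h2)

theorem R_inj {i j k l : Option F} (h : D.R i j = D.R k l) : i = k ∧ j = l :=
  R_disj (D := D) (by rw [h, inf_idem]; exact R_ne_bot k l)

namespace Cx

variable [Finite F] (h : Cx D)
include h

/-- the action of `Q (i,j)` -/
theorem QU {i j : Option F} {y : G} (hy : y ∈ QQ (D.R i j)) :
    y ∈ N ∧ ∃ a b, ∀ X, D.act y X = Tens.act (ua i a) (ua j b) X := by
  obtain ⟨m, hm, hmA⟩ := lift_act (D := D) h.hN (rep i) (rep j)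
  have hD := h.conj hm
  have e0 : (D.conj h.hN m hm).R0 = D.R i j := by
    rw [← RA_one, conj_RA h.hN hm hmA, mul_one, mul_one]; rfl
  rw [← e0] at hy
  obtain ⟨a, b, hab⟩ := hD.U hy
  have hyN := hD.Q_N hy
  refine ⟨hyN, a, b, fun X => ?_⟩
  have h1 := hab (Tens.act (rep i)⁻¹ (rep j)⁻¹ X)
  rw [conj_act h.hN hm hmA hyN, Tens.act_act_inv] at h1
  have h2 := congrArg (Tens.act (rep i) (rep j)) h1
  rw [Tens.act_act_inv, act_act, act_act] at h2
  exact h2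

theorem QU_surj (i j : Option F) (a b : F) :
    ∃ y ∈ QQ (D.R i j), ∀ X, D.act y X = Tens.act (ua i a) (ua j b) X := by
  obtain ⟨m, hm, hmA⟩ := lift_act (D := D) h.hN (rep i) (rep j)
  have hD := h.conj hm
  have e0 : (D.conj h.hN m hm).R0 = D.R i j := by
    rw [← RA_one, conj_RA h.hN hm hmA, mul_one, mul_one]; rfl
  obtain ⟨y, hy, hab⟩ := hD.U_surj a b
  have hyN := hD.Q_N hy
  refine ⟨y, by rwa [← e0], fun X => ?_⟩
  have h1 := hab (Tens.act (rep i)⁻¹ (rep j)⁻¹ X)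
  rw [conj_act h.hN hm hmA hyN, Tens.act_act_inv] at h1
  have h2 := congrArg (Tens.act (rep i) (rep j)) h1
  rw [Tens.act_act_inv, act_act, act_act] at h2
  exact h2

/-- the elements of `Q ∞` -/
theorem dn_surj (a b : F) : ∃ y ∈ QQ D.R3, ∀ X, D.act y X = Tens.act (dn a) (dn b) X := by
  obtain ⟨y, hy, hab⟩ := h.QU_surj (some 0) (some 0) a b
  rw [R_zero] at hy
  refine ⟨y, hy, fun X => ?_⟩
  rw [hab, ua, ua, rep_zero, dn_eq, dn_eq]

/-- **The structure `Mo`.** -/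
theorem mo (meet : ∀ W : Subgroup G, IsPGroup 2 W → W ≤ N →
    (∀ m ∈ N, ∀ y ∈ W, m * y * m⁻¹ ∈ W) → W ⊓ V = ⊥ → W = ⊥) :
    Mo V (fun p : Option F × Option F => D.R p.1 p.2) (fun p => QQ (D.R p.1 p.2)) Op := by
  have B := bp h meet
  have hmove : ∀ {k l : Option F × Option F}, Op k l → ∀ {y}, y ∈ QQ (D.R k.1 k.2) →
      ∃ m : Option F × Option F, Op k m ∧ Mv y (D.R l.1 l.2) (D.R m.1 m.2) := by
    intro k l hkl y hy
    obtain ⟨hyN, a, b, hab⟩ := h.QU hy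
    refine ⟨(mob (ua k.1 a) l.1, mob (ua k.2 b) l.2), ⟨fun e => hkl.1 ?_, fun e => hkl.2 ?_⟩,
      mv_mob h.hN hyN hab _ _⟩
    · simp only at e
      exact mob_inj (ua k.1 a) (by rw [mob_ua_self]; exact e)
    · simp only at e
      exact mob_inj (ua k.2 b) (by rw [mob_ua_self]; exact e)
  refine
    { comm := B.comm
      R_le := B.R_le
      R_Q := B.R_Q
      RQ := B.RQ
      QQ := fun p y hy z hz => ?_
      Qsq := fun p y hy => (B.result p).2.2.2.1 y hy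
      cen := fun p y hy hc => ?_
      Q_V := fun p y hy => (B.Q_V p hy).mem_nor
      nor := fun p c hc => (Mv.of_nor hc).QQ.cj_eq
      symm := fun {p q} hpq => B.symm p q hpq
      conn := B.conn
      fixj := fun p q hpq y hy hc => ?_
      move := fun {k l} hkl {y} hy => ?_
      Q_of_R := fun {k l m y} hy hc => (Mv.of_cj hc).QQ.cj_eq
      tran := fun p q r hpq hpr => ?_
      RQj := fun p q hpq => ?_
      VE := fun p q hpq => ?_ }
  · have := (B.result p).2.2.1 y⁻¹ (inv_mem hy) z⁻¹ (inv_mem hz)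
    rwa [inv_inv, inv_inv] at this
  · rw [← (B.result p).2.1]
    exact ⟨hy, mem_centralizer_iff.2 fun z hz => (hc z hz).symm⟩
  · obtain ⟨hyN, a, b, hab⟩ := h.QU hy
    have h1 := mv_mob h.hN hyN hab q.1 q.2
    have h2 := R_inj (h1.cj_eq.symm.trans hc)
    have ha := ua_fix hpq.1.symm h2.1
    have hb := ua_fix hpq.2.symm h2.2
    rw [← act_one_iff (D := D) h.hN hyN]
    intro X
    rw [hab, ha, hb, ua_zero, ua_zero, act_one]
  · obtain ⟨m, h1, h2⟩ := hmove hkl hy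
    exact ⟨m, h1, h2.cj_eq, h2.QQ.cj_eq⟩
  · obtain ⟨y, hy, h1⟩ := B.tran p q r hpq hpr
    exact ⟨y, hy, h1.cj_eq⟩
  · obtain ⟨D', m, A, B', T, T', S, S', hD, eR0, eR3, -⟩ := h.two hpq.1.symm hpq.2.symm
    show D.R p.1 p.2 ⊓ QQ (D.R q.1 q.2) = ⊥
    rw [← eR0, ← eR3, eq_bot_iff]
    rintro w ⟨⟨hw, c, hc⟩, hwQ⟩
    rw [mem_bot]
    refine D'.ker w hw ?_
    have h1 := (hD.mem_E hw).1 hwQ
    rw [hc] at h1
    simp [e3] at h1
    rw [hc, h1, e3_zero]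
  · obtain ⟨D', m, A, B', T, T', S, S', hD, eR0, eR3, -⟩ := h.two hpq.1 hpq.2
    show V ≤ (V ⊓ QQ (D.R p.1 p.2)) ⊔ D.R q.1 q.2
    rw [← eR0, ← eR3]
    exact hD.VE

/-- **The torus** at the two base points. -/
theorem too : ∃ y y' z z', ToO V (fun p : Option F × Option F => D.R p.1 p.2)
    (fun p => QQ (D.R p.1 p.2)) Op (none, none) (some 0, some 0) y y' z z' := by
  obtain ⟨t, ht0, ht1⟩ := h.three
  set l : Fˣ := Units.mk0 t ht0 with hl
  have hlt : (l : F) = t := rfl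
  obtain ⟨y, hy, hyA⟩ := h.U_surj (l : F) ((l⁻¹ : Fˣ) : F)
  obtain ⟨z, hz, hzA⟩ := h.U_surj 1 1
  obtain ⟨y', hy', hyA'⟩ := h.dn_surj ((l⁻¹ : Fˣ) : F) (l : F)
  obtain ⟨z', hz', hzA'⟩ := h.dn_surj 1 1
  have hyN := h.Q_N hy
  have hzN := h.Q_N hz
  have hQ3 : QQ D.R3 ≤ N := by
    intro x hx
    rw [← R_zero] at hx
    exact (h.QU hx).1
  have hyN' := hQ3 hy'
  have hzN' := hQ3 hz'
  -- the torus element
  set w := (y * y' * y) * (z * z' * z) with hw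
  have hwN : w ∈ N := mul_mem (mul_mem (mul_mem hyN hyN') hyN) (mul_mem (mul_mem hzN hzN') hzN)
  have htor := tor_eq l
  have htor' := tor_eq l⁻¹
  rw [inv_inv] at htor'
  have hwA : ∀ X, D.act w X = Tens.act (tor l) (tor l⁻¹) X := by
    intro X
    rw [hw, act_mul h.hN (mul_mem (mul_mem hyN hyN') hyN) (mul_mem (mul_mem hzN hzN') hzN),
      act_mul h.hN (mul_mem hyN hyN') hyN, act_mul h.hN hyN hyN',
      act_mul h.hN (mul_mem hzN hzN') hzN, act_mul h.hN hzN hzN', hyA, hyA', hyA, hzA, hzA', hzA]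
    simp only [act_act]
    rw [← htor, ← htor']
    congr 1 <;> group
  have hm0 : ∀ (a b : F), a ≠ 0 → b ≠ 0 → a * b = 1 → D.RA (up a * wy) (up b * wy) = D.RA (dn b) (dn a) := by
    intro a b ha hb hab
    have e1 : up a * wy = dn b * ((dn b)⁻¹ * (up a * wy)) := by group
    have e2 : up b * wy = dn a * ((dn a)⁻¹ * (up b * wy)) := by group
    have key : ∀ a b : F, a * b = 1 → Bo ((dn b)⁻¹ * (up a * wy) : SL F) := by
      intro a b hab
      have e3 : (dn b : SL F)⁻¹ = dn b := by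
        rw [dn_eq, _root_.mul_inv_rev, _root_.mul_inv_rev, inv_inv, up_inv]; group
      rw [e3]
      have e4 : (dn b * (up a * wy) : SL F).1 = (dn b).1 * ((up a).1 * wy.1) := rfl
      rw [Bo, e4, dn_val, up_val, wy_val]
      simp only [Matrix.mul_apply, Fin.sum_univ_two]
      simp
      rw [mul_comm, hab]
      exact CharTwo.add_self_eq_zero 1
    rw [e1, e2, RA_Bo _ _ (key a b hab) (key b a (by rw [mul_comm]; exact hab))]
  have hmd : ∀ {x : G} {a b : F}, x ∈ N → (∀ X, D.act x X = Tens.act (dn a) (dn b) X) →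
      Mv x D.R0 (D.RA (dn a) (dn b)) := by
    intro x a b hx hxA
    have := mv_RA h.hN hx hxA 1 1
    rwa [RA_one, mul_one, mul_one] at this
  have hmu : ∀ {x : G} {a b : F}, x ∈ N → (∀ X, D.act x X = Tens.act (up a) (up b) X) →
      Mv x D.R3 (D.RA (up a * wy) (up b * wy)) := by
    intro x a b hx hxA
    have := mv_RA h.hN hx hxA wy wy
    rwa [RA_wy] at this
  have hl0 : ((l⁻¹ : Fˣ) : F) ≠ 0 := l⁻¹.ne_zero
  have hll : (l : F) * ((l⁻¹ : Fˣ) : F) = 1 := by simp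
  have hlne : (l : F) ≠ ((l⁻¹ : Fˣ) : F) := by
    intro e
    rw [← e] at hll
    exact ht1 (eq_one_of_sq hll)
  refine ⟨y, y', z, z', ?_⟩
  refine ⟨by rw [R_none]; exact hy, by rw [R_none]; exact hz, by rw [R_zero]; exact hy',
    by rw [R_zero]; exact hz', ?_, ?_, ?_, ?_, ?_, ?_⟩
  · show cj y (D.R (some 0) (some 0)) = cj y' (D.R none none)
    rw [R_zero, R_none, (hmu hyN hyA).cj_eq, (hmd hyN' hyA').cj_eq]
    exact hm0 _ _ l.ne_zero hl0 hll
  · show cj z (D.R (some 0) (some 0)) = cj z' (D.R none none)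
    rw [R_zero, R_none, (hmu hzN hzA).cj_eq, (hmd hzN' hzA').cj_eq]
    exact hm0 _ _ one_ne_zero one_ne_zero (mul_one 1)
  · -- `z⁻¹ y` moves `∞` to an opposite point
    have hzy : z⁻¹ * y ∈ QQ D.R0 := mul_mem (inv_mem hz) hy
    have ha : D.al (z⁻¹ * y) ≠ 0 := by
      rw [(h.al_mul (inv_mem hz) hy).1, (h.al_inv hz).1, (al_be hzA).1, (al_be hyA).1]
      intro e
      exact ht1 (CharTwo.add_eq_zero.1 e).symm
    have hb : D.be (z⁻¹ * y) ≠ 0 := by
      rw [(h.al_mul (inv_mem hz) hy).2, (h.al_inv hz).2, (al_be hzA).2, (al_be hyA).2]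
      intro e
      have e1 := CharTwo.add_eq_zero.1 e
      rw [← e1, mul_one] at hll
      exact ht1 hll
    obtain ⟨k', l', h1, h2, h3⟩ := h.half_mv (D' := D) (i := none) (j := none) (k := some 0) (l := some 0)
      (A := 1) (B := 1) (S := 1) (S' := 1) Bo.one Bo.one (by rw [rep_zero, one_mul, mul_one])
      (by rw [rep_zero, one_mul, mul_one]) h R_zero.symm (fun C E => by rw [one_mul, one_mul]) hzy ha hb
    exact ⟨(k', l'), ⟨h1, h2⟩, h3.cj_eq⟩
  · show ∀ r ∈ D.R none none, w * r = r * w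
    rw [R_none]
    rintro r ⟨hr, c, hc⟩
    have h1 : w * r * w⁻¹ = r := by
      refine D.e_inj ((h.hN w hwN r).1 hr) hr ?_
      rw [← act_e h.hN hwN hr, hc, hwA, act_tor_e0]
      simp
    calc w * r = (w * r * w⁻¹) * w := by group
      _ = r * w := by rw [h1]
  · show ∀ e ∈ V ⊓ QQ (D.R none none), e⁻¹ * (w * e * w⁻¹) ∈ D.R none none → e ∈ D.R none none
    rw [R_none]
    rintro e ⟨heV, heQ⟩ ⟨-, c, hc⟩
    have hwe : w * e * w⁻¹ ∈ V := (h.hN w hwN e).1 heV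
    rw [D.mul _ (inv_mem heV) _ hwe, D.e_inv heV, ← act_e h.hN hwN heV, hwA, act_tor] at hc
    have h01 := congrArg (fun X : M2 F => X 0 1) hc
    have h10 := congrArg (fun X : M2 F => X 1 0) hc
    simp [e0] at h01 h10
    have h11 := (h.mem_E heV).1 heQ
    have e1 : D.e e 0 1 = 0 := by
      have : ((l : F) * l + 1) * D.e e 0 1 = 0 := by
        have e2 : -D.e e 0 1 = D.e e 0 1 := CharTwo.neg_eq _
        rw [e2] at h01
        linear_combination h01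
      rcases mul_eq_zero.1 this with h2 | h2
      · exact absurd (eq_one_of_sq (CharTwo.add_eq_zero.1 h2)) ht1
      · exact h2
    have e2 : D.e e 1 0 = 0 := by
      have hl1 : (l : F)⁻¹ * (l : F)⁻¹ = 1 → False := by
        intro h2
        have h3 : (l : F)⁻¹ = 1 := eq_one_of_sq h2
        exact ht1 (inv_eq_one.1 h3)
      have : ((l : F)⁻¹ * (l : F)⁻¹ + 1) * D.e e 1 0 = 0 := by
        have e2 : -D.e e 1 0 = D.e e 1 0 := CharTwo.neg_eq _
        rw [e2] at h10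
        linear_combination h10
      rcases mul_eq_zero.1 this with h2 | h2
      · exact absurd (CharTwo.add_eq_zero.1 h2) hl1
      · exact h2
    exact ⟨heV, D.e e 0 0, by apply ext2 <;> simp [e0, e1, e2, h11]⟩
  · show ∀ u ∈ QQ (D.R none none), u⁻¹ * (w * u * w⁻¹) ∈ centralizer (V : Set G) → u ∈ centralizer (V : Set G)
    rw [R_none]
    intro u hu huC
    have hwR : Mv w D.R0 D.R0 := (fix_iff h.hN hwN).2 fun x => ⟨_, by rw [hwA, act_tor_e0]⟩
    have hwu : w * u * w⁻¹ ∈ QQ D.R0 := (hwR.QQ u).1 hu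
    obtain ⟨e1, e2⟩ := al_be (D := D) (y := w * u * w⁻¹) (a := l * l * D.al u)
      (b := (l⁻¹ : Fˣ) * (l⁻¹ : Fˣ) * D.be u) fun X => by
        rw [act_mul h.hN (mul_mem hwN (h.Q_N hu)) (inv_mem hwN), act_mul h.hN hwN (h.Q_N hu), h.act_y hu,
          hwA, tor_act_up]
        congr 1
        rw [← hwA, act_act_inv h.hN hwN]
    rw [h.mem_C_iff (mul_mem (inv_mem hu) hwu), (h.al_mul (inv_mem hu) hwu).1, (h.al_mul (inv_mem hu) hwu).2,
      (h.al_inv hu).1, (h.al_inv hu).2, e1, e2] at huC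
    rw [h.mem_C_iff hu]
    constructor
    · have : ((l : F) * l + 1) * D.al u = 0 := by linear_combination huC.1
      rcases mul_eq_zero.1 this with h2 | h2
      · exact absurd (eq_one_of_sq (CharTwo.add_eq_zero.1 h2)) ht1
      · exact h2
    · have : (((l⁻¹ : Fˣ) : F) * ((l⁻¹ : Fˣ) : F) + 1) * D.be u = 0 := by linear_combination huC.2
      rcases mul_eq_zero.1 this with h2 | h2
      · exfalso
        have h3 := eq_one_of_sq (CharTwo.add_eq_zero.1 h2)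
        rw [h3, mul_one] at hll
        exact ht1 hll
      · exact h2

/-- **`Q_p ∩ Q_q ≤ V`** for opposite points -/
theorem meet_le (meet : ∀ W : Subgroup G, IsPGroup 2 W → W ≤ N →
    (∀ m ∈ N, ∀ y ∈ W, m * y * m⁻¹ ∈ W) → W ⊓ V = ⊥ → W = ⊥) {i j k l : Option F} (h1 : i ≠ k) (h2 : j ≠ l) :
    QQ (D.R i j) ⊓ QQ (D.R k l) ≤ V := by
  -- move the pair to the base points
  obtain ⟨D', m, A, B, T, T', S, S', hD, eR0, eR3, -⟩ := h.two h1 h2
  obtain ⟨y, y', z, z', ht⟩ := hD.too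
  have h3 := (hD.mo meet).meet_le (i := (none, none)) (j := (some 0, some 0)) ⟨by simp, by simp⟩ ht
  simp only [R_none, R_zero] at h3
  rwa [eR0, eR3] at h3

end Cx

end Cfsg.Agent.Omega.NO1.PlusQ

end

section


/-!
# Type (γ) of the leaf N1: the structure `Grid` (helper914)
-/

set_option autoImplicit false
set_option linter.unusedSectionVars false

namespace Cfsg.Agent.Omega.NO1.PlusQ

open Subgroup Cfsg Matrix
open Cfsg.Agent.Omega.NO1.Tens
open Cfsg.Agent.Omega.NO1.BetaPlus (Mv QQ Bp Mo ToO)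
open Cfsg.Agent.Omega.NO1.Beta.Meet (cj mem_cj)
open Cfsg.Agent.Omega.NO1.Gamma (Grid)
open Cfsg.Agent.ZN (o2)

universe u

variable {G : Type u} [Group G] {F : Type} [Field F] {N V : Subgroup G}

variable {D : PlusQ F N V} [CharP F 2] [Finite G]

namespace Cx

variable [Finite F] (h : Cx D)
include h

theorem Bo_rel {i : Option F} {A T : SL F} (hT : Bo T) (e : A = rep i * T) : Bo (A⁻¹ * rep i) := by
  have e1 : A⁻¹ * rep i = T⁻¹ := by rw [e]; group
  rw [e1]; exact hT.inv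

/-- the point `(i,j)` is orthogonal to `(i,l)` -/
theorem row_le (i j l : Option F) : D.R i j ≤ QQ (D.R i l) := by
  obtain ⟨k, hk, -⟩ := exists_ne' i i h
  obtain ⟨l', hl', -⟩ := exists_ne' l l h
  obtain ⟨D', m, A, B, T, T', S, S', hD, eR0, eR3, hRA, hT, hT', hS, hS', eA, eB, eA', eB', hm, hmA, he, -⟩ :=
    h.two hk hl'
  rintro w ⟨hw, c, hc⟩
  rw [← eR0, hD.mem_E hw, he w hw, hc, act_act, act_e0]
  have h1 : (A⁻¹ * rep i).1 1 0 = 0 := h.Bo_rel hT eA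
  simp [h1]

theorem col_le (i k j : Option F) : D.R i j ≤ QQ (D.R k j) := by
  obtain ⟨k', hk, -⟩ := exists_ne' k k h
  obtain ⟨l', hl', -⟩ := exists_ne' j j h
  obtain ⟨D', m, A, B, T, T', S, S', hD, eR0, eR3, hRA, hT, hT', hS, hS', eA, eB, eA', eB', hm, hmA, he, -⟩ :=
    h.two hk hl'
  rintro w ⟨hw, c, hc⟩
  rw [← eR0, hD.mem_E hw, he w hw, hc, act_act, act_e0]
  have h1 : (B⁻¹ * rep j).1 1 0 = 0 := h.Bo_rel hT' eB
  simp [h1]

/-- `E = R_ij R_il R_kj` -/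
theorem EE {i j k l : Option F} (hk : k ≠ i) (hl : l ≠ j) :
    V ⊓ QQ (D.R i j) ≤ (D.R i j ⊔ D.R i l) ⊔ D.R k j := by
  obtain ⟨D', m, A, B, T, T', S, S', hD, eR0, eR3, hRA, hT, hT', hS, hS', eA, eB, eA', eB', hm, hmA, he, -⟩ :=
    h.two hk.symm hl.symm
  have e1 : D'.RA 1 wy = D.R i l := by
    rw [hRA, mul_one, eA, eB', RA_Bo _ _ hT hS']; rfl
  have e2 : D'.RA wy 1 = D.R k j := by
    rw [hRA, mul_one, eA', eB, RA_Bo _ _ hS hT']; rfl
  rintro w ⟨hw, hwQ'⟩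
  have hwQ : D'.e w 1 1 = 0 := (hD.mem_E hw).1 (by rw [eR0]; exact hwQ')
  have e3 : w = D'.v (Tens.e0 (D'.e w 0 0)) * D'.v (Tens.e1 (D'.e w 0 1)) * D'.v (Tens.e2 (D'.e w 1 0)) := by
    rw [← D'.v_add, ← D'.v_add]
    conv_lhs => rw [← D'.v_e hw, e_sum (D'.e w), hwQ, e3_zero, add_zero]
  rw [e3, ← eR0, ← e1, ← e2]
  refine mul_mem (mem_sup_left (mul_mem (mem_sup_left (v_e0 _)) (mem_sup_right ⟨D'.v_mem _, D'.e w 0 1, ?_⟩)))
    (mem_sup_right ⟨D'.v_mem _, D'.e w 1 0, ?_⟩)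
  · rw [D'.e_v, act_e0]
    apply ext2 <;> simp [Tens.e1, wy_val]
  · rw [D'.e_v, act_e0]
    apply ext2 <;> simp [Tens.e2, wy_val]

theorem VE' {i j k l : Option F} (hk : i ≠ k) (hl : j ≠ l) : V ≤ (V ⊓ QQ (D.R i j)) ⊔ D.R k l := by
  obtain ⟨D', m, A, B', T, T', S, S', hD, eR0, eR3, -⟩ := h.two hk hl
  rw [← eR0, ← eR3]
  exact hD.VE

/-- elements fixing the columns -/
theorem fixcol {i j : Option F} {x : G} (hx : x ∈ QQ (D.R i j)) (hc : ∀ l, cj x (D.R i l) = D.R i l) :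
    x ∈ N ∧ ∃ a, ∀ X, D.act x X = Tens.act (ua i a) 1 X := by
  obtain ⟨hxN, a, b, hab⟩ := h.QU hx
  obtain ⟨l, hl, -⟩ := exists_ne' j j h
  have h1 := (mv_mob h.hN hxN hab i l).cj_eq
  rw [hc l] at h1
  have hb := ua_fix hl.symm (R_inj h1).2.symm
  exact ⟨hxN, a, by rw [hb, ua_zero] at hab; exact hab⟩

theorem fixrow {i j : Option F} {x : G} (hx : x ∈ QQ (D.R i j)) (hc : ∀ k, cj x (D.R k j) = D.R k j) :
    x ∈ N ∧ ∃ b, ∀ X, D.act x X = Tens.act 1 (ua j b) X := by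
  obtain ⟨hxN, a, b, hab⟩ := h.QU hx
  obtain ⟨k, hk, -⟩ := exists_ne' i i h
  have h1 := (mv_mob h.hN hxN hab k j).cj_eq
  rw [hc k] at h1
  have ha := ua_fix hk.symm (R_inj h1).1.symm
  exact ⟨hxN, b, by rw [ha, ua_zero] at hab; exact hab⟩

theorem fixcol' {i : Option F} {x : G} (hxN : x ∈ N) {a : F} (hxA : ∀ X, D.act x X = Tens.act (ua i a) 1 X)
    (l : Option F) : cj x (D.R i l) = D.R i l := by
  have h1 := (mv_mob h.hN hxN hxA i l).cj_eq
  rwa [mob_ua_self, mob_one] at h1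

theorem fixrow' {j : Option F} {x : G} (hxN : x ∈ N) {b : F} (hxA : ∀ X, D.act x X = Tens.act 1 (ua j b) X)
    (k : Option F) : cj x (D.R k j) = D.R k j := by
  have h1 := (mv_mob h.hN hxN hxA k j).cj_eq
  rwa [mob_ua_self, mob_one] at h1

/-- root elements of the first factor in `⟨Q_kl⟩` -/
theorem gen₁ (A : SL F) (a : F) : ∃ g ∈ ⨆ k, ⨆ l, QQ (D.R k l), g ∈ N ∧
    ∀ X, D.act g X = Tens.act (A * up a * A⁻¹) 1 X := by
  obtain ⟨i, T, hT, e⟩ := exists_rep A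
  obtain ⟨g, hg, hgA⟩ := h.QU_surj i none (T.1 0 0 * T.1 0 0 * a) 0
  refine ⟨g, mem_iSup_of_mem i (mem_iSup_of_mem none hg), (h.QU hg).1, fun X => ?_⟩
  rw [hgA, conj_up_eq hT e, ua_zero]

theorem gen₂ (A : SL F) (a : F) : ∃ g ∈ ⨆ k, ⨆ l, QQ (D.R k l), g ∈ N ∧
    ∀ X, D.act g X = Tens.act 1 (A * up a * A⁻¹) X := by
  obtain ⟨i, T, hT, e⟩ := exists_rep A
  obtain ⟨g, hg, hgA⟩ := h.QU_surj none i 0 (T.1 0 0 * T.1 0 0 * a)
  refine ⟨g, mem_iSup_of_mem none (mem_iSup_of_mem i hg), (h.QU hg).1, fun X => ?_⟩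
  rw [hgA, conj_up_eq hT e, ua_zero]

theorem gen_mul {X1 X2 : Subgroup G} {A A' B B' : SL F} (hX : X1 = X2)
    (h1 : ∃ g ∈ X1, g ∈ N ∧ ∀ X, D.act g X = Tens.act A B X)
    (h2 : ∃ g ∈ X1, g ∈ N ∧ ∀ X, D.act g X = Tens.act A' B' X) :
    ∃ g ∈ X2, g ∈ N ∧ ∀ X, D.act g X = Tens.act (A * A') (B * B') X := by
  obtain ⟨g, hg, hgN, hgA⟩ := h1
  obtain ⟨g', hg', hgN', hgA'⟩ := h2
  subst hX
  exact ⟨g * g', mul_mem hg hg', mul_mem hgN hgN', fun X => by
    rw [act_mul h.hN hgN hgN', hgA, hgA', act_act]⟩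

/-- torus elements of the first factor -/
theorem gtor₁ (i : Option F) (l : Fˣ) : ∃ g ∈ ⨆ k, ⨆ l, QQ (D.R k l), g ∈ N ∧
    ∀ X, D.act g X = Tens.act (rep i * tor l * (rep i)⁻¹) 1 X := by
  have hu : ∀ a : F, ∃ g ∈ ⨆ k, ⨆ l, QQ (D.R k l), g ∈ N ∧
      ∀ X, D.act g X = Tens.act (rep i * up a * (rep i)⁻¹) 1 X := fun a => h.gen₁ _ a
  have hd : ∀ a : F, ∃ g ∈ ⨆ k, ⨆ l, QQ (D.R k l), g ∈ N ∧
      ∀ X, D.act g X = Tens.act (rep i * dn a * (rep i)⁻¹) 1 X := fun a => by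
    obtain ⟨g, h1, h2, h3⟩ := h.gen₁ (rep i * wy) a
    refine ⟨g, h1, h2, fun X => ?_⟩
    rw [h3, dn_eq]
    congr 1; group
  have h1 := h.gen_mul rfl (h.gen_mul rfl (h.gen_mul rfl (hu (l : F)) (hd ((l⁻¹ : Fˣ) : F))) (hu (l : F)))
    (h.gen_mul rfl (h.gen_mul rfl (hu 1) (hd 1)) (hu 1))
  obtain ⟨g, h2, h3, h4⟩ := h1
  refine ⟨g, h2, h3, fun X => ?_⟩
  rw [h4, ← tor_eq]
  congr 1
  · group
  · group

theorem gtor₂ (i : Option F) (l : Fˣ) : ∃ g ∈ ⨆ k, ⨆ l, QQ (D.R k l), g ∈ N ∧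
    ∀ X, D.act g X = Tens.act 1 (rep i * tor l * (rep i)⁻¹) X := by
  have hu : ∀ a : F, ∃ g ∈ ⨆ k, ⨆ l, QQ (D.R k l), g ∈ N ∧
      ∀ X, D.act g X = Tens.act 1 (rep i * up a * (rep i)⁻¹) X := fun a => h.gen₂ _ a
  have hd : ∀ a : F, ∃ g ∈ ⨆ k, ⨆ l, QQ (D.R k l), g ∈ N ∧
      ∀ X, D.act g X = Tens.act 1 (rep i * dn a * (rep i)⁻¹) X := fun a => by
    obtain ⟨g, h1, h2, h3⟩ := h.gen₂ (rep i * wy) a
    refine ⟨g, h1, h2, fun X => ?_⟩
    rw [h3, dn_eq]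
    congr 1; group
  have h1 := h.gen_mul rfl (h.gen_mul rfl (h.gen_mul rfl (hu (l : F)) (hd ((l⁻¹ : Fˣ) : F))) (hu (l : F)))
    (h.gen_mul rfl (h.gen_mul rfl (hu 1) (hd 1)) (hu 1))
  obtain ⟨g, h2, h3, h4⟩ := h1
  refine ⟨g, h2, h3, fun X => ?_⟩
  rw [h4, ← tor_eq]
  congr 1
  · group
  · group

theorem tor_ua (i : Option F) (l : Fˣ) (a : F) :
    rep i * tor l * (rep i)⁻¹ * ua i a * (rep i * tor l * (rep i)⁻¹)⁻¹ * (ua i a)⁻¹ =
      ua i ((l * l + 1) * a) := by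
  have _ := h
  rw [ua_inv, ua, ua]
  have e1 : rep i * tor l * (rep i)⁻¹ * (rep i * up a * (rep i)⁻¹) * (rep i * tor l * (rep i)⁻¹)⁻¹ *
      (rep i * up a * (rep i)⁻¹) = rep i * (tor l * up a * (tor l)⁻¹ * up a) * (rep i)⁻¹ := by group
  rw [e1, tor_up, mul_inv_cancel_right, ← up_add, add_mul, one_mul]

theorem tor₁ (i j : Option F) : ∃ g ∈ ⨆ k, ⨆ l, QQ (D.R k l), (∀ l, cj g (D.R i l) = D.R i l) ∧
    ∀ x ∈ QQ (D.R i j), (∀ l, cj x (D.R i l) = D.R i l) → ∃ z ∈ QQ (D.R i j), (∀ l, cj z (D.R i l) = D.R i l) ∧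
      x⁻¹ * (g * z * g⁻¹ * z⁻¹) ∈ centralizer (V : Set G) := by
  obtain ⟨t, ht0, ht1⟩ := h.three
  set l : Fˣ := Units.mk0 t ht0 with hl
  have hlt : (l : F) = t := rfl
  obtain ⟨g, hg, hgN, hgA⟩ := h.gtor₁ i l
  have hll : (l : F) * l + 1 ≠ 0 := fun e => ht1 (eq_one_of_sq (CharTwo.add_eq_zero.1 e))
  refine ⟨g, hg, fun m => ?_, fun x hx hxc => ?_⟩
  · have h1 := (mv_mob h.hN hgN hgA i m).cj_eq
    have h2 : mob (rep i * tor l * (rep i)⁻¹) i = i :=
      mob_eq (T := tor l) (by simp [Bo, tor_val]) (by group)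
    rwa [h2, mob_one] at h1
  · obtain ⟨hxN, a, hxA⟩ := h.fixcol hx hxc
    obtain ⟨z, hz, hzA⟩ := h.QU_surj i j (a / (l * l + 1)) 0
    rw [ua_zero] at hzA
    have hzN := (h.QU hz).1
    refine ⟨z, hz, fun m => h.fixcol' hzN hzA m, ?_⟩
    have hgz : g * z * g⁻¹ * z⁻¹ ∈ N := mul_mem (mul_mem (mul_mem hgN hzN) (inv_mem hgN)) (inv_mem hzN)
    rw [← act_one_iff (D := D) h.hN (mul_mem (inv_mem hxN) hgz)]
    intro X
    rw [act_mul h.hN (inv_mem hxN) hgz, act_mul h.hN (mul_mem (mul_mem hgN hzN) (inv_mem hgN)) (inv_mem hzN),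
      act_mul h.hN (mul_mem hgN hzN) (inv_mem hgN), act_mul h.hN hgN hzN, act_inv_of h.hN hxN hxA,
      act_inv_of h.hN hgN hgA, act_inv_of h.hN hzN hzA, hgA, hzA, act_act, act_act, act_act, act_act]
    have e1 : (ua i a)⁻¹ * (rep i * tor l * (rep i)⁻¹) * ua i (a / (l * l + 1)) *
        (rep i * tor l * (rep i)⁻¹)⁻¹ * (ua i (a / (l * l + 1)))⁻¹ = 1 := by
      have := h.tor_ua i l (a / (l * l + 1))
      rw [mul_div_cancel₀ _ hll] at this
      rw [mul_assoc, mul_assoc, mul_assoc, inv_mul_eq_one, ← this]; group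
    simp only [inv_one, mul_one]
    rw [e1, act_one]

theorem tor₂ (i j : Option F) : ∃ g ∈ ⨆ k, ⨆ l, QQ (D.R k l), (∀ k, cj g (D.R k j) = D.R k j) ∧
    ∀ x ∈ QQ (D.R i j), (∀ k, cj x (D.R k j) = D.R k j) → ∃ z ∈ QQ (D.R i j), (∀ k, cj z (D.R k j) = D.R k j) ∧
      x⁻¹ * (g * z * g⁻¹ * z⁻¹) ∈ centralizer (V : Set G) := by
  obtain ⟨t, ht0, ht1⟩ := h.three
  set l : Fˣ := Units.mk0 t ht0 with hl
  have hlt : (l : F) = t := rfl
  obtain ⟨g, hg, hgN, hgA⟩ := h.gtor₂ j l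
  have hll : (l : F) * l + 1 ≠ 0 := fun e => ht1 (eq_one_of_sq (CharTwo.add_eq_zero.1 e))
  refine ⟨g, hg, fun m => ?_, fun x hx hxc => ?_⟩
  · have h1 := (mv_mob h.hN hgN hgA m j).cj_eq
    have h2 : mob (rep j * tor l * (rep j)⁻¹) j = j :=
      mob_eq (T := tor l) (by simp [Bo, tor_val]) (by group)
    rwa [h2, mob_one] at h1
  · obtain ⟨hxN, a, hxA⟩ := h.fixrow hx hxc
    obtain ⟨z, hz, hzA⟩ := h.QU_surj i j 0 (a / (l * l + 1))
    rw [ua_zero] at hzA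
    have hzN := (h.QU hz).1
    refine ⟨z, hz, fun m => h.fixrow' hzN hzA m, ?_⟩
    have hgz : g * z * g⁻¹ * z⁻¹ ∈ N := mul_mem (mul_mem (mul_mem hgN hzN) (inv_mem hgN)) (inv_mem hzN)
    rw [← act_one_iff (D := D) h.hN (mul_mem (inv_mem hxN) hgz)]
    intro X
    rw [act_mul h.hN (inv_mem hxN) hgz, act_mul h.hN (mul_mem (mul_mem hgN hzN) (inv_mem hgN)) (inv_mem hzN),
      act_mul h.hN (mul_mem hgN hzN) (inv_mem hgN), act_mul h.hN hgN hzN, act_inv_of h.hN hxN hxA,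
      act_inv_of h.hN hgN hgA, act_inv_of h.hN hzN hzA, hgA, hzA, act_act, act_act, act_act, act_act]
    have e1 : (ua j a)⁻¹ * (rep j * tor l * (rep j)⁻¹) * ua j (a / (l * l + 1)) *
        (rep j * tor l * (rep j)⁻¹)⁻¹ * (ua j (a / (l * l + 1)))⁻¹ = 1 := by
      have := h.tor_ua j l (a / (l * l + 1))
      rw [mul_div_cancel₀ _ hll] at this
      rw [mul_assoc, mul_assoc, mul_assoc, inv_mul_eq_one, ← this]; group
    simp only [inv_one, mul_one]
    rw [e1, act_one]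

/-- **The structure `Grid`.** -/
theorem grid (meet : ∀ W : Subgroup G, IsPGroup 2 W → W ≤ N →
    (∀ m ∈ N, ∀ y ∈ W, m * y * m⁻¹ ∈ W) → W ⊓ V = ⊥ → W = ⊥) :
    Grid V (fun i j => D.R i j) (fun i j => QQ (D.R i j)) where
  comm a ha b hb := D.comm ha hb
  V_sq a ha := D.sq ha
  R_le i j := RA_le _ _
  ne i j := R_ne_bot i j
  row i j l := h.row_le i j l
  col i k j := h.col_le i k j
  disj i j k l hd := R_disj hd
  QQ i j := (h.mo meet).QQ (i, j)
  Qsq i j := (h.mo meet).Qsq (i, j)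
  RQ i j := (h.mo meet).RQ (i, j)
  cen i j := (h.mo meet).cen (i, j)
  Q_V i j := (h.mo meet).Q_V (i, j)
  conj y i j k l he := (Mv.of_cj he).QQ.cj_eq
  perm i j y hy := by
    obtain ⟨hyN, a, b, hab⟩ := h.QU hy
    exact ⟨mob (ua i a), mob (ua j b), mob_ua_self i a, mob_ua_self j b, fun k l =>
      (mv_mob h.hN hyN hab k l).cj_eq⟩
  fix i j k l hk hl y hy he := (h.mo meet).fixj (i, j) (k, l) ⟨hk.symm, hl.symm⟩ y hy he
  tran i j k l k' l' hk hk' hl hl' := by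
    obtain ⟨y, hy, h1⟩ := h.tran hk.symm hl.symm hk'.symm hl'.symm
    exact ⟨y, hy, h1.cj_eq⟩
  meet i j k l hk hl := h.meet_le meet hk.symm hl.symm
  RQj i j k l hk hl := (h.mo meet).RQj (i, j) (k, l) ⟨hk.symm, hl.symm⟩
  VE₁ i j l hjl := by
    obtain ⟨k, hk, -⟩ := exists_ne' i i h
    refine (h.VE' hk hjl).trans (sup_le_sup_left (le_inf (RA_le _ _) (h.col_le k i l)) _)
  VE₂ i k j hik := by
    obtain ⟨l, hl, -⟩ := exists_ne' j j h
    refine (h.VE' hik hl).trans (sup_le_sup_left (le_inf (RA_le _ _) (h.row_le k l j)) _)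
  VE i j k l hik hjl := (h.VE' hik hjl).trans (sup_le_sup_left (le_inf (RA_le _ _) (h.row_le k l l)) _)
  EE i j k l hk hl := h.EE hk hl
  threeI i k := by
    obtain ⟨c, h1, h2⟩ := exists_ne' i k h
    exact ⟨c, h1.symm, h2⟩
  threeJ i k := by
    obtain ⟨c, h1, h2⟩ := exists_ne' i k h
    exact ⟨c, h1.symm, h2⟩
  act₁ i j j' x hx hxc := by
    obtain ⟨hxN, a, hxA⟩ := h.fixcol hx hxc
    obtain ⟨y, hy, hyA⟩ := h.QU_surj i j' a 0
    rw [ua_zero] at hyA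
    have hyN := (h.QU hy).1
    refine ⟨y, hy, fun l => h.fixcol' hyN hyA l, ?_⟩
    rw [← act_one_iff (D := D) h.hN (mul_mem (inv_mem hyN) hxN)]
    intro X
    rw [act_mul h.hN (inv_mem hyN) hxN, hxA, act_inv_of h.hN hyN hyA, Tens.act_inv_act]
  act₂ j i i' x hx hxc := by
    obtain ⟨hxN, a, hxA⟩ := h.fixrow hx hxc
    obtain ⟨y, hy, hyA⟩ := h.QU_surj i' j 0 a
    rw [ua_zero] at hyA
    have hyN := (h.QU hy).1
    refine ⟨y, hy, fun l => h.fixrow' hyN hyA l, ?_⟩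
    rw [← act_one_iff (D := D) h.hN (mul_mem (inv_mem hyN) hxN)]
    intro X
    rw [act_mul h.hN (inv_mem hyN) hxN, hxA, act_inv_of h.hN hyN hyA, Tens.act_inv_act]
  tor₁ i j := h.tor₁ i j
  tor₂ i j := h.tor₂ i j

end Cx

end Cfsg.Agent.Omega.NO1.PlusQ

end

section


/-!
# Type (γ) of the leaf N1: `T1`, `T2` and products (helper914)
-/

set_option autoImplicit false
set_option linter.unusedSectionVars false

namespace Cfsg.Agent.Omega.NO1.Tens

variable {F : Type} [Field F] {γ δ : M2 F → M2 F}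

theorem T11 (h : T1 γ) (h' : T1 δ) : T1 (fun X => γ (δ X)) := by
  constructor
  · intro A
    obtain ⟨A', h1⟩ := h'.1 A
    obtain ⟨A'', h2⟩ := h.1 A'
    exact ⟨A'', fun X => by beta_reduce; rw [h1, h2]⟩
  · intro A
    obtain ⟨A', h1⟩ := h'.2 A
    obtain ⟨A'', h2⟩ := h.2 A'
    exact ⟨A'', fun X => by beta_reduce; rw [h1, h2]⟩

theorem T12 (h : T1 γ) (h' : T2 δ) : T2 (fun X => γ (δ X)) := by
  constructor
  · intro A
    obtain ⟨A', h1⟩ := h'.1 A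
    obtain ⟨A'', h2⟩ := h.2 A'
    exact ⟨A'', fun X => by beta_reduce; rw [h1, h2]⟩
  · intro A
    obtain ⟨A', h1⟩ := h'.2 A
    obtain ⟨A'', h2⟩ := h.1 A'
    exact ⟨A'', fun X => by beta_reduce; rw [h1, h2]⟩

theorem T21 (h : T2 γ) (h' : T1 δ) : T2 (fun X => γ (δ X)) := by
  constructor
  · intro A
    obtain ⟨A', h1⟩ := h'.1 A
    obtain ⟨A'', h2⟩ := h.1 A'
    exact ⟨A'', fun X => by beta_reduce; rw [h1, h2]⟩
  · intro A
    obtain ⟨A', h1⟩ := h'.2 A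
    obtain ⟨A'', h2⟩ := h.2 A'
    exact ⟨A'', fun X => by beta_reduce; rw [h1, h2]⟩

theorem T22 (h : T2 γ) (h' : T2 δ) : T1 (fun X => γ (δ X)) := by
  constructor
  · intro A
    obtain ⟨A', h1⟩ := h'.1 A
    obtain ⟨A'', h2⟩ := h.2 A'
    exact ⟨A'', fun X => by beta_reduce; rw [h1, h2]⟩
  · intro A
    obtain ⟨A', h1⟩ := h'.2 A
    obtain ⟨A'', h2⟩ := h.1 A'
    exact ⟨A'', fun X => by beta_reduce; rw [h1, h2]⟩

theorem T2_iter (h : T2 γ) (k : ℕ) : T2 (γ^[2 * k + 1]) := by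
  induction k with
  | zero => simpa using h
  | succ k ih =>
    have e : γ^[2 * (k + 1) + 1] = fun X => γ^[2 * k + 1] (γ (γ X)) := by
      have e1 : 2 * (k + 1) + 1 = (2 * k + 1) + 1 + 1 := by ring
      rw [e1, Function.iterate_succ, Function.iterate_succ]; rfl
    rw [e]
    exact T21 ih (T22 h h)

end Cfsg.Agent.Omega.NO1.Tens

namespace Cfsg.Agent.Omega.NO1.PlusQ

open Subgroup Cfsg Matrix
open Cfsg.Agent.Omega.NO1.Tens
open Cfsg.Agent.Omega.NO1.BetaPlus (Mv QQ)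

universe u

variable {G : Type u} [Group G] {F : Type} [Field F] {N V : Subgroup G} {D : PlusQ F N V} [CharP F 2]

section

variable (hN : ∀ m ∈ N, Mv m V V) {t : F} (ht0 : t ≠ 0) (ht1 : t ≠ 1)
include hN

theorem act_one_eq (X : M2 F) : D.act 1 X = X := by
  have _ := hN
  rw [act]
  have e : 1 * D.v X * (1 : G)⁻¹ = D.v X := by group
  rw [e, D.e_v]

theorem act_conj {g s : G} (hg : g ∈ N) (hs : s ∈ N) : D.act (g * s * g⁻¹) = fun X =>
    D.act g (D.act s (D.act g⁻¹ X)) := by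
  funext X
  rw [act_mul hN (mul_mem hg hs) (inv_mem hg), act_mul hN hg hs]

include ht0 ht1

/-- conjugates of `T2`-elements -/
theorem T2_conj {g s : G} (hg : g ∈ N) (hs : s ∈ N) (h : T2 (D.act s)) : T2 (D.act (g * s * g⁻¹)) := by
  rw [act_conj hN hg hs]
  have hm := nm (D := D) hN hg
  rcases hm.dich ht0 ht1 with hT | hT
  · exact T12 hT (T21 h (hm.T1_symm hT))
  · exact T21 hT (T22 h (hm.T2_symm hT))

/-- `U₀` is normalised by the stabiliser of the point `0` -/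
theorem U_conj {g x : G} (hg : g ∈ N) (hx : x ∈ N) (h0 : ∀ x, ∃ y, D.act g (e0 x) = e0 y) {a b : F}
    (h : ∀ X, D.act x X = Tens.act (up a) (up b) X) :
    ∃ a' b', ∀ X, D.act (g * x * g⁻¹) X = Tens.act (up a') (up b') X := by
  have hm := nm (D := D) hN hg
  rcases hm.dich ht0 ht1 with hT | hT
  · obtain ⟨a', h1⟩ := hm.un1_left hT h0 a
    obtain ⟨b', h2⟩ := hm.un1_right hT h0 b
    refine ⟨a', b', fun X => ?_⟩
    rw [act_conj hN hg hx]
    show D.act g (D.act x (D.act g⁻¹ X)) = _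
    rw [h, act_split, h1, h2, hm.right, ← act_split]
  · obtain ⟨a', h1⟩ := hm.un2_left hT h0 a
    obtain ⟨b', h2⟩ := hm.un2_right hT h0 b
    refine ⟨b', a', fun X => ?_⟩
    rw [act_conj hN hg hx]
    show D.act g (D.act x (D.act g⁻¹ X)) = _
    rw [h, act_split, h1, h2, hm.right, ← act_split']

end

end Cfsg.Agent.Omega.NO1.PlusQ

end
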