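import Cfsg.Agent.Mrg.Omega.NO1.Tens.Loc
import Cfsg.Agent.Mrg.Omega.NO1.Tens.MoInst
import Cfsg.Agent.Mrg.Omega.NO1.Gamma.OfCore


/-!
# Type (γ) of the leaf N1: `All.NOne.Core` and `Gamma.Gin1` (helper983)

From `Cx D`, no normal 2-subgroup `≠ 1` of `N` meets `V` trivially, `V ≤ S ≤ N`, `S ≤ N_G(R₀)`, `Ω₁(Z(S)) ≤ R₀`, `|F| ≥ 4`.
-/

set_option autoImplicit false
set_option linter.unusedSectionVars false

namespace Cfsg.Agent.Omega.NO1.PlusQ

open Subgroup Cfsg Matrix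
open Cfsg.Agent.Omega.NO1.Tens
open Cfsg.Agent.Omega.NO1.BetaPlus (Mv QQ Bp)
open Cfsg.Agent.Omega.NO1.Beta.Meet (cj mem_cj cj_of_mem_normalizer)
open Cfsg.Agent.ZN (o2 zc)

universe u

variable {G : Type u} [Group G] {F : Type} [Field F] {N V : Subgroup G}

/-- the form -/
theorem form [CharP F 2] (h4 : 4 ≤ Nat.card F) : All.NOne.Form F (F × F) (fun b => b.1 * b.2)
    (fun b c => b.1 * c.2 + b.2 * c.1) where
  F2 a := CharTwo.add_self_eq_zero a
  four := h4
  B_self b := by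
    have e : b.1 * b.2 + b.2 * b.1 = b.1 * b.2 + b.1 * b.2 := by ring
    rw [e, CharTwo.add_self_eq_zero]
  B_add b b' c := by simp only [Prod.fst_add, Prod.snd_add]; ring
  B_symm b c := by ring
  B_smul s b c := by simp only [Prod.smul_fst, Prod.smul_snd, smul_eq_mul]; ring
  B_span b c hb h := by
    have h' : b.1 * c.2 = b.2 * c.1 := CharTwo.add_eq_zero.1 h
    by_cases hb1 : b.1 = 0
    · have hb2 : b.2 ≠ 0 := fun hb2 => hb (Prod.ext hb1 hb2)
      rw [hb1, zero_mul] at h'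
      have hc1 : c.1 = 0 := (mul_eq_zero.1 h'.symm).resolve_left hb2
      refine ⟨c.2 / b.2, Prod.ext ?_ ?_⟩
      · simp [hb1, hc1]
      · simp [hb2]
    · refine ⟨c.1 / b.1, Prod.ext ?_ ?_⟩
      · simp [hb1]
      · simp only [Prod.smul_snd, smul_eq_mul]
        field_simp
        linear_combination h'
  B_surj b hb f := by
    by_cases hb1 : b.1 = 0
    · have hb2 : b.2 ≠ 0 := fun hb2 => hb (Prod.ext hb1 hb2)
      exact ⟨(f / b.2, 0), by simp [hb1, mul_div_cancel₀ _ hb2]⟩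
    · exact ⟨(0, f / b.1), by simp [mul_div_cancel₀ _ hb1]⟩
  N_add b c := by simp only [Prod.fst_add, Prod.snd_add]; ring
  N_smul s b := by simp only [Prod.smul_fst, Prod.smul_snd, smul_eq_mul]; ring
  N_surj f := ⟨(f, 1), by simp⟩

variable {D : PlusQ F N V} [CharP F 2]

theorem cE_add (a a' : F) (b b' : F × F) (d d' : F) :
    D.cE (a + a') (b + b') (d + d') = D.cE a b d * D.cE a' b' d' := by
  rw [cE, cE, cE, ← D.v_add]
  congr 1
  apply ext2 <;> simp

/-- `act (dn s) (dn t)` in coordinates -/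
theorem act_dn (s t : F) (X : M2 F) : Tens.act (dn s) (dn t) X =
    !![X 0 0, X 0 1 + t * X 0 0; X 1 0 + s * X 0 0, X 1 1 + s * X 0 1 + t * X 1 0 + s * t * X 0 0] := by
  apply ext2 <;> rw [act_apply, dn_val, dn_val] <;> simp <;> ring

namespace Cx

variable [Finite G] [Finite F] (h : Cx D)
include h

theorem conj_v_eq {x : G} (hx : x ∈ N) {X Y : M2 F} (h1 : D.act x X = Y) : x * D.v X * x⁻¹ = D.v Y := by
  rw [conj_eq_iff (D := D) h.hN hx (D.v_mem _) (D.v_mem _), D.e_v, D.e_v]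
  exact h1

theorem Q3_N {y : G} (hy : y ∈ QQ D.R3) : y ∈ N := by
  rw [← R_zero] at hy
  exact (h.QU hy).1

theorem mem_R0_iff {r : G} : r ∈ D.R0 ↔ ∃ a, D.cE a 0 0 = r := by
  have _ := h
  constructor
  · rintro ⟨hr, c, hc⟩
    refine ⟨c, D.e_inj (D.cE_mem _ _ _) hr ?_⟩
    rw [D.e_cE, hc]
    rfl
  · rintro ⟨a, rfl⟩
    exact ⟨D.cE_mem _ _ _, a, by rw [D.e_cE]; rfl⟩

variable (meet : ∀ W : Subgroup G, IsPGroup 2 W → W ≤ N →
    (∀ m ∈ N, ∀ y ∈ W, m * y * m⁻¹ ∈ W) → W ⊓ V = ⊥ → W = ⊥)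
  (S : Sylow 2 G) (hVS : V ≤ (S : Subgroup G)) (hSN : (S : Subgroup G) ≤ N)
  (hSR : (S : Subgroup G) ≤ normalizer (D.R0 : Set G)) (hZR : zc (S : Subgroup G) ≤ D.R0) (h4 : 4 ≤ Nat.card F)
include meet hVS hSN hSR hZR h4

/-- **`Core` for type (γ)**, base point `R0`. -/
theorem core0 : All.NOne.Core (S : Subgroup G) V D.R0 (QQ D.R0) (⨆ i, ⨆ j, QQ (D.R i j)) D.cE
    (fun b => b.1 * b.2) (fun b c => b.1 * c.2 + b.2 * c.1) where
  form := form h4
  e_add a b d a' b' d' := cE_add a a' b b' d d'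
  e_inj a b d e := by
    have h1 := congrArg D.e e
    rw [D.e_cE, D.e_one] at h1
    have h00 := congrFun (congrFun h1 0) 0
    have h01 := congrFun (congrFun h1 0) 1
    have h10 := congrFun (congrFun h1 1) 0
    have h11 := congrFun (congrFun h1 1) 1
    simp at h00 h01 h10 h11
    exact ⟨h00, Prod.ext h01 h10, h11⟩
  e_mem a b d := D.cE_mem a b d
  e_surj x hx := by
    refine ⟨D.e x 0 0, (D.e x 0 1, D.e x 1 0), D.e x 1 1, D.e_inj (D.cE_mem _ _ _) hx ?_⟩
    rw [D.e_cE]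
    apply ext2 <;> simp
  R_iff r := h.mem_R0_iff
  E_le a b := by
    rw [h.mem_E (D.cE_mem _ _ _), D.e_cE]; simp
  V_Q a b d hd := by
    rw [h.mem_E (D.cE_mem _ _ _), D.e_cE] at hd
    simpa using hd
  act y hy := by
    refine ⟨(D.al y, D.be y), fun a b d => ?_⟩
    rw [conj_eq_iff (D := D) h.hN (h.Q_N hy) (D.cE_mem _ _ _) (D.cE_mem _ _ _), D.e_cE, D.e_cE, h.act_y hy, act_up]
    apply ext2
    · simp; ring
    · simp; ring
    · simp; ring
    · simp
  act_surj c := by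
    obtain ⟨y, hy, e1, e2⟩ := h.al_surj c.1 c.2
    refine ⟨y, hy, fun a b d => ?_⟩
    rw [conj_eq_iff (D := D) h.hN (h.Q_N hy) (D.cE_mem _ _ _) (D.cE_mem _ _ _), D.e_cE, D.e_cE, h.act_y hy, act_up,
      e1, e2]
    apply ext2
    · simp; ring
    · simp; ring
    · simp; ring
    · simp
  Q_eq := rfl
  Q_cen y hy := by
    rw [mem_centralizer_iff]
    exact fun r hr => h.RQ hr hy
  QQ x hx y hy := by
    have h1 := (h.grid meet).QQ none none
    simp only [R_none] at h1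
    exact h1 x hx y hy
  semi w hw hwR r hr := by
    have h1 := ((bp h meet).result (none, none)).2.2.2.2
    simp only [R_none] at h1
    obtain ⟨n, hn, h2⟩ := h1 w⁻¹ (inv_mem hw) (fun h3 => hwR (by simpa using inv_mem h3)) r hr
    refine ⟨n⁻¹, inv_mem hn, ?_⟩
    rw [← h2]; group
  Q_gen Y hY := by
    have h1 := ((bp h meet).result (none, none)).1
    simp only [R_none] at h1
    rw [h1]
    refine Cfsg.Agent.Omega.NOne.BetaTwo.DOne.nc_le ?_
    rintro c hc w ⟨hwV, hwQ⟩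
    have e : w = D.cE (D.e w 0 0) (D.e w 0 1, D.e w 1 0) 0 := by
      refine D.e_inj hwV (D.cE_mem _ _ _) ?_
      rw [D.e_cE]
      have := (h.mem_E hwV).1 hwQ
      apply ext2 <;> simp [this]
    rw [e]
    exact hY c hc _ _
  X_V := (h.grid meet).sup_nor
  Q_X := by
    have h1 : QQ (D.R none none) ≤ ⨆ i, ⨆ j, QQ (D.R i j) :=
      le_iSup_of_le (f := fun i => ⨆ j, QQ (D.R i j)) none (le_iSup (fun j => QQ (D.R none j)) none)
    rwa [R_none] at h1
  opp b _ := by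
    obtain ⟨y, hy, hyA⟩ := h.dn_surj b.2 b.1
    have h1 : QQ (D.R (some 0) (some 0)) ≤ ⨆ i, ⨆ j, QQ (D.R i j) :=
      le_iSup_of_le (f := fun i => ⨆ j, QQ (D.R i j)) (some 0) (le_iSup (fun j => QQ (D.R (some 0) j)) (some 0))
    rw [R_zero] at h1
    refine ⟨y, h1 hy, fun a z d => ?_⟩
    rw [conj_eq_iff (D := D) h.hN (h.Q3_N hy) (D.cE_mem _ _ _) (D.cE_mem _ _ _), D.e_cE, D.e_cE, hyA, act_dn]
    apply ext2
    · simp
    · simp; ring
    · simp; ring
    · simp; ring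
  tran r hr hr1 r' hr' hr1' := by
    obtain ⟨hrV, c, hc⟩ := hr
    obtain ⟨hrV', c', hc'⟩ := hr'
    have hc0 : c ≠ 0 := by
      rintro rfl
      exact hr1 (D.ker r hrV (by rw [hc, e0_zero]))
    have hc0' : c' ≠ 0 := by
      rintro rfl
      exact hr1' (D.ker r' hrV' (by rw [hc', e0_zero]))
    obtain ⟨n, hn, hnA⟩ := lift_act (D := D) h.hN (tor (Units.mk0 _ (div_ne_zero hc0' hc0))) (tor 1)
    refine ⟨n, (h.hN n hn).mem_nor, ((fix_iff h.hN hn).2 fun x => ⟨_, by rw [hnA, act_tor_e0]⟩).mem_nor, ?_⟩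
    rw [conj_eq_iff (D := D) h.hN hn hrV hrV', hc, hc', hnA, act_tor_e0]
    congr 1
    simp
    field_simp
  V_S := hVS
  S_V x hx := (h.hN x (hSN hx)).mem_nor
  S_R := hSR
  Z_R := hZR
  triv := h.s_triv S hSN hSR
  quo := h.s_quo S hSN hSR
  two := h.s_two S hSN hSR
  cenE := h.s_cenE S hSN hSR
  bas := h.s_bas S hSN hSR
  ns := h.s_ns S hSN hSR

theorem core : All.NOne.Core (S : Subgroup G) V (D.R none none) (QQ (D.R none none)) (⨆ i, ⨆ j, QQ (D.R i j))
    (fun a (b : F × F) d => D.v !![a, b.1; b.2, d]) (fun b => b.1 * b.2) (fun b c => b.1 * c.2 + b.2 * c.1) := by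
  have h1 := h.core0 meet S hVS hSN hSR hZR h4
  rw [R_none]
  exact h1

omit meet hVS hSR hZR h4 in
theorem mem_row {l : Option F} {w : G} (hw : w ∈ D.R none l) : D.e w 1 0 = 0 ∧ D.e w 1 1 = 0 := by
  have _ := h
  have _ := hSN
  obtain ⟨-, c, hc⟩ := hw
  rw [hc, act_e0, rep_none]
  simp

/-- **`Gin1`** -/
theorem gin1 : Gamma.Gin1 F S V (fun i j => D.R i j) (fun i j => QQ (D.R i j)) none (some 0) none (some 0)
    (fun a b c d => D.v !![a, b; c, d]) D.al D.be where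
  grid := h.grid meet
  hi := by simp
  hj := by simp
  core := h.core meet S hVS hSN hSR hZR h4
  R01 x := by
    constructor
    · rintro ⟨hx, c, hc⟩
      refine ⟨c, D.e_inj hx (D.v_mem _) ?_⟩
      rw [hc, D.e_v, act_e0, rep_none, rep_zero, wy_val]
      apply ext2 <;> simp
    · rintro ⟨b, rfl⟩
      refine ⟨D.v_mem _, b, ?_⟩
      rw [D.e_v, act_e0, rep_none, rep_zero, wy_val]
      apply ext2 <;> simp
  R10 x := by
    constructor
    · rintro ⟨hx, c, hc⟩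
      refine ⟨c, D.e_inj hx (D.v_mem _) ?_⟩
      rw [hc, D.e_v, act_e0, rep_none, rep_zero, wy_val]
      apply ext2 <;> simp
    · rintro ⟨b, rfl⟩
      refine ⟨D.v_mem _, b, ?_⟩
      rw [D.e_v, act_e0, rep_none, rep_zero, wy_val]
      apply ext2 <;> simp
  R11 x := by
    constructor
    · rintro ⟨hx, c, hc⟩
      refine ⟨c, D.e_inj hx (D.v_mem _) ?_⟩
      rw [hc, D.e_v, act_e0, rep_zero, wy_val]
      apply ext2 <;> simp
    · rintro ⟨b, rfl⟩
      refine ⟨D.v_mem _, b, ?_⟩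
      rw [D.e_v, act_e0, rep_zero, wy_val]
      apply ext2 <;> simp
  act x hx a b c d := by
    simp only [R_none] at hx
    apply h.conj_v_eq (h.Q_N hx)
    rw [h.act_y hx, act_up]
    apply ext2
    · simp; ring
    · simp
    · simp
    · simp
  act' s t := by
    obtain ⟨y, hy, hyA⟩ := h.dn_surj s t
    refine ⟨y, by rw [R_zero]; exact hy, fun a b c d => ?_⟩
    apply h.conj_v_eq (h.Q3_N hy)
    rw [hyA, act_dn]
    apply ext2 <;> simp
  tor y hy := by
    obtain ⟨n, hn, hnA⟩ := lift_act (D := D) h.hN (Tens.tor (Units.mk0 y hy)) (Tens.tor (Units.mk0 y hy)⁻¹)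
    refine ⟨n, (h.hN n hn).mem_nor, fun a b c d => ?_⟩
    apply h.conj_v_eq hn
    rw [hnA, act_tor]
    apply ext2
    · simp [hy]
    · simp [pow_two]
    · simp [pow_two]
    · simp [hy]
  swap := by
    obtain ⟨t, ht0, ht1⟩ := h.three
    obtain ⟨s, hs, hT⟩ := h.s_swap S hSN
    refine ⟨s, hs, ?_⟩
    have h1 : ∀ i j, ∃ k l, cj s (D.R i j) = D.R k l := by
      intro i j
      obtain ⟨k, l, h2⟩ := h.perm (hSN hs) i j
      exact ⟨k, l, h2.cj_eq⟩
    rcases (h.grid meet).norm_of h1 with ⟨σ, τ, h2⟩ | h2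
    · exfalso
      have h3 := h2 none none
      rw [R_none, cj_of_mem_normalizer (hSR hs), ← R_none] at h3
      obtain ⟨h4', -⟩ := R_inj h3
      have h0 := (fix_iff h.hN (hSN hs)).1 (Mv.of_nor (hSR hs))
      obtain ⟨a, P, hP, hP0, hsP⟩ := (nm (D := D) h.hN (hSN hs)).swap_e1 ht0 ht1 h0 hT
      have h5 : D.v (Tens.e1 1) ∈ D.R none (some 0) := by
        refine ⟨D.v_mem _, 1, ?_⟩
        rw [D.e_v, act_e0, rep_none, rep_zero, wy_val]
        apply ext2 <;> simp [Tens.e1]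
      have h6 : s * D.v (Tens.e1 1) * s⁻¹ ∈ D.R none (τ (some 0)) := by
        have := h2 none (some 0)
        rw [← h4'] at this
        exact Gamma.mem_of_cj this h5
      have h7 := (h.mem_row S hSN h6).1
      rw [← act_e h.hN (hSN hs) (D.v_mem _), D.e_v, hsP] at h7
      simp [e2, e0] at h7
      exact one_ne_zero (hP.1 (h7.trans hP0.symm))
    · exact h2

end Cx

end Cfsg.Agent.Omega.NO1.PlusQ
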