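import Cfsg.Agent.Mrg.Omega.NO1.Types
import Cfsg.Agent.Mrg.Omega.NO1.Tens.Basic
import Cfsg.Agent.Mrg.Omega.NO1.BetaPlus.Abs

section


/-!
# Type (γ) of the leaf N1: from `PlusQ F N V` to the matrices (helper914)

`D.v X ∈ V` has matrix `X`; `D.act g X = e (g v(X) g⁻¹)` for `g ∈ N`; `D.R0`, `D.R3` : the points `F E₁₁`, `F E₂₂`;
`D.conj m` : the coordinates conjugated by `m ∈ N`.
-/

set_option autoImplicit false
set_option linter.unusedSectionVars false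

namespace Cfsg.Agent.Omega.NO1.PlusQ

open Subgroup Cfsg Matrix
open Cfsg.Agent.Omega.NO1.Tens
open Cfsg.Agent.Omega.NO1.BetaPlus (Mv QQ)

universe u

variable {G : Type u} [Group G] {F : Type} [Field F] {N V : Subgroup G}

variable (D : PlusQ F N V)

theorem e_one : D.e 1 = 0 := by
  have := D.mul 1 (one_mem _) 1 (one_mem _)
  rw [one_mul] at this
  exact left_eq_add.1 this

theorem e_inj {x y : G} (hx : x ∈ V) (hy : y ∈ V) (h : D.e x = D.e y) : x = y := by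
  have h1 := D.mul (x * y⁻¹) (mul_mem hx (inv_mem hy)) y hy
  rw [inv_mul_cancel_right, h] at h1
  have h2 := D.ker _ (mul_mem hx (inv_mem hy)) (right_eq_add.1 h1)
  exact mul_inv_eq_one.1 h2

theorem e_inv {x : G} (hx : x ∈ V) : D.e x⁻¹ = - D.e x := by
  have h1 := D.mul x hx x⁻¹ (inv_mem hx)
  rw [mul_inv_cancel, D.e_one] at h1
  exact (neg_eq_of_add_eq_zero_right h1.symm).symm

/-- the element of `V` with matrix `X` -/
noncomputable def v (X : M2 F) : G := (D.surj X).choose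

theorem v_mem (X : M2 F) : D.v X ∈ V := (D.surj X).choose_spec.1

@[simp] theorem e_v (X : M2 F) : D.e (D.v X) = X := (D.surj X).choose_spec.2

theorem v_e {w : G} (hw : w ∈ V) : D.v (D.e w) = w := D.e_inj (D.v_mem _) hw (D.e_v _)

theorem v_add (X Y : M2 F) : D.v (X + Y) = D.v X * D.v Y :=
  D.e_inj (D.v_mem _) (mul_mem (D.v_mem _) (D.v_mem _)) (by
    rw [D.mul _ (D.v_mem _) _ (D.v_mem _), D.e_v, D.e_v, D.e_v])

theorem v_zero : D.v 0 = 1 := D.e_inj (D.v_mem _) (one_mem _) (by rw [D.e_v, D.e_one])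

theorem v_inj {X Y : M2 F} (h : D.v X = D.v Y) : X = Y := by
  rw [← D.e_v X, h, D.e_v]

/-- the action of `g ∈ N` on the matrices -/
noncomputable def act (g : G) (X : M2 F) : M2 F := D.e (g * D.v X * g⁻¹)

variable {D}

section act

variable (hN : ∀ m ∈ N, Mv m V V)
include hN

theorem v_act {g : G} (hg : g ∈ N) (X : M2 F) : D.v (D.act g X) = g * D.v X * g⁻¹ :=
  D.v_e ((hN g hg _).1 (D.v_mem X))

theorem act_e {g : G} (hg : g ∈ N) {w : G} (hw : w ∈ V) : D.act g (D.e w) = D.e (g * w * g⁻¹) := by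
  have _ := hN g hg
  rw [act, D.v_e hw]

theorem act_mul {g h : G} (hg : g ∈ N) (hh : h ∈ N) (X : M2 F) :
    D.act (g * h) X = D.act g (D.act h X) := by
  have _ := hg
  have e : g * h * D.v X * (g * h)⁻¹ = g * (h * D.v X * h⁻¹) * g⁻¹ := by group
  rw [act, act, v_act hN hh, e]

theorem act_inv_act {g : G} (hg : g ∈ N) (X : M2 F) : D.act g⁻¹ (D.act g X) = X := by
  rw [← act_mul hN (inv_mem hg) hg, inv_mul_cancel, act]
  have e : 1 * D.v X * (1 : G)⁻¹ = D.v X := by group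
  rw [e, D.e_v]

theorem act_act_inv {g : G} (hg : g ∈ N) (X : M2 F) : D.act g (D.act g⁻¹ X) = X := by
  have := act_inv_act hN (inv_mem hg) (D := D) X
  rwa [inv_inv] at this

theorem act_add {g : G} (hg : g ∈ N) (X Y : M2 F) : D.act g (X + Y) = D.act g X + D.act g Y := by
  have e : g * (D.v X * D.v Y) * g⁻¹ = (g * D.v X * g⁻¹) * (g * D.v Y * g⁻¹) := by group
  rw [act, D.v_add, e, D.mul _ ((hN g hg _).1 (D.v_mem X)) _ ((hN g hg _).1 (D.v_mem Y))]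
  rfl

theorem act_pow {g : G} (hg : g ∈ N) (n : ℕ) (X : M2 F) : (D.act g)^[n] X = D.act (g ^ n) X := by
  induction n generalizing X with
  | zero =>
    rw [Function.iterate_zero, id, pow_zero, act]
    have e : 1 * D.v X * (1 : G)⁻¹ = D.v X := by group
    rw [e, D.e_v]
  | succ n ih => rw [Function.iterate_succ_apply, ih, pow_succ, act_mul hN (pow_mem hg n) hg]

theorem lift_act (A B : SL F) : ∃ h ∈ N, ∀ X, D.act h X = Tens.act A B X := by
  have _ := hN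
  obtain ⟨h, hh, h1⟩ := D.lift A B
  exact ⟨h, hh, fun X => by rw [act, h1 _ (D.v_mem X), D.e_v]; rfl⟩

theorem nm {g : G} (hg : g ∈ N) : Nm (D.act g) (D.act g⁻¹) := by
  have key : ∀ g ∈ N, ∀ A B : SL F, ∃ A' B' : SL F, ∀ X,
      D.act g (Tens.act A B X) = Tens.act A' B' (D.act g X) := by
    intro g hg A B
    obtain ⟨h, hh, h1⟩ := lift_act hN (D := D) A B
    obtain ⟨A', B', h2⟩ := D.norm g hg h hh A B (fun v hv => by
      have := h1 (D.e v)
      rw [act_e hN hh hv] at this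
      exact this)
    refine ⟨A', B', fun X => ?_⟩
    have h3 := h2 _ (D.v_mem (D.act g X))
    rw [D.e_v] at h3
    rw [← h1, ← act_mul hN hg hh]
    have h4 : D.act (g * h) X = D.act (g * h * g⁻¹) (D.act g X) := by
      rw [← act_mul hN (mul_mem (mul_mem hg hh) (inv_mem hg)) hg]
      congr 1; group
    rw [h4]
    exact h3
  exact ⟨act_add hN hg, act_inv_act hN hg, act_act_inv hN hg, key g hg, key g⁻¹ (inv_mem hg)⟩

theorem act_one_iff {g : G} (hg : g ∈ N) : (∀ X, D.act g X = X) ↔ g ∈ centralizer (V : Set G) := by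
  rw [mem_centralizer_iff]
  constructor
  · intro h w hw
    have h1 := h (D.e w)
    rw [act_e hN hg hw] at h1
    have h2 := D.e_inj ((hN g hg _).1 hw) hw h1
    calc w * g = (g * w * g⁻¹) * g := by rw [h2]
      _ = g * w := by group
  · intro h X
    have h1 := h (D.v X) (D.v_mem X)
    rw [act, ← h1, mul_inv_cancel_right, D.e_v]

end act

/-! ### The two base points -/

variable (D)

/-- the point `0 = F E₁₁` -/
def R0 : Subgroup G where
  carrier := {w | w ∈ V ∧ ∃ c, D.e w = e0 c}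
  one_mem' := ⟨one_mem _, 0, by rw [D.e_one, e0_zero]⟩
  mul_mem' := by
    rintro x y ⟨hx, c, hc⟩ ⟨hy, d, hd⟩
    exact ⟨mul_mem hx hy, c + d, by rw [D.mul x hx y hy, hc, hd, e0_add]⟩
  inv_mem' := by
    rintro x ⟨hx, c, hc⟩
    refine ⟨inv_mem hx, -c, ?_⟩
    rw [D.e_inv hx, hc]
    apply ext2 <;> simp [e0]

/-- the point `∞ = F E₂₂` -/
def R3 : Subgroup G where
  carrier := {w | w ∈ V ∧ ∃ c, D.e w = e3 c}
  one_mem' := ⟨one_mem _, 0, by rw [D.e_one, e3_zero]⟩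
  mul_mem' := by
    rintro x y ⟨hx, c, hc⟩ ⟨hy, d, hd⟩
    exact ⟨mul_mem hx hy, c + d, by rw [D.mul x hx y hy, hc, hd, e3_add]⟩
  inv_mem' := by
    rintro x ⟨hx, c, hc⟩
    refine ⟨inv_mem hx, -c, ?_⟩
    rw [D.e_inv hx, hc]
    apply ext2 <;> simp [e3]

variable {D}

theorem mem_R0 {w : G} : w ∈ D.R0 ↔ w ∈ V ∧ ∃ c, D.e w = e0 c := Iff.rfl

theorem mem_R3 {w : G} : w ∈ D.R3 ↔ w ∈ V ∧ ∃ c, D.e w = e3 c := Iff.rfl

theorem v_e0 (c : F) : D.v (e0 c) ∈ D.R0 := ⟨D.v_mem _, c, D.e_v _⟩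

theorem v_e3 (c : F) : D.v (e3 c) ∈ D.R3 := ⟨D.v_mem _, c, D.e_v _⟩

theorem R0_le : D.R0 ≤ V := fun _ hw => hw.1

theorem R3_le : D.R3 ≤ V := fun _ hw => hw.1

theorem card_R0 : Nat.card D.R0 = Nat.card F := by
  refine Nat.card_congr (Equiv.ofBijective (fun w : D.R0 => D.e w 0 0) ⟨?_, ?_⟩)
  · rintro ⟨x, hx, c, hc⟩ ⟨y, hy, d, hd⟩ hxy
    apply Subtype.ext
    refine D.e_inj hx hy ?_
    have h1 : D.e x 0 0 = D.e y 0 0 := hxy
    rw [hc, hd] at h1 ⊢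
    simp [e0] at h1
    rw [h1]
  · intro c
    exact ⟨⟨D.v (e0 c), v_e0 c⟩, by simp [e0]⟩

theorem _root_.Cfsg.Agent.Omega.NO1.BetaPlus.Mv.of_le [Finite G] {g : G} {A B : Subgroup G}
    (h : ∀ a ∈ A, g * a * g⁻¹ ∈ B) (hc : Nat.card B ≤ Nat.card A) : Mv g A B := by
  have h1 : A.map (MulAut.conj g).toMonoidHom ≤ B := by
    rintro _ ⟨a, ha, rfl⟩
    exact h a ha
  have h2 : Nat.card (A.map (MulAut.conj g).toMonoidHom) = Nat.card A :=
    Nat.card_congr (A.equivMapOfInjective _ (MulAut.conj g).injective).toEquiv.symm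
  have h3 : A.map (MulAut.conj g).toMonoidHom = B := eq_of_le_of_card_ge h1 (by rw [h2]; exact hc)
  intro x
  refine ⟨fun hx => h x hx, fun hx => ?_⟩
  rw [← h3] at hx
  obtain ⟨a, ha, hax⟩ := hx
  have : g * a * g⁻¹ = g * x * g⁻¹ := hax
  have h4 : a = x := by
    have := mul_right_cancel this
    exact mul_left_cancel this
  rwa [← h4]

section

variable [Finite G] (hN : ∀ m ∈ N, Mv m V V)
include hN

/-- `g` normalises `R0` iff it fixes the point `0` -/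
theorem fix_iff {g : G} (hg : g ∈ N) : Mv g D.R0 D.R0 ↔ ∀ x, ∃ y, D.act g (e0 x) = e0 y := by
  constructor
  · intro h x
    obtain ⟨-, y, hy⟩ := (h _).1 (v_e0 x)
    exact ⟨y, hy⟩
  · intro h
    refine Mv.of_le ?_ le_rfl
    rintro w ⟨hw, c, hc⟩
    refine ⟨(hN g hg w).1 hw, ?_⟩
    obtain ⟨y, hy⟩ := h c
    exact ⟨y, by rw [← hy, ← hc, act_e hN hg hw]⟩

end

/-- The coordinates conjugated by `m ∈ N`. -/
noncomputable def conj (D : PlusQ F N V) (hN : ∀ m ∈ N, Mv m V V) (m : G) (hm : m ∈ N) : PlusQ F N V where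
  e x := D.e (m⁻¹ * x * m)
  mul v hv w hw := by
    have h1 : m⁻¹ * v * m ∈ V := by
      have := ((hN m hm).inv v).1 hv; rwa [inv_inv] at this
    have h2 : m⁻¹ * w * m ∈ V := by
      have := ((hN m hm).inv w).1 hw; rwa [inv_inv] at this
    rw [← D.mul _ h1 _ h2]
    congr 1; group
  surj X := ⟨m * D.v X * m⁻¹, (hN m hm _).1 (D.v_mem X), by
    have e : m⁻¹ * (m * D.v X * m⁻¹) * m = D.v X := by group
    rw [e, D.e_v]⟩
  ker v hv h := by
    have h1 : m⁻¹ * v * m ∈ V := by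
      have := ((hN m hm).inv v).1 hv; rwa [inv_inv] at this
    have h2 := D.ker _ h1 h
    have e : v = m * (m⁻¹ * v * m) * m⁻¹ := by group
    rw [e, h2]; group
  lift A B := by
    obtain ⟨g, hg, h⟩ := D.lift A B
    refine ⟨m * g * m⁻¹, mul_mem (mul_mem hm hg) (inv_mem hm), fun v hv => ?_⟩
    have h1 : m⁻¹ * v * m ∈ V := by
      have := ((hN m hm).inv v).1 hv; rwa [inv_inv] at this
    rw [← h _ h1]
    congr 1; group
  norm g hg h hh A B hAB := by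
    have key : ∀ v ∈ V, D.e ((m⁻¹ * h * m) * v * (m⁻¹ * h * m)⁻¹) = A.1 * D.e v * B.1.transpose := by
      intro v hv
      have h1 := hAB (m * v * m⁻¹) ((hN m hm _).1 hv)
      have e1 : m⁻¹ * (h * (m * v * m⁻¹) * h⁻¹) * m = (m⁻¹ * h * m) * v * (m⁻¹ * h * m)⁻¹ := by group
      have e2 : m⁻¹ * (m * v * m⁻¹) * m = v := by group
      rw [e1, e2] at h1
      exact h1
    obtain ⟨A', B', h2⟩ := D.norm (m⁻¹ * g * m) (mul_mem (mul_mem (inv_mem hm) hg) hm) (m⁻¹ * h * m)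
      (mul_mem (mul_mem (inv_mem hm) hh) hm) A B key
    refine ⟨A', B', fun v hv => ?_⟩
    have h1 : m⁻¹ * v * m ∈ V := by
      have := ((hN m hm).inv v).1 hv; rwa [inv_inv] at this
    rw [← h2 _ h1]
    congr 1; group
  swap := by
    obtain ⟨s, hs, h⟩ := D.swap
    refine ⟨m * s * m⁻¹, mul_mem (mul_mem hm hs) (inv_mem hm), fun g hg A hA => ?_⟩
    have key : ∀ v ∈ V, D.e ((m⁻¹ * g * m) * v * (m⁻¹ * g * m)⁻¹) = A.1 * D.e v := by
      intro v hv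
      have h1 := hA (m * v * m⁻¹) ((hN m hm _).1 hv)
      have e1 : m⁻¹ * (g * (m * v * m⁻¹) * g⁻¹) * m = (m⁻¹ * g * m) * v * (m⁻¹ * g * m)⁻¹ := by group
      have e2 : m⁻¹ * (m * v * m⁻¹) * m = v := by group
      rw [e1, e2] at h1
      exact h1
    obtain ⟨B, h2⟩ := h (m⁻¹ * g * m) (mul_mem (mul_mem (inv_mem hm) hg) hm) A key
    refine ⟨B, fun v hv => ?_⟩
    have h1 : m⁻¹ * v * m ∈ V := by
      have := ((hN m hm).inv v).1 hv; rwa [inv_inv] at this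
    rw [← h2 _ h1]
    congr 1; group

theorem conj_e (hN : ∀ m ∈ N, Mv m V V) {m : G} (hm : m ∈ N) (x : G) :
    (D.conj hN m hm).e x = D.e (m⁻¹ * x * m) := rfl

theorem conj_v (hN : ∀ m ∈ N, Mv m V V) {m : G} (hm : m ∈ N) (X : M2 F) :
    (D.conj hN m hm).v X = m * D.v X * m⁻¹ := by
  refine (D.conj hN m hm).e_inj (v_mem _ _) ((hN m hm _).1 (D.v_mem X)) ?_
  rw [e_v, conj_e]
  have e : m⁻¹ * (m * D.v X * m⁻¹) * m = D.v X := by group
  rw [e, D.e_v]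

theorem conj_R0 (hN : ∀ m ∈ N, Mv m V V) {m : G} (hm : m ∈ N) : Mv m D.R0 (D.conj hN m hm).R0 := by
  intro x
  rw [mem_R0, mem_R0, conj_e]
  have e : m⁻¹ * (m * x * m⁻¹) * m = x := by group
  rw [e, hN m hm x]

theorem conj_R3 (hN : ∀ m ∈ N, Mv m V V) {m : G} (hm : m ∈ N) : Mv m D.R3 (D.conj hN m hm).R3 := by
  intro x
  rw [mem_R3, mem_R3, conj_e]
  have e : m⁻¹ * (m * x * m⁻¹) * m = x := by group
  rw [e, hN m hm x]

end Cfsg.Agent.Omega.NO1.PlusQ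

end

section


/-!
# Type (γ) of the leaf N1: the action of `Q = O₂(N_G(R))` on `V` (helper914)

`Cx D` : `V ≰ Q`, `C_G(Q) ≤ Q ≤ N`, `Q = QQ D.R0`.
* `Cx.U` : every `y ∈ Q` acts as `act (up a) (up b)`; `Cx.U_surj` : all pairs occur;
* `Cx.mem_E` : `V ∩ Q = {v | (e v) 1 1 = 0}`.
-/

set_option autoImplicit false
set_option linter.unusedSectionVars false

namespace Cfsg.Agent.Omega.NO1.PlusQ

open Subgroup Cfsg Matrix
open Cfsg.Agent.Omega.NO1.Tens
open Cfsg.Agent.Omega.NO1.BetaPlus (Mv QQ)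
open Cfsg.Agent.ZN (o2)

universe u

variable {G : Type u} [Group G] {F : Type} [Field F] {N V : Subgroup G}

theorem comm (D : PlusQ F N V) {a b : G} (ha : a ∈ V) (hb : b ∈ V) : a * b = b * a :=
  D.e_inj (mul_mem ha hb) (mul_mem hb ha) (by rw [D.mul a ha b hb, D.mul b hb a ha, add_comm])

variable [CharP F 2]

theorem sq (D : PlusQ F N V) {a : G} (ha : a ∈ V) : a * a = 1 :=
  D.ker _ (mul_mem ha ha) (by rw [D.mul a ha a ha]; ext i j; exact CharTwo.add_self_eq_zero _)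

theorem T2_act_comp {γ : M2 F → M2 F} (h : T2 γ) (A B : SL F) : T2 (fun X => Tens.act A B (γ X)) := by
  constructor
  · intro C
    obtain ⟨C', hC⟩ := h.1 C
    refine ⟨B * C' * B⁻¹, fun X => ?_⟩
    show Tens.act A B (γ (Tens.act C 1 X)) = _
    rw [hC, act_act, act_act]; congr 1 <;> group
  · intro C
    obtain ⟨C', hC⟩ := h.2 C
    refine ⟨A * C' * A⁻¹, fun X => ?_⟩
    show Tens.act A B (γ (Tens.act 1 C X)) = _
    rw [hC, act_act, act_act]; congr 1 <;> group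

section

variable {D : PlusQ F N V} (hN : ∀ m ∈ N, Mv m V V) {t : F} (ht0 : t ≠ 0) (ht1 : t ≠ 1)
include hN ht0 ht1

theorem exists_T2 : ∃ s ∈ N, T2 (D.act s) := by
  obtain ⟨s, hs, h⟩ := D.swap
  refine ⟨s, hs, ?_⟩
  have hm := nm (D := D) hN hs
  have half : ∀ A : SL F, ∃ B : SL F, ∀ X, D.act s (Tens.act A 1 X) = Tens.act 1 B (D.act s X) := by
    intro A
    obtain ⟨g, hg, hgA⟩ := lift_act (D := D) hN A 1
    obtain ⟨B, hB⟩ := h g hg A (fun v hv => by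
      have h1 := hgA (D.e v)
      rw [act_e hN hg hv] at h1
      rw [h1]; simp [Tens.act])
    refine ⟨B, fun X => ?_⟩
    have h1 := hB _ (D.v_mem (D.act s X))
    rw [D.e_v] at h1
    rw [← hgA, ← act_mul hN hs hg]
    have h2 : D.act (s * g) X = D.act (s * g * s⁻¹) (D.act s X) := by
      rw [← act_mul hN (mul_mem (mul_mem hs hg) (inv_mem hs)) hs]
      congr 1; group
    rw [h2]
    show D.e _ = _
    rw [h1]; simp [Tens.act]
  rcases hm.dich ht0 ht1 with hT | hT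
  · exfalso
    obtain ⟨A', hA'⟩ := hT.1 (up 1)
    obtain ⟨B', hB'⟩ := half (up 1)
    have h3 : ∀ X, Tens.act A' 1 X = Tens.act 1 B' X := fun X => by
      have := hA' (D.act s⁻¹ X)
      rw [hB', hm.right] at this
      exact this.symm
    have h4 := (act_unique h3).1
    refine up_one_ne (F := F) (act_eq_one (A := up 1) (B := 1) fun X => hm.inj ?_).1
    rw [hA', h4, act_one]
  · exact hT

/-- An element of `N` which fixes the two base points and interchanges the factors. -/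
theorem exists_swap : ∃ s ∈ N, T2 (D.act s) ∧ (∀ x, ∃ y, D.act s (e0 x) = e0 y) ∧
    (∀ x, ∃ y, D.act s (e3 x) = e3 y) := by
  obtain ⟨s, hs, hT⟩ := exists_T2 (D := D) hN ht0 ht1
  have hm := nm (D := D) hN hs
  obtain ⟨A, B, c, hc⟩ := exists_e0 (hm.det_eq_zero ht0 ht1 (det_e0 1))
  obtain ⟨a, ha, haA⟩ := lift_act (D := D) hN A⁻¹ B⁻¹
  have hs1 : a * s ∈ N := mul_mem ha hs
  have h1 : ∀ X, D.act (a * s) X = Tens.act A⁻¹ B⁻¹ (D.act s X) := fun X => by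
    rw [act_mul hN ha hs, haA]
  have hT1 : T2 (D.act (a * s)) := by
    have := T2_act_comp hT A⁻¹ B⁻¹
    have e : D.act (a * s) = fun X => Tens.act A⁻¹ B⁻¹ (D.act s X) := funext h1
    rwa [e]
  have hm1 := nm (D := D) hN hs1
  have h0 : ∀ x, ∃ y, D.act (a * s) (e0 x) = e0 y :=
    hm1.fix0 ht0 ht1 one_ne_zero (d := c) (by rw [h1, hc, Tens.act_inv_act])
  obtain ⟨b, d, hbd⟩ := hm1.opp ht0 ht1 h0
  obtain ⟨w, hw, hwA⟩ := lift_act (D := D) hN (up b) (up d)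
  have h2 : ∀ X, D.act (w * (a * s)) X = Tens.act (up b) (up d) (D.act (a * s) X) := fun X => by
    rw [act_mul hN hw hs1, hwA]
  refine ⟨w * (a * s), mul_mem hw hs1, ?_, ?_, ?_⟩
  · have := T2_act_comp hT1 (up b) (up d)
    have e : D.act (w * (a * s)) = fun X => Tens.act (up b) (up d) (D.act (a * s) X) := funext h2
    rwa [e]
  · intro x
    obtain ⟨y, hy⟩ := h0 x
    exact ⟨y, by rw [h2, hy, act_up_e0]⟩
  · intro x
    obtain ⟨y, hy⟩ := hbd x
    exact ⟨y, by rw [h2, hy, act_up_up]⟩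

end

/-- The context at the base point. -/
structure Cx (D : PlusQ F N V) : Prop where
  hN : ∀ m ∈ N, Mv m V V
  V_Q : ¬ V ≤ QQ D.R0
  char2 : centralizer (QQ D.R0 : Set G) ≤ QQ D.R0
  Q_N : QQ D.R0 ≤ N
  three : ∃ t : F, t ≠ 0 ∧ t ≠ 1

namespace Cx

variable [Finite G] {D : PlusQ F N V} (h : Cx D)
include h

theorem Q_fix {y : G} (hy : y ∈ QQ D.R0) : ∀ x, ∃ z, D.act y (e0 x) = e0 z :=
  (fix_iff h.hN (h.Q_N hy)).1 (Mv.of_nor (Cfsg.Agent.ZN.o2_le _ hy))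

theorem mv_Q {g : G} (hg : g ∈ N) (h0 : ∀ x, ∃ z, D.act g (e0 x) = e0 z) {y : G} (hy : y ∈ QQ D.R0) :
    g * y * g⁻¹ ∈ QQ D.R0 := (((fix_iff h.hN hg).2 h0).QQ y).1 hy

theorem exists_order {y : G} (hy : y ∈ QQ D.R0) : ∃ k : ℕ, ∀ X, (D.act y)^[2 ^ k] X = X := by
  obtain ⟨k, hk⟩ := Cfsg.Agent.Omega.NOne.LemmaT.exists_pow_eq_one
    (Cfsg.Agent.ZN.isPGroup_o2 (normalizer (D.R0 : Set G)))
  refine ⟨k, fun X => ?_⟩
  rw [act_pow h.hN (h.Q_N hy), hk y hy, act]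
  have e : 1 * D.v X * (1 : G)⁻¹ = D.v X := by group
  rw [e, D.e_v]

/-- `[y, t] ∈ U₀` for `y ∈ Q` and a torus element `t` -/
theorem htor {y : G} (hy : y ∈ QQ D.R0) (l m : Fˣ) : ∃ a b, ∀ X,
    D.act y (Tens.act (tor l) (tor m) X) = Tens.act (up a * tor l) (up b * tor m) (D.act y X) := by
  have hyN := h.Q_N hy
  have hm := nm (D := D) h.hN hyN
  obtain ⟨t, ht, htA⟩ := lift_act (D := D) h.hN (tor l) (tor m)
  obtain ⟨A, B, hAB⟩ := hm.nor (tor l) (tor m)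
  have ht0 : ∀ x, ∃ z, D.act t⁻¹ (e0 x) = e0 z := by
    have h1 : ∀ x, ∃ z, D.act t (e0 x) = e0 z := fun x => ⟨l * m * x, by rw [htA, act_tor_e0]⟩
    exact (fix_iff h.hN (inv_mem ht)).1 ((fix_iff h.hN ht).2 h1).inv
  have ht0' : ∀ x, ∃ z, D.act t (e0 x) = e0 z := fun x => ⟨l * m * x, by rw [htA, act_tor_e0]⟩
  -- `c = y t y⁻¹ t⁻¹ ∈ Q`
  set c := y * t * y⁻¹ * t⁻¹ with hc
  have hcQ : c ∈ QQ D.R0 := by
    have e : c = y * (t * y⁻¹ * t⁻¹) := by rw [hc]; group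
    rw [e]
    exact mul_mem hy (h.mv_Q ht ht0' (inv_mem hy))
  have hcA : ∀ X, D.act c X = Tens.act (A * (tor l)⁻¹) (B * (tor m)⁻¹) X := by
    intro X
    have hct : D.act (c * t * y) (D.act y⁻¹ (Tens.act (tor l)⁻¹ (tor m)⁻¹ X)) = D.act c X := by
      rw [act_mul h.hN (mul_mem (h.Q_N hcQ) ht) hyN, act_act_inv h.hN hyN,
        act_mul h.hN (h.Q_N hcQ) ht, htA, Tens.act_act_inv]
    rw [← hct]
    have e : c * t * y = y * t := by rw [hc]; group
    rw [e, act_mul h.hN hyN ht, htA, hAB, hm.right, act_act]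
  obtain ⟨k, hk⟩ := h.exists_order hcQ
  have hcA' : D.act c = Tens.act (A * (tor l)⁻¹) (B * (tor m)⁻¹) := funext hcA
  obtain ⟨d, hd⟩ := h.Q_fix hcQ 1
  rw [hcA'] at hk hd
  obtain ⟨u1, u2⟩ := two_L one_ne_zero hd hk
  refine ⟨(A * (tor l)⁻¹).1 0 1, (B * (tor m)⁻¹).1 0 1, fun X => ?_⟩
  rw [← u1, ← u2, inv_mul_cancel_right, inv_mul_cancel_right, hAB]

variable [Finite F]

/-- **`Q` induces a subgroup of `U₀`.** -/
theorem U {y : G} (hy : y ∈ QQ D.R0) : ∃ a b, ∀ X, D.act y X = Tens.act (up a) (up b) X := by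
  obtain ⟨t, ht0, ht1⟩ := h.three
  have hyN := h.Q_N hy
  have hm := nm (D := D) h.hN hyN
  obtain ⟨k, hk⟩ := h.exists_order hy
  rcases hm.dich ht0 ht1 with hT | hT
  · exact hm.mem_U ht0 ht1 hT (h.Q_fix hy) hk fun l => h.htor hy l l⁻¹
  · exfalso
    obtain ⟨B', hB'⟩ := hT.1 (tor (Units.mk0 t ht0))
    obtain ⟨a, b, hab⟩ := h.htor hy (Units.mk0 t ht0) 1
    rw [tor_one] at hab
    have h1 : ∀ X, Tens.act 1 B' X = Tens.act (up a * tor (Units.mk0 t ht0)) (up b * 1) X := fun X => by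
      have := hab (D.act y⁻¹ X)
      rw [hB', hm.right] at this
      exact this
    have h2 := (act_unique h1).1
    have h3 := congrArg (fun A : SL F => A.1 0 0) h2
    have h4 : (up a * tor (Units.mk0 t ht0)).1 = (up a).1 * (tor (Units.mk0 t ht0)).1 := rfl
    simp only [h4, up_val, tor_val, Matrix.mul_apply, Fin.sum_univ_two] at h3
    simp at h3
    exact ht1 h3.symm

/-- the pairs which occur -/
theorem U_surj (a b : F) : ∃ y ∈ QQ D.R0, ∀ X, D.act y X = Tens.act (up a) (up b) X := by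
  obtain ⟨t, ht0, ht1⟩ := h.three
  -- a nontrivial pair
  obtain ⟨y, hy, a0, b0, hyA, hne⟩ : ∃ y ∈ QQ D.R0, ∃ a0 b0 : F,
      (∀ X, D.act y X = Tens.act (up a0) (up b0) X) ∧ ¬ (a0 = 0 ∧ b0 = 0) := by
    by_contra hcon
    push Not at hcon
    apply h.V_Q
    refine le_trans ?_ h.char2
    intro v hv
    rw [mem_centralizer_iff]
    intro y hy
    obtain ⟨a0, b0, hyA⟩ := h.U hy
    obtain ⟨ha, hb⟩ := hcon y hy a0 b0 hyA
    have h1 : ∀ X, D.act y X = X := fun X => by rw [hyA, ha, hb, up_zero, act_one]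
    exact (mem_centralizer_iff.1 ((act_one_iff h.hN (h.Q_N hy)).1 h1) v hv).symm
  -- the swap
  obtain ⟨s, hs, hsT, hs0, hs3⟩ := exists_swap (D := D) h.hN ht0 ht1
  have hms := nm (D := D) h.hN hs
  obtain ⟨a1, ha1⟩ := hms.un2_left hsT hs0 a0
  obtain ⟨b1, hb1⟩ := hms.un2_right hsT hs0 b0
  have hys : s * y * s⁻¹ ∈ QQ D.R0 := h.mv_Q hs hs0 hy
  have hysA : ∀ X, D.act (s * y * s⁻¹) X = Tens.act (up b1) (up a1) X := by
    intro X
    rw [act_mul h.hN (mul_mem hs (h.Q_N hy)) (inv_mem hs), act_mul h.hN hs (h.Q_N hy), hyA, act_split,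
      ha1, hb1, hms.right, act_act, one_mul, mul_one]
  have ha01 : a0 ≠ 0 → a1 ≠ 0 := by
    intro ha h1
    apply ha
    rw [h1, up_zero] at ha1
    have h2 : ∀ X, Tens.act (up a0) 1 X = X := fun X => hms.inj (by rw [ha1, act_one])
    have h3 := (act_eq_one h2).1
    rw [← up_zero] at h3
    exact up_inj h3
  have hb01 : b0 ≠ 0 → b1 ≠ 0 := by
    intro ha h1
    apply ha
    rw [h1, up_zero] at hb1
    have h2 : ∀ X, Tens.act 1 (up b0) X = X := fun X => hms.inj (by rw [hb1, act_one])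
    have h3 := (act_eq_one h2).2
    rw [← up_zero] at h3
    exact up_inj h3
  have hadd : ∀ a b a' b' : F, (∃ y ∈ QQ D.R0, ∀ X, D.act y X = Tens.act (up a) (up b) X) →
      (∃ y ∈ QQ D.R0, ∀ X, D.act y X = Tens.act (up a') (up b') X) →
      ∃ y ∈ QQ D.R0, ∀ X, D.act y X = Tens.act (up (a + a')) (up (b + b')) X := by
    rintro a b a' b' ⟨y, hy, hyA⟩ ⟨z, hz, hzA⟩
    refine ⟨y * z, mul_mem hy hz, fun X => ?_⟩
    rw [act_mul h.hN (h.Q_N hy) (h.Q_N hz), hyA, hzA, act_act, up_add, up_add]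
  have htor : ∀ (l m : Fˣ) (a b : F), (∃ y ∈ QQ D.R0, ∀ X, D.act y X = Tens.act (up a) (up b) X) →
      ∃ y ∈ QQ D.R0, ∀ X, D.act y X = Tens.act (up (l * l * a)) (up (m * m * b)) X := by
    rintro l m a b ⟨y, hy, hyA⟩
    obtain ⟨t, ht, htA⟩ := lift_act (D := D) h.hN (tor l) (tor m)
    have ht0' : ∀ x, ∃ z, D.act t (e0 x) = e0 z := fun x => ⟨l * m * x, by rw [htA, act_tor_e0]⟩
    refine ⟨t * y * t⁻¹, h.mv_Q ht ht0' hy, fun X => ?_⟩
    rw [act_mul h.hN (mul_mem ht (h.Q_N hy)) (inv_mem ht), act_mul h.hN ht (h.Q_N hy), hyA, htA,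
      tor_act_up]
    congr 1
    rw [← htA, act_act_inv h.hN ht]
  rcases not_and_or.1 hne with h0 | h0
  · exact irr ht0 ht1 hadd htor ⟨y, hy, hyA⟩ h0 ⟨_, hys, hysA⟩ (ha01 h0) a b
  · exact irr ht0 ht1 hadd htor ⟨_, hys, hysA⟩ (hb01 h0) ⟨y, hy, hyA⟩ h0 a b

/-- `v ∈ N_G(R)` -/
theorem V_nor {v : G} (hv : v ∈ V) : v ∈ normalizer (D.R0 : Set G) :=
  (Mv.of_comm fun a ha => D.comm hv (R0_le ha)).mem_nor

/-- `[v,y] ∈ V ∩ Q` -/
theorem com_mem {v y : G} (hv : v ∈ V) (hy : y ∈ QQ D.R0) : y * v * y⁻¹ * v⁻¹ ∈ V ⊓ QQ D.R0 := by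
  refine ⟨V.mul_mem ((h.hN y (h.Q_N hy) v).1 hv) (V.inv_mem hv), ?_⟩
  have e : y * v * y⁻¹ * v⁻¹ = y * (v * y⁻¹ * v⁻¹) := by group
  rw [e]
  exact (QQ D.R0).mul_mem hy (((Mv.of_nor (h.V_nor hv)).QQ _).1 ((QQ D.R0).inv_mem hy))

theorem e_com {v y : G} (hv : v ∈ V) (hy : y ∈ QQ D.R0) :
    D.e (y * v * y⁻¹ * v⁻¹) = D.act y (D.e v) - D.e v := by
  rw [D.mul _ ((h.hN y (h.Q_N hy) v).1 hv) _ (inv_mem hv), D.e_inv hv, act_e h.hN (h.Q_N hy) hv,
    sub_eq_add_neg]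

theorem com_v (X : M2 F) {y : G} (hy : y ∈ QQ D.R0) : D.v (D.act y X - X) ∈ QQ D.R0 := by
  have h1 := (h.com_mem (D.v_mem X) hy).2
  have h2 := h.e_com (D.v_mem X) hy
  rw [D.e_v] at h2
  rw [← h2, D.v_e (h.com_mem (D.v_mem X) hy).1]
  exact h1

theorem e1_mem (c : F) : D.v (e1 c) ∈ QQ D.R0 := by
  obtain ⟨y, hy, hyA⟩ := h.U_surj c 0
  have h1 := h.com_v (e3 1) hy
  have e : D.act y (e3 1) - e3 1 = e1 c := by
    rw [hyA, act_up]; apply ext2 <;> simp [e1, e3]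
  rwa [e] at h1

theorem e2_mem (c : F) : D.v (e2 c) ∈ QQ D.R0 := by
  obtain ⟨y, hy, hyA⟩ := h.U_surj 0 c
  have h1 := h.com_v (e3 1) hy
  have e : D.act y (e3 1) - e3 1 = e2 c := by
    rw [hyA, act_up]; apply ext2 <;> simp [e2, e3]
  rwa [e] at h1

theorem e0_mem (c : F) : D.v (e0 c) ∈ QQ D.R0 := by
  obtain ⟨y, hy, hyA⟩ := h.U_surj c 0
  have h1 := h.com_v (e2 1) hy
  have e : D.act y (e2 1) - e2 1 = e0 c := by
    rw [hyA, act_up]; apply ext2 <;> simp [e0, e2]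
  rwa [e] at h1

theorem perp_le {v : G} (hv : v ∈ V) (h0 : D.e v 1 1 = 0) : v ∈ QQ D.R0 := by
  have e : D.e v = e0 (D.e v 0 0) + e1 (D.e v 0 1) + e2 (D.e v 1 0) := by
    conv_lhs => rw [e_sum (D.e v), h0, e3_zero, add_zero]
  have e' : v = D.v (e0 (D.e v 0 0)) * D.v (e1 (D.e v 0 1)) * D.v (e2 (D.e v 1 0)) := by
    rw [← D.v_add, ← D.v_add, ← e, D.v_e hv]
  rw [e']
  exact mul_mem (mul_mem (h.e0_mem _) (h.e1_mem _)) (h.e2_mem _)

/-- `V ∩ Q = R^⊥` -/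
theorem mem_E {v : G} (hv : v ∈ V) : v ∈ QQ D.R0 ↔ D.e v 1 1 = 0 := by
  refine ⟨fun hvQ => ?_, h.perp_le hv⟩
  by_contra hne
  apply h.V_Q
  intro w hw
  by_cases hw0 : D.e w 1 1 = 0
  · exact h.perp_le hw hw0
  -- a torus element maps `v` to an element with the same last entry as `w`
  have hl : (D.e v 1 1) * (D.e w 1 1)⁻¹ ≠ 0 := mul_ne_zero hne (inv_ne_zero hw0)
  obtain ⟨t, ht, htA⟩ := lift_act (D := D) h.hN (tor (Units.mk0 _ hl)) (tor 1)
  have ht0' : ∀ x, ∃ z, D.act t (e0 x) = e0 z := fun x => ⟨_ , by rw [htA, act_tor_e0]⟩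
  have h1 := h.mv_Q ht ht0' hvQ
  have h2 : t * v * t⁻¹ ∈ V := (h.hN t ht v).1 hv
  have h3 : D.e (t * v * t⁻¹) 1 1 = D.e w 1 1 := by
    rw [← act_e h.hN ht hv, htA, act_tor]
    simp
    field_simp
  have h4 : (t * v * t⁻¹)⁻¹ * w ∈ QQ D.R0 := by
    refine h.perp_le (mul_mem (inv_mem h2) hw) ?_
    rw [D.mul _ (inv_mem h2) _ hw, D.e_inv h2]
    simp [h3]
  have h5 := mul_mem h1 h4
  have e : t * v * t⁻¹ * ((t * v * t⁻¹)⁻¹ * w) = w := by group
  rwa [e] at h5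

end Cx

end Cfsg.Agent.Omega.NO1.PlusQ

end

section


/-!
# Type (γ) of the leaf N1: all points (helper914)

`D.RA A B = {v | e v ∈ act A B (F E₁₁)}`, `D.R i j = D.RA (rep i) (rep j)` for `i j : Option F`.
-/

set_option autoImplicit false
set_option linter.unusedSectionVars false

namespace Cfsg.Agent.Omega.NO1.PlusQ

open Subgroup Cfsg Matrix
open Cfsg.Agent.Omega.NO1.Tens
open Cfsg.Agent.Omega.NO1.BetaPlus (Mv QQ)
open Cfsg.Agent.ZN (o2)

universe u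

variable {G : Type u} [Group G] {F : Type} [Field F] {N V : Subgroup G}

/-- the point `act A B (F E₁₁)` -/
def RA (D : PlusQ F N V) (A B : SL F) : Subgroup G where
  carrier := {w | w ∈ V ∧ ∃ c, D.e w = Tens.act A B (e0 c)}
  one_mem' := ⟨one_mem _, 0, by rw [D.e_one, e0_zero, act_zero]⟩
  mul_mem' := by
    rintro x y ⟨hx, c, hc⟩ ⟨hy, d, hd⟩
    exact ⟨mul_mem hx hy, c + d, by rw [D.mul x hx y hy, hc, hd, e0_add, Tens.act_add]⟩
  inv_mem' := by
    rintro x ⟨hx, c, hc⟩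
    refine ⟨inv_mem hx, -c, ?_⟩
    have e : (e0 (-c) : M2 F) = - e0 c := by apply ext2 <;> simp [e0]
    rw [D.e_inv hx, hc, e]
    simp [Tens.act]

variable {D : PlusQ F N V}

theorem mem_RA {A B : SL F} {w : G} : w ∈ D.RA A B ↔ w ∈ V ∧ ∃ c, D.e w = Tens.act A B (e0 c) := Iff.rfl

theorem RA_one : D.RA 1 1 = D.R0 := by
  ext w
  rw [mem_RA, mem_R0]
  simp [Tens.act]

theorem RA_Bo (A B : SL F) {T T' : SL F} (hT : Bo T) (hT' : Bo T') : D.RA (A * T) (B * T') = D.RA A B := by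
  ext w
  rw [mem_RA, mem_RA]
  refine and_congr_right fun hw => ⟨?_, ?_⟩
  · rintro ⟨c, hc⟩
    exact ⟨T.1 0 0 * T'.1 0 0 * c, hc.trans (by rw [← act_act, act_Bo hT hT'])⟩
  · rintro ⟨c, hc⟩
    refine ⟨(T.1 0 0 * T'.1 0 0)⁻¹ * c, hc.trans ?_⟩
    rw [← act_act, act_Bo hT hT', ← mul_assoc, mul_inv_cancel₀ (mul_ne_zero hT.ne hT'.ne), one_mul]

theorem RA_le (A B : SL F) : D.RA A B ≤ V := fun _ h => h.1

variable [CharP F 2]

theorem RA_wy : D.RA wy wy = D.R3 := by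
  ext w
  rw [mem_RA, mem_R3]
  simp only [act_wy_e0]

/-- the points -/
def R (D : PlusQ F N V) (i j : Option F) : Subgroup G := D.RA (rep i) (rep j)

theorem R_none : D.R none none = D.R0 := RA_one

theorem R_zero : D.R (some 0) (some 0) = D.R3 := by rw [R, rep_zero, RA_wy]

theorem exists_R (A B : SL F) : ∃ i j T T', Bo T ∧ Bo T' ∧ A = rep i * T ∧ B = rep j * T' ∧
    D.RA A B = D.R i j := by
  obtain ⟨i, T, hT, e⟩ := exists_rep A
  obtain ⟨j, T', hT', e'⟩ := exists_rep B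
  exact ⟨i, j, T, T', hT, hT', e, e', by rw [e, e', RA_Bo _ _ hT hT']; rfl⟩

section

variable (hN : ∀ m ∈ N, Mv m V V)
include hN

/-- `m` acts as `(A, B)` -/
theorem exists_lift (A B : SL F) : ∃ m ∈ N, ∀ X, D.act m X = Tens.act A B X := lift_act hN A B

theorem act_inv_of {m : G} (hm : m ∈ N) {A B : SL F} (h : ∀ X, D.act m X = Tens.act A B X) (X : M2 F) :
    D.act m⁻¹ X = Tens.act A⁻¹ B⁻¹ X := by
  apply (nm (D := D) hN hm).inj
  rw [act_act_inv hN hm, h, Tens.act_act_inv]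

/-- the coordinates moved by `m`, which acts as `(A, B)` -/
theorem conj_RA {m : G} (hm : m ∈ N) {A B : SL F} (h : ∀ X, D.act m X = Tens.act A B X) (C E : SL F) :
    (D.conj hN m hm).RA C E = D.RA (A * C) (B * E) := by
  ext w
  rw [mem_RA, mem_RA, conj_e]
  refine and_congr_right fun hw => ?_
  have h1 : D.e (m⁻¹ * w * m) = Tens.act A⁻¹ B⁻¹ (D.e w) := by
    rw [← act_inv_of hN hm h, act_e hN (inv_mem hm) hw, inv_inv]
  rw [h1]
  refine exists_congr fun c => ?_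
  rw [← act_act]
  constructor
  · intro h2; rw [← h2, Tens.act_act_inv]
  · intro h2; rw [h2, Tens.act_inv_act]

theorem conj_e_eq {m : G} (hm : m ∈ N) {A B : SL F} (h : ∀ X, D.act m X = Tens.act A B X) {w : G} (hw : w ∈ V) :
    (D.conj hN m hm).e w = Tens.act A⁻¹ B⁻¹ (D.e w) := by
  rw [conj_e, ← act_inv_of hN hm h, act_e hN (inv_mem hm) hw, inv_inv]

theorem conj_act {m : G} (hm : m ∈ N) {A B : SL F} (h : ∀ X, D.act m X = Tens.act A B X) {g : G} (hg : g ∈ N)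
    (X : M2 F) : (D.conj hN m hm).act g X = Tens.act A⁻¹ B⁻¹ (D.act g (Tens.act A B X)) := by
  have h1 : g * (m * D.v X * m⁻¹) * g⁻¹ ∈ V := (hN g hg _).1 ((hN m hm _).1 (D.v_mem X))
  rw [act, conj_v, conj_e_eq hN hm h h1, ← act_e hN hg ((hN m hm _).1 (D.v_mem X)),
    ← act_e hN hm (D.v_mem X), D.e_v, h]

end

end Cfsg.Agent.Omega.NO1.PlusQ

end
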