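import Cfsg.Agent.Mrg.Omega.NO1.Tens.Group
import Cfsg.Agent.Mrg.Omega.NO1.Beta.Meet
import Cfsg.Agent.Mrg.Omega.NO1.BetaPlus.Abs
import Cfsg.Agent.Mrg.Omega.NO1.Tens.Basic
import Cfsg.Agent.Mrg.Omega.All.NOne.TwoC

section


/-!
# Type (γ) of the leaf N1: the facts of THEOREM BETA at the base point (helper914)
-/

set_option autoImplicit false
set_option linter.unusedSectionVars false

namespace Cfsg.Agent.Omega.NO1.PlusQ

open Subgroup Cfsg Matrix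
open Cfsg.Agent.Omega.NO1.Tens
open Cfsg.Agent.Omega.NO1.BetaPlus (Mv QQ)
open Cfsg.Agent.ZN (o2)

universe u

variable {G : Type u} [Group G] {F : Type} [Field F] {N V : Subgroup G}

/-- the first coordinate of `y ∈ Q` -/
noncomputable def al (D : PlusQ F N V) (y : G) : F := D.act y (e3 1) 0 1

/-- the second coordinate of `y ∈ Q` -/
noncomputable def be (D : PlusQ F N V) (y : G) : F := D.act y (e3 1) 1 0

variable {D : PlusQ F N V} [CharP F 2]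

theorem al_be {y : G} {a b : F} (h : ∀ X, D.act y X = Tens.act (up a) (up b) X) : D.al y = a ∧ D.be y = b := by
  constructor
  · rw [al, h, act_up]; simp [e3]
  · rw [be, h, act_up]; simp [e3]

theorem R0_inf_R3 : D.R0 ⊓ D.R3 = ⊥ := by
  rw [eq_bot_iff]
  rintro w ⟨⟨hw, c, hc⟩, -, d, hd⟩
  rw [mem_bot]
  refine D.ker w hw ?_
  rw [hc] at hd
  have := congrArg (fun X : M2 F => X 0 0) hd
  simp [e0, e3] at this
  rw [hc, this, e0_zero]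

namespace Cx

variable [Finite G] (h : Cx D)
include h

variable [Finite F]

theorem act_y {y : G} (hy : y ∈ QQ D.R0) (X : M2 F) : D.act y X = Tens.act (up (D.al y)) (up (D.be y)) X := by
  obtain ⟨a, b, hab⟩ := h.U hy
  obtain ⟨e1, e2⟩ := al_be hab
  rw [e1, e2, hab]

theorem al_mul {y y' : G} (hy : y ∈ QQ D.R0) (hy' : y' ∈ QQ D.R0) :
    D.al (y * y') = D.al y + D.al y' ∧ D.be (y * y') = D.be y + D.be y' := by
  refine al_be (D := D) fun X => ?_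
  rw [act_mul h.hN (h.Q_N hy) (h.Q_N hy'), h.act_y hy, h.act_y hy', act_act, up_add, up_add]

theorem al_inv {y : G} (hy : y ∈ QQ D.R0) : D.al y⁻¹ = D.al y ∧ D.be y⁻¹ = D.be y := by
  refine al_be (D := D) fun X => ?_
  apply (nm (D := D) h.hN (h.Q_N hy)).inj
  rw [act_act_inv h.hN (h.Q_N hy), h.act_y hy, act_up_up]

theorem mem_C_iff {y : G} (hy : y ∈ QQ D.R0) : y ∈ centralizer (V : Set G) ↔ D.al y = 0 ∧ D.be y = 0 := by
  rw [← act_one_iff (D := D) h.hN (h.Q_N hy)]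
  constructor
  · intro h1
    exact al_be (D := D) fun X => by rw [h1, up_zero, act_one]
  · rintro ⟨e1, e2⟩ X
    rw [h.act_y hy, e1, e2, up_zero, act_one]

theorem al_surj (a b : F) : ∃ y ∈ QQ D.R0, D.al y = a ∧ D.be y = b := by
  obtain ⟨y, hy, hyA⟩ := h.U_surj a b
  exact ⟨y, hy, al_be hyA⟩

theorem RQ {r : G} (hr : r ∈ D.R0) {y : G} (hy : y ∈ QQ D.R0) : r * y = y * r := by
  obtain ⟨hrV, c, hc⟩ := hr
  have h1 : y * r * y⁻¹ = r := by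
    refine D.e_inj ((h.hN y (h.Q_N hy) r).1 hrV) hrV ?_
    rw [← act_e h.hN (h.Q_N hy) hrV, hc, h.act_y hy, act_up_e0]
  calc r * y = (y * r * y⁻¹) * y := by rw [h1]
    _ = y * r := by group

/-- `[v, y]` in coordinates -/
theorem e_com' {v y : G} (hv : v ∈ V) (hy : y ∈ QQ D.R0) :
    D.e (v⁻¹ * y⁻¹ * v * y) = Tens.act (up (D.al y)) (up (D.be y)) (D.e v) - D.e v := by
  have h1 : y⁻¹ * v * y⁻¹⁻¹ ∈ V := (h.hN _ (inv_mem (h.Q_N hy)) v).1 hv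
  have e : v⁻¹ * y⁻¹ * v * y = v⁻¹ * (y⁻¹ * v * y⁻¹⁻¹) := by group
  rw [e, D.mul _ (inv_mem hv) _ h1, D.e_inv hv, ← act_e h.hN (inv_mem (h.Q_N hy)) hv,
    h.act_y (inv_mem hy), (h.al_inv hy).1, (h.al_inv hy).2]
  abel

theorem com_V {v y : G} (hv : v ∈ V) (hy : y ∈ QQ D.R0) : v⁻¹ * y⁻¹ * v * y ∈ V := by
  have h1 : y⁻¹ * v * y⁻¹⁻¹ ∈ V := (h.hN _ (inv_mem (h.Q_N hy)) v).1 hv
  have e : v⁻¹ * y⁻¹ * v * y = v⁻¹ * (y⁻¹ * v * y⁻¹⁻¹) := by group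
  rw [e]; exact mul_mem (inv_mem hv) h1

theorem com_perp (a b : F) {X : M2 F} (hX : X 1 1 = 0) :
    Tens.act (up a) (up b) X - X = e0 (a * X 1 0 + b * X 0 1) := by
  have _ := h
  rw [act_up]
  apply ext2 <;> simp [e0, hX]
  ring

theorem EQ {e : G} (he : e ∈ V ⊓ QQ D.R0) {y : G} (hy : y ∈ QQ D.R0) : e⁻¹ * y⁻¹ * e * y ∈ D.R0 := by
  exact ⟨h.com_V he.1 hy, D.al y * D.e e 1 0 + D.be y * D.e e 0 1, by
    rw [h.e_com' he.1 hy, h.com_perp _ _ ((h.mem_E he.1).1 he.2)]⟩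

theorem EQs {y : G} (hy : y ∈ QQ D.R0) (hyV : y ∉ centralizer (V : Set G)) {r : G} (hr : r ∈ D.R0) :
    ∃ e ∈ V ⊓ QQ D.R0, e⁻¹ * y⁻¹ * e * y = r := by
  rw [h.mem_C_iff hy, not_and_or] at hyV
  obtain ⟨hrV, c, hc⟩ := hr
  rcases hyV with h0 | h0
  · refine ⟨D.v (e2 (c / D.al y)), ⟨D.v_mem _, h.e2_mem _⟩, ?_⟩
    refine D.e_inj (h.com_V (D.v_mem _) hy) hrV ?_
    rw [h.e_com' (D.v_mem _) hy, D.e_v, h.com_perp _ _ (by simp [e2]), hc]
    congr 1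
    simp [e2]
    rw [mul_div_cancel₀ _ h0]
  · refine ⟨D.v (e1 (c / D.be y)), ⟨D.v_mem _, h.e1_mem _⟩, ?_⟩
    refine D.e_inj (h.com_V (D.v_mem _) hy) hrV ?_
    rw [h.e_com' (D.v_mem _) hy, D.e_v, h.com_perp _ _ (by simp [e1]), hc]
    congr 1
    simp [e1]
    rw [mul_div_cancel₀ _ h0]

theorem cenR {v : G} (hv : v ∈ V) (hc : ∀ y ∈ QQ D.R0, v * y = y * v) : v ∈ D.R0 := by
  refine ⟨hv, ?_⟩
  have key : ∀ a b, Tens.act (up a) (up b) (D.e v) = D.e v := by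
    intro a b
    obtain ⟨y, hy, hyA⟩ := h.U_surj a b
    rw [← hyA, act_e h.hN (h.Q_N hy) hv, ← hc y hy, mul_inv_cancel_right]
  refine ⟨D.e v 0 0, eq_e0_of_fixed ?_ ?_⟩
  · have := key 1 0; rwa [up_zero] at this
  · have := key 0 1; rwa [up_zero] at this

theorem cardQ : (centralizer (V : Set G)).relIndex (QQ D.R0) = Nat.card (F × F) :=
  Beta.Inst.relIndex_eq_card (fun y => (D.al y, D.be y))
    (fun x hx y hy => by
      obtain ⟨e1, e2⟩ := h.al_mul hx hy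
      exact Prod.ext e1 e2)
    (fun a => by
      obtain ⟨y, hy, e1, e2⟩ := h.al_surj a.1 a.2
      exact ⟨y, hy, Prod.ext e1 e2⟩)
    (fun x hx => by
      rw [h.mem_C_iff hx, Prod.mk_eq_zero])

theorem cardE' : D.R0.relIndex (V ⊓ QQ D.R0) = Nat.card (F × F) :=
  Beta.Inst.relIndex_eq_card (fun y => (D.e y 0 1, D.e y 1 0))
    (fun x hx y hy => by
      rw [D.mul x hx.1 y hy.1]; rfl)
    (fun a => ⟨D.v (e1 a.1 + e2 a.2), ⟨D.v_mem _, by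
      rw [D.v_add]; exact mul_mem (h.e1_mem _) (h.e2_mem _)⟩, by simp [e1, e2]⟩)
    (fun x hx => by
      rw [Prod.mk_eq_zero, mem_R0]
      have h11 := (h.mem_E hx.1).1 hx.2
      constructor
      · rintro ⟨h1, h2⟩
        exact ⟨hx.1, D.e x 0 0, by apply ext2 <;> simp [e0, h1, h2, h11]⟩
      · rintro ⟨-, c, hc⟩
        rw [hc]; simp [e0])

theorem cardE : (centralizer (V : Set G)).relIndex (QQ D.R0) = D.R0.relIndex (V ⊓ QQ D.R0) := by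
  rw [h.cardQ, h.cardE']

theorem VE : V ≤ (V ⊓ QQ D.R0) ⊔ D.R3 := by
  intro v hv
  have e' : v = D.v (D.e v - e3 (D.e v 1 1)) * D.v (e3 (D.e v 1 1)) := by
    rw [← D.v_add, sub_add_cancel, D.v_e hv]
  rw [e']
  refine mul_mem (mem_sup_left (mem_inf.2 ⟨D.v_mem _, (h.mem_E (D.v_mem _)).2 ?_⟩)) (mem_sup_right (v_e3 _))
  rw [D.e_v]
  simp [e3]

/-- the swap at the two base points -/
theorem swap : ∃ s ∈ N, Mv s D.R0 D.R0 ∧ Mv s D.R3 D.R3 ∧ T2 (D.act s) ∧ (∀ x, ∃ y, D.act s (e0 x) = e0 y) ∧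
    ∀ y ∈ QQ D.R0, ∃ a b, (a = 0 ↔ D.al y = 0) ∧ (b = 0 ↔ D.be y = 0) ∧
      D.al (s * y * s⁻¹) = b ∧ D.be (s * y * s⁻¹) = a := by
  obtain ⟨t, ht0, ht1⟩ := h.three
  obtain ⟨s, hs, hsT, hs0, hs3⟩ := exists_swap (D := D) h.hN ht0 ht1
  have hms := nm (D := D) h.hN hs
  refine ⟨s, hs, (fix_iff h.hN hs).2 hs0, ?_, hsT, hs0, ?_⟩
  · refine Mv.of_le ?_ le_rfl
    rintro w ⟨hw, c, hc⟩
    obtain ⟨y, hy⟩ := hs3 c
    exact ⟨(h.hN s hs w).1 hw, y, by rw [← hy, ← hc, act_e h.hN hs hw]⟩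
  · intro y hy
    obtain ⟨a1, ha1⟩ := hms.un2_left hsT hs0 (D.al y)
    obtain ⟨b1, hb1⟩ := hms.un2_right hsT hs0 (D.be y)
    have hysA : ∀ X, D.act (s * y * s⁻¹) X = Tens.act (up b1) (up a1) X := by
      intro X
      rw [act_mul h.hN (mul_mem hs (h.Q_N hy)) (inv_mem hs), act_mul h.hN hs (h.Q_N hy), h.act_y hy, act_split,
        ha1, hb1, hms.right, act_act, one_mul, mul_one]
    refine ⟨a1, b1, ⟨fun h1 => ?_, fun h1 => ?_⟩, ⟨fun h1 => ?_, fun h1 => ?_⟩, al_be hysA⟩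
    · rw [h1, up_zero] at ha1
      have h2 : ∀ X, Tens.act (up (D.al y)) 1 X = X := fun X => hms.inj (by rw [ha1, act_one])
      have h3 := (act_eq_one h2).1
      rw [← up_zero] at h3
      exact up_inj h3
    · rw [h1, up_zero] at ha1
      have h2 : ∀ X, Tens.act 1 (up a1) X = X := fun X => by
        have := ha1 (D.act s⁻¹ X)
        rw [act_one, hms.right] at this
        exact this.symm
      have h3 := (act_eq_one h2).2
      rw [← up_zero] at h3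
      exact up_inj h3
    · rw [h1, up_zero] at hb1
      have h2 : ∀ X, Tens.act 1 (up (D.be y)) X = X := fun X => hms.inj (by rw [hb1, act_one])
      have h3 := (act_eq_one h2).2
      rw [← up_zero] at h3
      exact up_inj h3
    · rw [h1, up_zero] at hb1
      have h2 : ∀ X, Tens.act (up b1) 1 X = X := fun X => by
        have := hb1 (D.act s⁻¹ X)
        rw [act_one, hms.right] at this
        exact this.symm
      have h3 := (act_eq_one h2).1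
      rw [← up_zero] at h3
      exact up_inj h3

theorem irr {W : Subgroup G} (hW : W ≤ QQ D.R0)
    (hn : ∀ m ∈ N, Mv m D.R0 D.R0 → ∀ y ∈ W, m * y * m⁻¹ ∈ W) (hne : ¬ W ≤ centralizer (V : Set G))
    {y : G} (hy : y ∈ QQ D.R0) : ∃ n ∈ W, y⁻¹ * n ∈ centralizer (V : Set G) := by
  obtain ⟨t, ht0, ht1⟩ := h.three
  obtain ⟨y0, hy0, hy0C⟩ := SetLike.not_le_iff_exists.1 hne
  have hy0Q := hW hy0
  rw [h.mem_C_iff hy0Q, not_and_or] at hy0C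
  obtain ⟨s, hs, hsR, hsR3, hsT, hs0, hsy⟩ := h.swap
  obtain ⟨a1, b1, ha1, hb1, e1, e2⟩ := hsy y0 hy0Q
  have hadd : ∀ a b a' b' : F, (∃ y ∈ W, D.al y = a ∧ D.be y = b) → (∃ y ∈ W, D.al y = a' ∧ D.be y = b') →
      ∃ y ∈ W, D.al y = a + a' ∧ D.be y = b + b' := by
    rintro a b a' b' ⟨y, hy, rfl, rfl⟩ ⟨z, hz, rfl, rfl⟩
    exact ⟨y * z, mul_mem hy hz, h.al_mul (hW hy) (hW hz)⟩
  have htor : ∀ (l m : Fˣ) (a b : F), (∃ y ∈ W, D.al y = a ∧ D.be y = b) →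
      ∃ y ∈ W, D.al y = l * l * a ∧ D.be y = m * m * b := by
    rintro l m a b ⟨y, hy, rfl, rfl⟩
    obtain ⟨t, ht, htA⟩ := lift_act (D := D) h.hN (tor l) (tor m)
    have ht0' : ∀ x, ∃ z, D.act t (e0 x) = e0 z := fun x => ⟨l * m * x, by rw [htA, act_tor_e0]⟩
    refine ⟨t * y * t⁻¹, hn t ht ((fix_iff h.hN ht).2 ht0') y hy, al_be fun X => ?_⟩
    rw [act_mul h.hN (mul_mem ht (h.Q_N (hW hy))) (inv_mem ht), act_mul h.hN ht (h.Q_N (hW hy)), h.act_y (hW hy),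
      htA, tor_act_up]
    congr 1
    rw [← htA, act_act_inv h.hN ht]
  have hysW : s * y0 * s⁻¹ ∈ W := hn s hs hsR y0 hy0
  have key : ∃ n ∈ W, D.al n = D.al y ∧ D.be n = D.be y := by
    rcases hy0C with h0 | h0
    · exact Tens.irr ht0 ht1 (W := fun a b => ∃ y ∈ W, D.al y = a ∧ D.be y = b) hadd htor
        (a0 := D.al y0) (b0 := D.be y0) (a1 := b1) (b1 := a1) ⟨y0, hy0, rfl, rfl⟩ h0
        ⟨_, hysW, e1, e2⟩ (fun h1 => h0 (ha1.1 h1)) _ _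
    · exact Tens.irr ht0 ht1 (W := fun a b => ∃ y ∈ W, D.al y = a ∧ D.be y = b) hadd htor
        (a0 := b1) (b0 := a1) (a1 := D.al y0) (b1 := D.be y0) ⟨_, hysW, e1, e2⟩ (fun h1 => h0 (hb1.1 h1))
        ⟨y0, hy0, rfl, rfl⟩ h0 _ _
  obtain ⟨n, hn', en1, en2⟩ := key
  refine ⟨n, hn', ?_⟩
  rw [h.mem_C_iff (mul_mem (inv_mem hy) (hW hn')), (h.al_mul (inv_mem hy) (hW hn')).1,
    (h.al_mul (inv_mem hy) (hW hn')).2, (h.al_inv hy).1, (h.al_inv hy).2, en1, en2]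
  exact ⟨CharTwo.add_self_eq_zero _, CharTwo.add_self_eq_zero _⟩

theorem mod_R {v w : G} (hv : v ∈ V ⊓ QQ D.R0) (hw : w ∈ V ⊓ QQ D.R0) :
    v * w⁻¹ ∈ D.R0 ↔ D.e v 0 1 = D.e w 0 1 ∧ D.e v 1 0 = D.e w 1 0 := by
  have h1 := (h.mem_E hv.1).1 hv.2
  have h2 := (h.mem_E hw.1).1 hw.2
  rw [mem_R0, D.mul _ hv.1 _ (inv_mem hw.1), D.e_inv hw.1]
  constructor
  · rintro ⟨-, c, hc⟩
    have e1 := congrArg (fun X : M2 F => X 0 1) hc
    have e2 := congrArg (fun X : M2 F => X 1 0) hc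
    simp [e0] at e1 e2
    exact ⟨by linear_combination e1, by linear_combination e2⟩
  · rintro ⟨e1, e2⟩
    refine ⟨mul_mem hv.1 (inv_mem hw.1), D.e v 0 0 - D.e w 0 0, ?_⟩
    apply ext2 <;> simp [e0, e1, e2, h1, h2]
    ring

theorem alt (b : G → G) (hb : ∀ y ∈ QQ D.R0, b y ∈ V ⊓ QQ D.R0)
    (hadd : ∀ y ∈ QQ D.R0, ∀ y' ∈ QQ D.R0, b (y * y') * (b y * b y')⁻¹ ∈ D.R0)
    (hcomm : ∀ y ∈ QQ D.R0, b y * y = y * b y)
    (hC : ∀ y ∈ QQ D.R0, y ∈ centralizer (V : Set G) → b y ∈ D.R0) :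
    ∃ r ∈ D.R3, ∀ y ∈ QQ D.R0, b y * (y⁻¹ * r⁻¹ * y * r)⁻¹ ∈ D.R0 := by
  have hadd' : ∀ y ∈ QQ D.R0, ∀ y' ∈ QQ D.R0, D.e (b (y * y')) 0 1 = D.e (b y) 0 1 + D.e (b y') 0 1 ∧
      D.e (b (y * y')) 1 0 = D.e (b y) 1 0 + D.e (b y') 1 0 := by
    intro y hy y' hy'
    have h1 := (h.mod_R (hb _ (mul_mem hy hy')) (mul_mem (hb y hy) (hb y' hy'))).1 (hadd y hy y' hy')
    rw [D.mul _ (hb y hy).1 _ (hb y' hy').1] at h1
    exact h1
  have hC' : ∀ y ∈ QQ D.R0, y ∈ centralizer (V : Set G) → D.e (b y) 0 1 = 0 ∧ D.e (b y) 1 0 = 0 := by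
    intro y hy hyC
    obtain ⟨-, c, hc⟩ := hC y hy hyC
    rw [hc]; simp [e0]
  -- well defined
  have hwd : ∀ y ∈ QQ D.R0, ∀ y' ∈ QQ D.R0, D.al y = D.al y' → D.be y = D.be y' →
      D.e (b y) 0 1 = D.e (b y') 0 1 ∧ D.e (b y) 1 0 = D.e (b y') 1 0 := by
    intro y hy y' hy' e1 e2
    have h1 : y * y'⁻¹ ∈ centralizer (V : Set G) := by
      rw [h.mem_C_iff (mul_mem hy (inv_mem hy')), (h.al_mul hy (inv_mem hy')).1,
        (h.al_mul hy (inv_mem hy')).2, (h.al_inv hy').1, (h.al_inv hy').2, e1, e2]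
      exact ⟨CharTwo.add_self_eq_zero _, CharTwo.add_self_eq_zero _⟩
    have h2 := hadd' (y * y'⁻¹) (mul_mem hy (inv_mem hy')) y' hy'
    rw [inv_mul_cancel_right] at h2
    obtain ⟨h3, h4⟩ := hC' _ (mul_mem hy (inv_mem hy')) h1
    rw [h3, h4, zero_add, zero_add] at h2
    exact h2
  choose Y hYQ hY using h.al_surj
  have key : ∀ y ∈ QQ D.R0, D.e (b y) 0 1 = D.e (b (Y (D.al y) (D.be y))) 0 1 ∧
      D.e (b y) 1 0 = D.e (b (Y (D.al y) (D.be y))) 1 0 :=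
    fun y hy => hwd y hy _ (hYQ _ _) (hY _ _).1.symm (hY _ _).2.symm
  have hfg : ∀ a b' a' b'', D.e (b (Y (a + a') (b' + b''))) 0 1 = D.e (b (Y a b')) 0 1 + D.e (b (Y a' b'')) 0 1 ∧
      D.e (b (Y (a + a') (b' + b''))) 1 0 = D.e (b (Y a b')) 1 0 + D.e (b (Y a' b'')) 1 0 := by
    intro a b' a' b''
    obtain ⟨h1, h2⟩ := hadd' _ (hYQ a b') _ (hYQ a' b'')
    obtain ⟨h3, h4⟩ := h.al_mul (hYQ a b') (hYQ a' b'')
    rw [(hY a b').1, (hY a' b'').1] at h3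
    rw [(hY a b').2, (hY a' b'').2] at h4
    obtain ⟨h5, h6⟩ := key _ (mul_mem (hYQ a b') (hYQ a' b''))
    rw [h3, h4] at h5 h6
    rw [← h5, ← h6]
    exact ⟨h1, h2⟩
  obtain ⟨l, hl⟩ := Tens.alt (f := fun a b' => D.e (b (Y a b')) 0 1) (g := fun a b' => D.e (b (Y a b')) 1 0)
    (fun a b' a' b'' => (hfg a b' a' b'').1) (fun a b' a' b'' => (hfg a b' a' b'').2) (by
      intro a b'
      have h1 := hcomm _ (hYQ a b')
      have h2 : D.e ((b (Y a b'))⁻¹ * (Y a b')⁻¹ * b (Y a b') * (Y a b')) = 0 := by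
        have e : (b (Y a b'))⁻¹ * (Y a b')⁻¹ * b (Y a b') * (Y a b') = 1 := by
          rw [mul_assoc _ (b (Y a b')), h1]; group
        rw [e, D.e_one]
      rw [h.e_com' (hb _ (hYQ a b')).1 (hYQ a b'), h.com_perp _ _ ((h.mem_E (hb _ (hYQ a b')).1).1 (hb _ (hYQ a b')).2),
        (hY a b').1, (hY a b').2] at h2
      exact e0_inj (h2.trans e0_zero.symm))
  refine ⟨D.v (e3 l), v_e3 l, fun y hy => ?_⟩
  have hr : y⁻¹ * (D.v (e3 l))⁻¹ * y * D.v (e3 l) ∈ V := by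
    have h1 : y⁻¹ * (D.v (e3 l))⁻¹ * y⁻¹⁻¹ ∈ V := (h.hN _ (inv_mem (h.Q_N hy)) _).1 (inv_mem (D.v_mem _))
    rw [inv_inv] at h1
    exact mul_mem h1 (D.v_mem _)
  have hre : D.e (y⁻¹ * (D.v (e3 l))⁻¹ * y * D.v (e3 l)) =
      e3 l - Tens.act (up (D.al y)) (up (D.be y)) (e3 l) := by
    have h1 : y⁻¹ * (D.v (e3 l))⁻¹ * y⁻¹⁻¹ ∈ V := (h.hN _ (inv_mem (h.Q_N hy)) _).1 (inv_mem (D.v_mem _))
    have e : y⁻¹ * (D.v (e3 l))⁻¹ * y * D.v (e3 l) = (y⁻¹ * (D.v (e3 l))⁻¹ * y⁻¹⁻¹) * D.v (e3 l) := by group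
    rw [e, D.mul _ h1 _ (D.v_mem _), ← act_e h.hN (inv_mem (h.Q_N hy)) (inv_mem (D.v_mem _)),
      h.act_y (inv_mem hy), (h.al_inv hy).1, (h.al_inv hy).2, D.e_inv (D.v_mem _), D.e_v]
    simp [Tens.act]
    abel
  have hrQ : y⁻¹ * (D.v (e3 l))⁻¹ * y * D.v (e3 l) ∈ QQ D.R0 := by
    rw [h.mem_E hr, hre, act_up]; simp [e3]
  rw [h.mod_R (hb y hy) ⟨hr, hrQ⟩, hre, act_up]
  obtain ⟨h1, h2⟩ := key y hy
  obtain ⟨h3, h4⟩ := hl (D.al y) (D.be y)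
  rw [h1, h2, h3, h4]
  simp [e3]
  constructor
  · rw [CharTwo.neg_eq, mul_comm]
  · rw [CharTwo.neg_eq, mul_comm]

end Cx

end Cfsg.Agent.Omega.NO1.PlusQ

end

section


/-!
# Type (γ) of the leaf N1: the structure `Bp` of THEOREM BETA (helper914)
-/

set_option autoImplicit false
set_option linter.unusedSectionVars false

namespace Cfsg.Agent.Omega.NO1.PlusQ

open Subgroup Cfsg Matrix
open Cfsg.Agent.Omega.NO1.Tens
open Cfsg.Agent.Omega.NO1.BetaPlus (Mv QQ Bp)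
open Cfsg.Agent.ZN (o2)

universe u

variable {G : Type u} [Group G] {F : Type} [Field F] {N V : Subgroup G}

variable {D : PlusQ F N V} [CharP F 2]

/-- `g` moves the points as `(A, B)` -/
theorem mv_RA (hN : ∀ m ∈ N, Mv m V V) {g : G} (hg : g ∈ N) {A B : SL F}
    (h : ∀ X, D.act g X = Tens.act A B X) (C E : SL F) : Mv g (D.RA C E) (D.RA (A * C) (B * E)) := by
  intro w
  rw [mem_RA, mem_RA, ← hN g hg w]
  refine and_congr_right fun hw => exists_congr fun c => ?_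
  rw [← act_e hN hg hw, h, ← act_act]
  constructor
  · intro h1; rw [h1]
  · intro h1; exact act_inj h1

theorem not_Bo_of_ne {i k : Option F} (hik : i ≠ k) {A T T' : SL F} (hA : A = rep i * T) (hT : Bo T)
    (hT' : Bo T') : ¬ Bo (A⁻¹ * (rep k * T')) := by
  intro hB
  apply hik
  apply rep_inj
  have h1 := (hT.mul hB).mul hT'.inv
  have e : T * (A⁻¹ * (rep k * T')) * T'⁻¹ = (rep i)⁻¹ * rep k := by rw [hA]; group
  rwa [e] at h1

theorem not_Bo_dn {a : F} (ha : a ≠ 0) : ¬ Bo (wy⁻¹ * (up a * wy) : SL F) := by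
  intro h
  apply ha
  rw [wy_inv] at h
  have e : (wy * (up a * wy) : SL F).1 = wy.1 * ((up a).1 * wy.1) := rfl
  rw [Bo, e, wy_val, up_val] at h
  simp only [Matrix.mul_apply, Fin.sum_univ_two] at h
  simpa using h

namespace Cx

theorem conj (h : Cx D) {m : G} (hm : m ∈ N) [Finite G] : Cx (D.conj h.hN m hm) := by
  have hR := conj_R0 (D := D) h.hN hm
  have hQ := hR.QQ
  refine ⟨h.hN, fun hle => h.V_Q fun v hv => ?_, fun x hx => ?_, fun x hx => ?_, h.three⟩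
  · exact (hQ v).2 (hle ((h.hN m hm v).1 hv))
  · have h1 := (hQ.inv.cen x).1 hx
    exact (hQ.inv x).2 (h.char2 h1)
  · have h1 := h.Q_N ((hQ.inv x).1 hx)
    exact ((Mv.of_mem hm).inv x).2 h1

variable [Finite G]

/-- two opposite points -/
theorem two (h : Cx D) {i k j l : Option F} (hik : i ≠ k) (hjl : j ≠ l) :
    ∃ (D' : PlusQ F N V) (m : G) (A B T T' S S' : SL F), Cx D' ∧ D'.R0 = D.R i j ∧ D'.R3 = D.R k l ∧
      (∀ C E, D'.RA C E = D.RA (A * C) (B * E)) ∧ Bo T ∧ Bo T' ∧ Bo S ∧ Bo S' ∧ A = rep i * T ∧ B = rep j * T' ∧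
      A * wy = rep k * S ∧ B * wy = rep l * S' ∧ m ∈ N ∧ (∀ X, D.act m X = Tens.act A B X) ∧
      (∀ w ∈ V, D'.e w = Tens.act A⁻¹ B⁻¹ (D.e w)) ∧
      ∀ g ∈ N, ∀ X, D'.act g X = Tens.act A⁻¹ B⁻¹ (D.act g (Tens.act A B X)) := by
  obtain ⟨A, T, S, hT, hS, eA, eA'⟩ := exists_pair' hik
  obtain ⟨B, T', S', hT', hS', eB, eB'⟩ := exists_pair' hjl
  obtain ⟨m, hm, hmA⟩ := lift_act (D := D) h.hN A B
  have key := conj_RA h.hN hm hmA
  refine ⟨D.conj h.hN m hm, m, A, B, T, T', S, S', h.conj hm, ?_, ?_, key, hT, hT', hS, hS', eA, eB, eA', eB',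
    hm, hmA, fun w hw => conj_e_eq h.hN hm hmA hw, fun g hg X => conj_act h.hN hm hmA hg X⟩
  · rw [← RA_one, key, mul_one, mul_one, eA, eB, RA_Bo _ _ hT hT']; rfl
  · rw [← RA_wy, key, eA', eB', RA_Bo _ _ hS hS']; rfl

theorem exists_ne' (i k : Option F) (h : Cx D) : ∃ c : Option F, i ≠ c ∧ c ≠ k := by
  obtain ⟨t, ht0, ht1⟩ := h.three
  match i, k with
  | none, none => exact ⟨some 0, by simp, by simp⟩
  | none, some b =>
    by_cases hb : b = 0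
    · exact ⟨some 1, by simp, by simp [hb]⟩
    · exact ⟨some 0, by simp, by simpa using fun h => hb h.symm⟩
  | some a, none =>
    by_cases ha : a = 0
    · exact ⟨some 1, by simp [ha], by simp⟩
    · exact ⟨some 0, by simpa using ha, by simp⟩
  | some a, some b => exact ⟨none, by simp, by simp⟩

/-- single points -/
theorem one (h : Cx D) (i j : Option F) : ∃ (D' : PlusQ F N V) (k l : Option F), i ≠ k ∧ j ≠ l ∧ Cx D' ∧
    D'.R0 = D.R i j ∧ D'.R3 = D.R k l := by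
  obtain ⟨k, hk, -⟩ := exists_ne' i i h
  obtain ⟨l, hl, -⟩ := exists_ne' j j h
  obtain ⟨D', m, A, B, T, T', S, S', h1, h2, h3, -⟩ := h.two hk hl
  exact ⟨D', k, l, hk, hl, h1, h2, h3⟩

theorem perm (h : Cx D) {g : G} (hg : g ∈ N) (i j : Option F) : ∃ k l, Mv g (D.R i j) (D.R k l) := by
  obtain ⟨t, ht0, ht1⟩ := h.three
  obtain ⟨a, ha, haA⟩ := lift_act (D := D) h.hN (rep i) (rep j)
  have hag : g * a ∈ N := mul_mem hg ha
  obtain ⟨A, B, c, hc⟩ := exists_e0 ((nm (D := D) h.hN hag).det_eq_zero ht0 ht1 (det_e0 1))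
  obtain ⟨b, hb, hbA⟩ := lift_act (D := D) h.hN A B
  have hmem : b⁻¹ * (g * a) ∈ N := mul_mem (inv_mem hb) hag
  have h0 : D.act (b⁻¹ * (g * a)) (e0 1) = e0 c := by
    rw [act_mul h.hN (inv_mem hb) hag, hc, act_inv_of h.hN hb hbA, Tens.act_inv_act]
  have h1 := (fix_iff h.hN hmem).2 ((nm (D := D) h.hN hmem).fix0 ht0 ht1 one_ne_zero h0)
  have h2 := mv_RA h.hN ha haA 1 1
  have h3 := mv_RA h.hN hb hbA 1 1
  rw [mul_one, mul_one, RA_one] at h2 h3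
  have h4 := (h3.mul h1).mul h2.inv
  have e : b * (b⁻¹ * (g * a)) * a⁻¹ = g := by group
  rw [e] at h4
  obtain ⟨k, l, -, -, -, -, -, -, e2⟩ := exists_R (D := D) A B
  rw [e2] at h4
  exact ⟨k, l, h4⟩

variable [Finite F]

theorem mv_R3 (h : Cx D) {y : G} (hy : y ∈ QQ D.R0) :
    Mv y D.R3 (D.RA (up (D.al y) * wy) (up (D.be y) * wy)) := by
  rw [← RA_wy]
  exact mv_RA h.hN (h.Q_N hy) (h.act_y hy) _ _

theorem tran (h : Cx D) {i j i1 j1 i2 j2 : Option F} (h1 : i ≠ i1) (h2 : j ≠ j1) (h3 : i ≠ i2) (h4 : j ≠ j2) :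
    ∃ y ∈ QQ (D.R i j), Mv y (D.R i1 j1) (D.R i2 j2) := by
  obtain ⟨D', m, A, B, T, T', S, S', hD, eR0, eR3, hRA, hT, hT', hS, hS', eA, eB, eA', eB', -⟩ := h.two h1 h2
  obtain ⟨a, U, hU, eU⟩ := big (not_Bo_of_ne h3 eA hT Bo.one)
  obtain ⟨b, U', hU', eU'⟩ := big (not_Bo_of_ne h4 eB hT' Bo.one)
  obtain ⟨y, hy, hya, hyb⟩ := hD.al_surj a b
  refine ⟨y, by rwa [← eR0], ?_⟩
  have h5 := hD.mv_R3 hy
  rw [hya, hyb, eR3, ← RA_Bo _ _ hU hU', ← eU, ← eU', hRA] at h5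
  rw [mul_inv_cancel_left, mul_inv_cancel_left, mul_one, mul_one] at h5
  exact h5

/-- the points moved by `y ∈ Q` with both coordinates `≠ 0` -/
theorem half_mv (h : Cx D) {i j k l : Option F} {A B S S' : SL F} (hS : Bo S) (hS' : Bo S') (eA' : A * wy = rep k * S)
    (eB' : B * wy = rep l * S') {D' : PlusQ F N V} (hD : Cx D') (eR3 : D'.R3 = D.R k l)
    (hRA : ∀ C E, D'.RA C E = D.RA (A * C) (B * E)) {y : G} (hy : y ∈ QQ D'.R0) (ha : D'.al y ≠ 0)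
    (hb : D'.be y ≠ 0) : ∃ k' l', k ≠ k' ∧ l ≠ l' ∧ Mv y (D.R k l) (D.R k' l') := by
  have _ := h
  have h5 := hD.mv_R3 hy
  rw [eR3, hRA] at h5
  obtain ⟨k', l', U, U', hU, hU', e1, e2, e3⟩ := exists_R (D := D) (A * (up (D'.al y) * wy)) (B * (up (D'.be y) * wy))
  rw [e3] at h5
  refine ⟨k', l', ?_, ?_, h5⟩
  · rintro rfl
    apply not_Bo_dn ha
    have h6 : wy⁻¹ * (up (D'.al y) * wy) = S⁻¹ * U := by
      have h7 : A = rep k * S * wy⁻¹ := by rw [← eA', mul_inv_cancel_right]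
      rw [h7] at e1
      have h8 : rep k * (S * (wy⁻¹ * (up (D'.al y) * wy))) = rep k * U := by
        rw [← e1]; group
      have h9 := mul_left_cancel h8
      rw [← h9, inv_mul_cancel_left]
    rw [h6]
    exact hS.inv.mul hU
  · rintro rfl
    apply not_Bo_dn hb
    have h6 : wy⁻¹ * (up (D'.be y) * wy) = S'⁻¹ * U' := by
      have h7 : B = rep l * S' * wy⁻¹ := by rw [← eB', mul_inv_cancel_right]
      rw [h7] at e2
      have h8 : rep l * (S' * (wy⁻¹ * (up (D'.be y) * wy))) = rep l * U' := by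
        rw [← e2]; group
      have h9 := mul_left_cancel h8
      rw [← h9, inv_mul_cancel_left]
    rw [h6]
    exact hS'.inv.mul hU'

end Cx

/-- opposite points -/
def Op (p q : Option F × Option F) : Prop := p.1 ≠ q.1 ∧ p.2 ≠ q.2

/-- **The structure `Bp`.** -/
theorem bp [Finite G] [Finite F] (h : Cx D) (meet : ∀ W : Subgroup G, IsPGroup 2 W → W ≤ N →
    (∀ m ∈ N, ∀ y ∈ W, m * y * m⁻¹ ∈ W) → W ⊓ V = ⊥ → W = ⊥) :
    Bp F N V (fun p : Option F × Option F => D.R p.1 p.2) Op where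
  comm a ha b hb := D.comm ha hb
  sq a ha := D.sq ha
  M_V := h.hN
  R_le p := RA_le _ _
  RQ p r hr y hy := by
    obtain ⟨D', k, l, hk, hl, hD, e0, e3⟩ := h.one p.1 p.2
    rw [← e0] at hr hy
    exact hD.RQ hr hy
  ne p := by
    obtain ⟨D', k, l, hk, hl, hD, e0, e3⟩ := h.one p.1 p.2
    intro h1
    have h2 : Nat.card D'.R0 = 1 := by rw [e0, h1]; exact Subgroup.card_bot
    rw [card_R0] at h2
    have := (Nat.card_eq_one_iff_unique.1 h2).1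
    exact one_ne_zero (Subsingleton.elim (1 : F) 0)
  cardR p := by
    obtain ⟨D', k, l, hk, hl, hD, e0, e3⟩ := h.one p.1 p.2
    rw [← card_R0 (D := D'), e0]
  three := h.three
  disj p q hpq := by
    obtain ⟨D', m, A, B, T, T', S, S', hD, eR0, eR3, -⟩ := h.two hpq.1 hpq.2
    rw [← eR0, ← eR3]; exact R0_inf_R3
  symm p q hpq := ⟨hpq.1.symm, hpq.2.symm⟩
  conn p q := by
    obtain ⟨c, h1, h2⟩ := Cx.exists_ne' p.1 q.1 h
    obtain ⟨d, h3, h4⟩ := Cx.exists_ne' p.2 q.2 h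
    exact ⟨(c, d), ⟨h1, h3⟩, h2, h4⟩
  perm m hm p := by
    obtain ⟨k, l, h1⟩ := h.perm hm p.1 p.2
    exact ⟨(k, l), h1⟩
  tran p q r hpq hpr := h.tran hpq.1 hpq.2 hpr.1 hpr.2
  Q_M p := by
    obtain ⟨D', k, l, hk, hl, hD, e0, e3⟩ := h.one p.1 p.2
    rw [← e0]; exact hD.Q_N
  V_Q p := by
    obtain ⟨D', k, l, hk, hl, hD, e0, e3⟩ := h.one p.1 p.2
    rw [← e0]; exact hD.V_Q
  char2 p := by
    obtain ⟨D', k, l, hk, hl, hD, e0, e3⟩ := h.one p.1 p.2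
    rw [← e0]; exact hD.char2
  EQ p e he y hy := by
    obtain ⟨D', k, l, hk, hl, hD, e0, e3⟩ := h.one p.1 p.2
    rw [← e0] at he hy ⊢; exact hD.EQ he hy
  EQs p y hy hyV r hr := by
    obtain ⟨D', k, l, hk, hl, hD, e0, e3⟩ := h.one p.1 p.2
    rw [← e0] at hy hr ⊢; exact hD.EQs hy hyV hr
  cenR p v hv hc := by
    obtain ⟨D', k, l, hk, hl, hD, e0, e3⟩ := h.one p.1 p.2
    rw [← e0] at hc ⊢; exact hD.cenR hv hc
  cardE p := by
    obtain ⟨D', k, l, hk, hl, hD, e0, e3⟩ := h.one p.1 p.2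
    rw [← e0]; exact hD.cardE
  irr p W hW hn hne y hy := by
    obtain ⟨D', k, l, hk, hl, hD, e0, e3⟩ := h.one p.1 p.2
    rw [← e0] at hW hn hy; exact hD.irr hW hn hne hy
  meet := meet
  alt p q hpq b hb hadd hcomm hC := by
    obtain ⟨D', m, A, B, T, T', S, S', hD, eR0, eR3, -⟩ := h.two hpq.1 hpq.2
    rw [← eR0] at hb hadd hcomm hC ⊢
    rw [← eR3]
    exact hD.alt b hb hadd hcomm hC
  half p q hpq := by
    obtain ⟨D', m, A, B, T, T', S, S', hD, eR0, eR3, hRA, hT, hT', hS, hS', eA, eB, eA', eB', -⟩ := h.two hpq.1 hpq.2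
    rw [← eR0]
    refine ⟨D'.al, D'.be, fun y hy y' hy' => hD.al_mul hy hy', fun y hy => hD.mem_C_iff hy, hD.al_surj,
      fun y hy ha hb => ?_, ?_⟩
    · obtain ⟨k', l', h1, h2, h3⟩ := h.half_mv (i := p.1) (j := p.2) hS hS' eA' eB' hD eR3 hRA hy ha hb
      exact ⟨(k', l'), ⟨h1, h2⟩, h3⟩
    · obtain ⟨s, hs, hsR, hsR3, -, -, hsy⟩ := hD.swap
      refine ⟨s, hs, hsR, by rw [← eR3]; exact hsR3, fun y hy => ?_⟩
      obtain ⟨a, b, h1, h2, h3, h4⟩ := hsy y hy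
      rw [h3, h4]
      exact ⟨h2, h1⟩

end Cfsg.Agent.Omega.NO1.PlusQ

end

section


/-!
# Type (γ) of the leaf N1: the Sylow group, fields of `All.NOne.Core` (helper983)

`S` a Sylow 2-subgroup of `G` with `S ≤ N`, `S ≤ N_G(R₀)`.
* `Cx.s_triv`, `Cx.s_quo`, `Cx.s_two`, `Cx.s_cenE`, `Cx.s_bas`, `Cx.s_ns`;
* `Cx.s_swap` : `S` contains an element interchanging the factors.
-/

set_option autoImplicit false
set_option linter.unusedSectionVars false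

namespace Cfsg.Agent.Omega.NO1.PlusQ

open Subgroup Cfsg Matrix
open Cfsg.Agent.Omega.NO1.Tens
open Cfsg.Agent.Omega.NO1.BetaPlus (Mv QQ)
open Cfsg.Agent.ZN (o2)

universe u

variable {G : Type u} [Group G] {F : Type} [Field F] {N V : Subgroup G}

/-- the coordinates of `All.NOne.Core` -/
noncomputable def cE (D : PlusQ F N V) (a : F) (b : F × F) (d : F) : G := D.v !![a, b.1; b.2, d]

theorem e_cE (D : PlusQ F N V) (a : F) (b : F × F) (d : F) : D.e (D.cE a b d) = !![a, b.1; b.2, d] := D.e_v _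

theorem cE_mem (D : PlusQ F N V) (a : F) (b : F × F) (d : F) : D.cE a b d ∈ V := D.v_mem _

variable {D : PlusQ F N V}

section

variable (hN : ∀ m ∈ N, Mv m V V)
include hN

theorem conj_eq_iff {x : G} (hx : x ∈ N) {v w : G} (hv : v ∈ V) (hw : w ∈ V) :
    x * v * x⁻¹ = w ↔ D.act x (D.e v) = D.e w := by
  rw [act_e hN hx hv]
  exact ⟨fun h => by rw [h], fun h => D.e_inj ((hN x hx v).1 hv) hw h⟩

theorem e_comm_one {x : G} (hx : x ∈ N) (X : M2 F) :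
    D.e (x * D.v X * x⁻¹ * (D.v X)⁻¹) = D.act x X - X := by
  rw [D.mul _ ((hN x hx _).1 (D.v_mem X)) _ (inv_mem (D.v_mem X)), D.e_inv (D.v_mem X), D.e_v, sub_eq_add_neg]
  rfl

end

namespace Cx

variable [CharP F 2] [Finite G] [Finite F] (h : Cx D)
include h

section twoel

variable {x : G} (hx : x ∈ N) (hxR : x ∈ normalizer (D.R0 : Set G)) {k : ℕ} (hk : x ^ 2 ^ k = 1)
include hx hxR hk

theorem x_ord (X : M2 F) : (D.act x)^[2 ^ k] X = X := by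
  have _ := hxR
  rw [act_pow h.hN hx, hk, act]
  have e : 1 * D.v X * (1 : G)⁻¹ = D.v X := by group
  rw [e, D.e_v]

theorem x_triv (h1 : ∀ v ∈ V, x * v * x⁻¹ * v⁻¹ ∈ QQ D.R0) : x ∈ centralizer (D.R0 : Set G) := by
  obtain ⟨t, ht0, ht1⟩ := h.three
  have h0 := (fix_iff h.hN hx).1 (Mv.of_nor hxR)
  have hm := nm (D := D) h.hN hx
  have h2 : ∀ X, D.act x X 1 1 = X 1 1 := by
    intro X
    have h3 := h1 _ (D.v_mem X)
    have h4 : x * D.v X * x⁻¹ * (D.v X)⁻¹ ∈ V := mul_mem ((h.hN x hx _).1 (D.v_mem X)) (inv_mem (D.v_mem X))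
    rw [h.mem_E h4, e_comm_one (D := D) h.hN hx, Matrix.sub_apply] at h3
    exact sub_eq_zero.1 h3
  have h3 := hm.triv ht0 ht1 h0 (h.x_ord hx hxR hk) h2
  rw [mem_centralizer_iff]
  rintro r ⟨hr, c, hc⟩
  have h4 : x * r * x⁻¹ = r := by
    rw [conj_eq_iff (D := D) h.hN hx hr hr, hc]
    exact h3 c
  calc r * x = x * r * x⁻¹ * x := by rw [h4]
    _ = x * r := by group

theorem x_e0 (h1 : x ∈ centralizer (D.R0 : Set G)) (c : F) : D.act x (e0 c) = e0 c := by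
  have _ := hk
  have h2 := (mem_centralizer_iff.1 h1) _ (v_e0 (D := D) c)
  have h3 : x * D.v (e0 c) * x⁻¹ = D.v (e0 c) := by rw [← h2]; group
  rw [conj_eq_iff (D := D) h.hN hx (D.v_mem _) (D.v_mem _), D.e_v] at h3
  exact h3

theorem x_quo (h1 : x ∈ centralizer (D.R0 : Set G)) : ∀ v ∈ V, x * v * x⁻¹ * v⁻¹ ∈ QQ D.R0 := by
  obtain ⟨t, ht0, ht1⟩ := h.three
  have h0 := (fix_iff h.hN hx).1 (Mv.of_nor hxR)
  have hm := nm (D := D) h.hN hx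
  have h2 := hm.quo ht0 ht1 h0 (h.x_ord hx hxR hk) (h.x_e0 hx hxR hk h1)
  intro v hv
  have h4 : x * v * x⁻¹ * v⁻¹ ∈ V := mul_mem ((h.hN x hx _).1 hv) (inv_mem hv)
  have h5 := e_comm_one (D := D) h.hN hx (D.e v)
  rw [D.v_e hv] at h5
  rw [h.mem_E h4, h5, Matrix.sub_apply, h2, sub_self]

theorem x_T1 (h1 : x ∈ centralizer (D.R0 : Set G)) (hT : T1 (D.act x)) :
    ∃ y ∈ QQ D.R0, x * y⁻¹ ∈ centralizer (V : Set G) := by
  obtain ⟨t, ht0, ht1⟩ := h.three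
  have h0 := (fix_iff h.hN hx).1 (Mv.of_nor hxR)
  have hm := nm (D := D) h.hN hx
  obtain ⟨a, b, hab⟩ := hm.mem_U' ht0 ht1 h0 (h.x_ord hx hxR hk) hT (h.x_e0 hx hxR hk h1)
  obtain ⟨y, hy, hyA⟩ := h.U_surj a b
  refine ⟨y, hy, ?_⟩
  have hyN := h.Q_N hy
  rw [← act_one_iff (D := D) h.hN (mul_mem hx (inv_mem hyN))]
  intro X
  rw [act_mul h.hN hx (inv_mem hyN), hab, ← hyA, act_act_inv h.hN hyN]

theorem x_cenE (h1 : ∀ a b, x * D.cE a b 0 = D.cE a b 0 * x) : x ∈ centralizer (V : Set G) := by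
  obtain ⟨t, ht0, ht1⟩ := h.three
  have h0 := (fix_iff h.hN hx).1 (Mv.of_nor hxR)
  have hm := nm (D := D) h.hN hx
  rw [← act_one_iff (D := D) h.hN hx]
  apply hm.cenE ht0 ht1 h0 (h.x_ord hx hxR hk)
  intro X hX
  have h2 : x * D.cE (X 0 0) (X 0 1, X 1 0) 0 * x⁻¹ = D.cE (X 0 0) (X 0 1, X 1 0) 0 := by rw [h1]; group
  rw [conj_eq_iff (D := D) h.hN hx (D.cE_mem _ _ _) (D.cE_mem _ _ _), D.e_cE] at h2
  have h3 : X = !![X 0 0, X 0 1; X 1 0, 0] := by apply ext2 <;> simp [hX]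
  rw [h3]
  exact h2

end twoel

theorem T1_or_T2 {x : G} (hx : x ∈ N) : T1 (D.act x) ∨ T2 (D.act x) := by
  obtain ⟨t, ht0, ht1⟩ := h.three
  exact (nm (D := D) h.hN hx).dich ht0 ht1

theorem act_comp {x y : G} (hx : x ∈ N) (hy : y ∈ N) : D.act (x * y) = fun X => D.act x (D.act y X) := by
  funext X
  exact act_mul h.hN hx hy X

theorem T1_one : T1 (D.act 1) := by
  have e : D.act 1 = fun X => X := by
    funext X
    have e1 : 1 * D.v X * (1 : G)⁻¹ = D.v X := by group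
    rw [act, e1, D.e_v]
  rw [e]
  exact ⟨fun A => ⟨A, fun _ => rfl⟩, fun A => ⟨A, fun _ => rfl⟩⟩

theorem T1_sq_pow {x : G} (hx : x ∈ N) (n : ℕ) : T1 (D.act ((x * x) ^ n)) := by
  induction n with
  | zero => rw [pow_zero]; exact h.T1_one
  | succ n ih =>
    rw [pow_succ, h.act_comp (pow_mem (mul_mem hx hx) n) (mul_mem hx hx)]
    refine T1_comp ih ?_
    rw [h.act_comp hx hx]
    rcases h.T1_or_T2 hx with hT | hT
    · exact T1_comp hT hT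
    · exact T2_comp hT hT

theorem T2_conj {x n : G} (hx : x ∈ N) (hn : n ∈ N) (hT : T2 (D.act x)) : T2 (D.act (n⁻¹ * x * n)) := by
  obtain ⟨t, ht0, ht1⟩ := h.three
  have hm := nm (D := D) h.hN hn
  have e : D.act (n⁻¹ * x * n) = fun X => D.act n⁻¹ (D.act x (D.act n X)) := by
    funext X
    rw [act_mul h.hN (mul_mem (inv_mem hn) hx) hn, act_mul h.hN (inv_mem hn) hx]
  rw [e]
  rcases h.T1_or_T2 hn with hn1 | hn2
  · exact T1_T2_comp (hm.T1_symm hn1) (T2_T1_comp hT hn1)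
  · exact T2_T1_comp (hm.T2_symm hn2) (T2_comp hT hn2)

variable (S : Sylow 2 G) (hSN : (S : Subgroup G) ≤ N)
include hSN

/-- `S` interchanges the two factors. -/
theorem s_swap : ∃ s ∈ S, T2 (D.act s) := by
  obtain ⟨t, ht0, ht1⟩ := h.three
  obtain ⟨s, hs, hT⟩ := exists_T2 (D := D) h.hN ht0 ht1
  -- the 2-part of `s`
  obtain ⟨k, m, hm, hn⟩ := Nat.exists_eq_two_pow_mul_odd (orderOf_pos s).ne'
  obtain ⟨j, hj⟩ := hm
  have hs' : s ^ m ∈ N := pow_mem hs m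
  have hT' : T2 (D.act (s ^ m)) := by
    have e : s ^ m = s * (s * s) ^ j := by
      rw [hj, pow_succ', pow_mul, pow_two]
    rw [e, h.act_comp hs (pow_mem (mul_mem hs hs) j)]
    exact T2_T1_comp hT (h.T1_sq_pow hs j)
  have hord : (s ^ m) ^ 2 ^ k = 1 := by
    rw [← pow_mul, mul_comm m, ← hn, pow_orderOf_eq_one]
  have hA : IsPGroup 2 (zpowers (s ^ m)) := by
    rw [IsPGroup.iff_orderOf]
    rintro ⟨y, hy⟩
    obtain ⟨i, rfl⟩ := mem_zpowers_iff.1 hy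
    rw [orderOf_mk]
    have h1 : orderOf ((s ^ m) ^ i) ∣ 2 ^ k := by
      apply orderOf_dvd_of_pow_eq_one
      rw [← zpow_natCast, ← _root_.zpow_mul, mul_comm, _root_.zpow_mul, zpow_natCast, hord, _root_.one_zpow]
    obtain ⟨l, -, hl⟩ := (Nat.dvd_prime_pow Nat.prime_two).1 h1
    exact ⟨l, hl⟩
  obtain ⟨n, hnN, hn'⟩ := All.NOne.exists_conj_sylow S hSN hA (zpowers_le.2 hs')
  exact ⟨_, hn' _ (mem_zpowers _), h.T2_conj hs' hnN hT'⟩

variable (hSR : (S : Subgroup G) ≤ normalizer (D.R0 : Set G))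
include hSR

theorem s_ord {x : G} (hx : x ∈ S) : ∃ k : ℕ, x ^ 2 ^ k = 1 := by
  have _ := h
  have _ := hSN
  have _ := hSR
  obtain ⟨k, hk⟩ := S.isPGroup' ⟨x, hx⟩
  exact ⟨k, by simpa using congrArg Subtype.val hk⟩

theorem s_triv : ∀ x ∈ (S : Subgroup G), (∀ v ∈ V, x * v * x⁻¹ * v⁻¹ ∈ QQ D.R0) →
    x ∈ centralizer (D.R0 : Set G) := by
  intro x hx h1
  obtain ⟨k, hk⟩ := h.s_ord S hSN hSR hx
  exact h.x_triv (hSN hx) (hSR hx) hk h1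

theorem s_quo : ∀ x ∈ (S : Subgroup G), x ∈ centralizer (D.R0 : Set G) →
    ∀ v ∈ V, x * v * x⁻¹ * v⁻¹ ∈ QQ D.R0 := by
  intro x hx h1
  obtain ⟨k, hk⟩ := h.s_ord S hSN hSR hx
  exact h.x_quo (hSN hx) (hSR hx) hk h1

theorem s_two : ∀ s ∈ (S : Subgroup G), s ∈ centralizer (D.R0 : Set G) → ∀ t ∈ (S : Subgroup G),
    t ∈ centralizer (D.R0 : Set G) →
    (∃ y ∈ QQ D.R0, s * y⁻¹ ∈ centralizer (V : Set G)) ∨ (∃ y ∈ QQ D.R0, t * y⁻¹ ∈ centralizer (V : Set G)) ∨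
      (∃ y ∈ QQ D.R0, s * t * y⁻¹ ∈ centralizer (V : Set G)) := by
  intro s hs hs1 t ht ht1
  obtain ⟨k, hk⟩ := h.s_ord S hSN hSR hs
  obtain ⟨l, hl⟩ := h.s_ord S hSN hSR ht
  obtain ⟨m, hm⟩ := h.s_ord S hSN hSR (mul_mem hs ht)
  rcases h.T1_or_T2 (hSN hs) with h1 | h1
  · exact Or.inl (h.x_T1 (hSN hs) (hSR hs) hk hs1 h1)
  rcases h.T1_or_T2 (hSN ht) with h2 | h2
  · exact Or.inr (Or.inl (h.x_T1 (hSN ht) (hSR ht) hl ht1 h2))
  refine Or.inr (Or.inr (h.x_T1 (hSN (mul_mem hs ht)) (hSR (mul_mem hs ht)) hm (mul_mem hs1 ht1) ?_))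
  rw [h.act_comp (hSN hs) (hSN ht)]
  exact T2_comp h1 h2

theorem s_cenE : ∀ s ∈ (S : Subgroup G), (∀ a b, s * D.cE a b 0 = D.cE a b 0 * s) →
    s ∈ centralizer (V : Set G) := by
  intro x hx h1
  obtain ⟨k, hk⟩ := h.s_ord S hSN hSR hx
  exact h.x_cenE (hSN hx) (hSR hx) hk h1

theorem s_bas : ∀ c : F × F, c ≠ 0 → ∃ k, (k ∈ centralizer (D.R0 : Set G) ∨ k ∈ (S : Subgroup G)) ∧
    ∀ b : F × F, ∃ (a : F) (f f' : F),
      D.cE 0 b 0 = D.cE a 0 0 * D.cE 0 (f • c) 0 * (k * D.cE 0 (f' • c) 0 * k⁻¹) := by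
  obtain ⟨t, ht0, ht1⟩ := h.three
  intro c hc
  by_cases hc1 : c.1 = 0
  · -- `c = (0, c₂)`
    have hc2 : c.2 ≠ 0 := fun hc2 => hc (Prod.ext hc1 hc2)
    obtain ⟨s, hs, hT⟩ := h.s_swap S hSN
    have h0 := (fix_iff h.hN (hSN hs)).1 (Mv.of_nor (hSR hs))
    obtain ⟨a, P, hP, -, hsP⟩ := (nm (D := D) h.hN (hSN hs)).swap_e2 ht0 ht1 h0 hT
    refine ⟨s, Or.inr hs, fun b => ?_⟩
    obtain ⟨z, hz⟩ := hP.2 b.1
    refine ⟨a * P z, b.2 / c.2, z / c.2, ?_⟩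
    have hv : s * D.cE 0 ((z / c.2) • c) 0 * s⁻¹ ∈ V := (h.hN s (hSN hs) _).1 (D.cE_mem _ _ _)
    refine D.e_inj (D.cE_mem _ _ _) (mul_mem (mul_mem (D.cE_mem _ _ _) (D.cE_mem _ _ _)) hv) ?_
    rw [D.mul _ (mul_mem (D.cE_mem _ _ _) (D.cE_mem _ _ _)) _ hv, D.mul _ (D.cE_mem _ _ _) _ (D.cE_mem _ _ _),
      ← act_e h.hN (hSN hs) (D.cE_mem _ _ _)]
    have e1 : D.e (D.cE 0 ((z / c.2) • c) 0) = e2 z := by
      rw [D.e_cE]
      apply ext2 <;> simp [e2, hc1, hc2]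
    rw [e1, hsP, hz, D.e_cE, D.e_cE, D.e_cE]
    apply ext2 <;> simp [e0, hc1, hc2, CharTwo.add_self_eq_zero, Tens.e1]
  by_cases hc2 : c.2 = 0
  · obtain ⟨s, hs, hT⟩ := h.s_swap S hSN
    have h0 := (fix_iff h.hN (hSN hs)).1 (Mv.of_nor (hSR hs))
    obtain ⟨a, P, hP, -, hsP⟩ := (nm (D := D) h.hN (hSN hs)).swap_e1 ht0 ht1 h0 hT
    refine ⟨s, Or.inr hs, fun b => ?_⟩
    obtain ⟨z, hz⟩ := hP.2 b.2
    refine ⟨a * P z, b.1 / c.1, z / c.1, ?_⟩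
    have hv : s * D.cE 0 ((z / c.1) • c) 0 * s⁻¹ ∈ V := (h.hN s (hSN hs) _).1 (D.cE_mem _ _ _)
    refine D.e_inj (D.cE_mem _ _ _) (mul_mem (mul_mem (D.cE_mem _ _ _) (D.cE_mem _ _ _)) hv) ?_
    rw [D.mul _ (mul_mem (D.cE_mem _ _ _) (D.cE_mem _ _ _)) _ hv, D.mul _ (D.cE_mem _ _ _) _ (D.cE_mem _ _ _),
      ← act_e h.hN (hSN hs) (D.cE_mem _ _ _)]
    have e1' : D.e (D.cE 0 ((z / c.1) • c) 0) = e1 z := by
      rw [D.e_cE]
      apply ext2 <;> simp [Tens.e1, hc1, hc2]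
    rw [e1', hsP, hz, D.e_cE, D.e_cE, D.e_cE]
    apply ext2 <;> simp [e0, e2, hc1, hc2, CharTwo.add_self_eq_zero]
  · -- the torus
    obtain ⟨k, hk, hkA⟩ := lift_act (D := D) h.hN (tor (Units.mk0 t ht0)) (tor (Units.mk0 t ht0)⁻¹)
    have hkR : k ∈ centralizer (D.R0 : Set G) := by
      rw [mem_centralizer_iff]
      rintro r ⟨hr, x, hx⟩
      have h4 : k * r * k⁻¹ = r := by
        rw [conj_eq_iff (D := D) h.hN hk hr hr, hx, hkA, act_tor_e0]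
        simp [ht0]
      calc r * k = k * r * k⁻¹ * k := by rw [h4]
        _ = k * r := by group
    refine ⟨k, Or.inl hkR, fun b => ?_⟩
    -- `b = f c + f' (t² c₁, t⁻² c₂)`
    have hdet : t ^ 2 + (t ^ 2)⁻¹ ≠ 0 := by
      intro h0
      have h1 : t ^ 2 = (t ^ 2)⁻¹ := CharTwo.add_eq_zero.1 h0
      have h2 : t ^ 2 * t ^ 2 = 1 := by
        nth_rewrite 1 [h1]
        exact inv_mul_cancel₀ (pow_ne_zero 2 ht0)
      have h3 := eq_one_of_sq h2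
      rw [pow_two] at h3
      exact ht1 (eq_one_of_sq h3)
    set w := t ^ 2 + (t ^ 2)⁻¹ with hw
    set p := b.1 / c.1 with hp
    set r := b.2 / c.2 with hr
    have hp1 : p * c.1 = b.1 := div_mul_cancel₀ _ hc1
    have hr1 : r * c.2 = b.2 := div_mul_cancel₀ _ hc2
    have ht2 : t ^ 2 ≠ 0 := pow_ne_zero 2 ht0
    refine ⟨0, ((t ^ 2)⁻¹ * p + t ^ 2 * r) / w, (p + r) / w, ?_⟩
    have hv : k * D.cE 0 (((p + r) / w) • c) 0 * k⁻¹ ∈ V := (h.hN k hk _).1 (D.cE_mem _ _ _)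
    refine D.e_inj (D.cE_mem _ _ _) (mul_mem (mul_mem (D.cE_mem _ _ _) (D.cE_mem _ _ _)) hv) ?_
    rw [D.mul _ (mul_mem (D.cE_mem _ _ _) (D.cE_mem _ _ _)) _ hv, D.mul _ (D.cE_mem _ _ _) _ (D.cE_mem _ _ _),
      ← act_e h.hN hk (D.cE_mem _ _ _), hkA, D.e_cE, D.e_cE, D.e_cE, D.e_cE, act_tor]
    have k1 : b.1 = ((t ^ 2)⁻¹ * p + t ^ 2 * r) / w * c.1 + t * t * ((p + r) / w * c.1) := by
      have : ((t ^ 2)⁻¹ * p + t ^ 2 * r) / w + t * t * ((p + r) / w) = p := by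
        have e3 : ((t ^ 2)⁻¹ * p + t ^ 2 * r) / w + t * t * ((p + r) / w) =
            ((t ^ 2)⁻¹ * p + t ^ 2 * r + t * t * (p + r)) / w := by ring
        rw [e3, div_eq_iff hdet, hw]
        have : t ^ 2 * r + t * t * r = 0 := by rw [← pow_two]; exact CharTwo.add_self_eq_zero _
        linear_combination this
      calc b.1 = p * c.1 := hp1.symm
        _ = (((t ^ 2)⁻¹ * p + t ^ 2 * r) / w + t * t * ((p + r) / w)) * c.1 := by rw [this]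
        _ = _ := by ring
    have k2 : b.2 = ((t ^ 2)⁻¹ * p + t ^ 2 * r) / w * c.2 + t⁻¹ * t⁻¹ * ((p + r) / w * c.2) := by
      have : ((t ^ 2)⁻¹ * p + t ^ 2 * r) / w + t⁻¹ * t⁻¹ * ((p + r) / w) = r := by
        have e3 : ((t ^ 2)⁻¹ * p + t ^ 2 * r) / w + t⁻¹ * t⁻¹ * ((p + r) / w) =
            ((t ^ 2)⁻¹ * p + t ^ 2 * r + t⁻¹ * t⁻¹ * (p + r)) / w := by ring
        rw [e3, div_eq_iff hdet, hw]
        have : (t ^ 2)⁻¹ * p + t⁻¹ * t⁻¹ * p = 0 := by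
          rw [← mul_inv, ← pow_two]; exact CharTwo.add_self_eq_zero _
        have e2 : t⁻¹ * t⁻¹ = (t ^ 2)⁻¹ := by rw [← mul_inv, ← pow_two]
        rw [e2] at this ⊢
        linear_combination this
      calc b.2 = r * c.2 := hr1.symm
        _ = (((t ^ 2)⁻¹ * p + t ^ 2 * r) / w + t⁻¹ * t⁻¹ * ((p + r) / w)) * c.2 := by rw [this]
        _ = _ := by ring
    apply ext2
    · simp
    · simpa using k1
    · simpa using k2
    · simp

theorem s_ns : ∀ b : F × F, b ≠ 0 → b.1 * b.2 ≠ 0 ∨ ∃ s ∈ (S : Subgroup G), ∀ a, ∃ (a' : F) (b' : F × F),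
    s * D.cE a b 0 * s⁻¹ = D.cE a' b' 0 ∧ (b + b').1 * (b + b').2 ≠ 0 := by
  obtain ⟨t, ht0, ht1⟩ := h.three
  intro b hb
  by_cases hb1 : b.1 = 0
  · right
    have hb2 : b.2 ≠ 0 := fun hb2 => hb (Prod.ext hb1 hb2)
    obtain ⟨s, hs, hT⟩ := h.s_swap S hSN
    have h0 := (fix_iff h.hN (hSN hs)).1 (Mv.of_nor (hSR hs))
    have hm := nm (D := D) h.hN (hSN hs)
    obtain ⟨a', P, hP, hP0, hsP⟩ := hm.swap_e2 ht0 ht1 h0 hT
    refine ⟨s, hs, fun a => ?_⟩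
    obtain ⟨y, hy⟩ := h0 a
    refine ⟨y + a' * P b.2, (P b.2, 0), ?_, ?_⟩
    · rw [conj_eq_iff (D := D) h.hN (hSN hs) (D.cE_mem _ _ _) (D.cE_mem _ _ _), D.e_cE, D.e_cE]
      have e : (!![a, b.1; b.2, 0] : M2 F) = e0 a + e2 b.2 := by apply ext2 <;> simp [e0, e2, hb1]
      rw [e, hm.add, hy, hsP]
      apply ext2 <;> simp [e0, Tens.e1]
    · have h1 : P b.2 ≠ 0 := fun h1 => hb2 (hP.1 (h1.trans hP0.symm))
      simp [hb1, h1, hb2]
  by_cases hb2 : b.2 = 0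
  · right
    obtain ⟨s, hs, hT⟩ := h.s_swap S hSN
    have h0 := (fix_iff h.hN (hSN hs)).1 (Mv.of_nor (hSR hs))
    have hm := nm (D := D) h.hN (hSN hs)
    obtain ⟨a', P, hP, hP0, hsP⟩ := hm.swap_e1 ht0 ht1 h0 hT
    refine ⟨s, hs, fun a => ?_⟩
    obtain ⟨y, hy⟩ := h0 a
    refine ⟨y + a' * P b.1, (0, P b.1), ?_, ?_⟩
    · rw [conj_eq_iff (D := D) h.hN (hSN hs) (D.cE_mem _ _ _) (D.cE_mem _ _ _), D.e_cE, D.e_cE]
      have e : (!![a, b.1; b.2, 0] : M2 F) = e0 a + e1 b.1 := by apply ext2 <;> simp [e0, Tens.e1, hb2]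
      rw [e, hm.add, hy, hsP]
      apply ext2 <;> simp [e0, e2]
    · have h1 : P b.1 ≠ 0 := fun h1 => hb1 (hP.1 (h1.trans hP0.symm))
      simp [hb1, h1, hb2]
  · exact Or.inl (mul_ne_zero hb1 hb2)

end Cx

end Cfsg.Agent.Omega.NO1.PlusQ

end
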